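import Groth.Agent.BlowUpKoszul.ChartLocal
import Groth.Agent.CAlgH.RegularPoint
import Groth.Agent.KBC28.Local

/-!
# The chart of a blow-up at the divisor coordinate
-/

set_option autoImplicit false
set_option backward.isDefEq.respectTransparency false
set_option linter.style.haveILetI false
set_option maxSynthPendingDepth 3
set_option maxHeartbeats 800000
set_option synthInstance.maxHeartbeats 100000

universe u

open MvPolynomial RingTheory.Sequence
open Groth.Agent.CAlgH.KoszulRegular Groth.Agent.BlowUpKoszul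

noncomputable section

namespace Groth.Agent.KRR28

variable {A : Type u} [CommRing A] {I : Ideal A} {m : ℕ} (f : Fin (m + 1) → A)

/-- The fractions in the chart at `f 0`. -/
def rat (hI : I = Ideal.span (Set.range f)) (j : Fin m) : CR I (f 0) :=
  ⟨ratio f 0 j, by
    show _ ∈ BlowUp.affineAlgebra A I (f 0)
    rw [← range_aeval_ratio f 0 hI]
    exact ⟨X j, aeval_X _ j⟩⟩

variable (hI : I = Ideal.span (Set.range f))

theorem algebraMap_mul_rat (j : Fin m) :
    algebraMap A (CR I (f 0)) (f 0) * rat f hI j = algebraMap A (CR I (f 0)) (f j.succ) := by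
  refine Subtype.ext ?_
  show algebraMap A (Localization.Away (f 0)) (f 0) * ratio f 0 j = algebraMap A _ (f j.succ)
  rw [algebraMap_mul_ratio, Fin.succAbove_zero]

theorem aeval_rat_val (p : MvPolynomial (Fin m) A) :
    ((aeval (rat f hI) p : CR I (f 0)) : Localization.Away (f 0)) = aeval (ratio f 0) p :=
  AlgHom.congr_fun (MvPolynomial.comp_aeval (rat f hI) (BlowUp.affineAlgebra A I (f 0)).val) p

theorem aeval_rat_surjective : Function.Surjective (aeval (R := A) (rat f hI)) := fun ⟨z, hz⟩ => by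
  rw [← range_aeval_ratio f 0 hI] at hz
  obtain ⟨r, hr⟩ := hz
  exact ⟨r, Subtype.ext ((aeval_rat_val f hI r).trans hr)⟩

/-- Modulo `f 0` the chart is affine space over `A/I`, with coordinates the fractions. -/
theorem exists_chart_map (hf : KReg f) :
    ∃ χ : CR I (f 0) →+* MvPolynomial (Fin m) (A ⧸ I), Function.Surjective χ ∧
      RingHom.ker χ = Ideal.span {algebraMap A (CR I (f 0)) (f 0)} ∧ ∀ j, χ (rat f hI j) = X j := by
  let R := CR I (f 0)
  let t : R := algebraMap A R (f 0)
  let φ : MvPolynomial (Fin m) A →ₐ[A] R := aeval (rat f hI)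
  have hφ : Function.Surjective φ := aeval_rat_surjective f hI
  have hker : RingHom.ker φ.toRingHom = Ideal.span (Set.range (rel f 0)) := by
    rw [← ker_aeval_ratio f 0 hf]
    ext r
    rw [RingHom.mem_ker, RingHom.mem_ker]
    show φ r = 0 ↔ aeval (ratio f 0) r = 0
    rw [← aeval_rat_val f hI r]
    exact Subtype.ext_iff
  let g : MvPolynomial (Fin m) A →+* MvPolynomial (Fin m) (A ⧸ I) := MvPolynomial.map (Ideal.Quotient.mk I)
  have hfI : ∀ i, Ideal.Quotient.mk I (f i) = 0 := fun i =>
    Ideal.Quotient.eq_zero_iff_mem.2 (hI ▸ Ideal.subset_span ⟨i, rfl⟩)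
  have hg : RingHom.ker φ.toRingHom ≤ RingHom.ker g := by
    rw [hker, Ideal.span_le]
    rintro _ ⟨j, rfl⟩
    simp [g, rel, hfI]
  let χ : R →+* MvPolynomial (Fin m) (A ⧸ I) := φ.toRingHom.liftOfSurjective hφ ⟨g, hg⟩
  have hχ : ∀ p, χ (φ p) = g p := fun p => φ.toRingHom.liftOfRightInverse_comp_apply _ _ ⟨g, hg⟩ p
  have hχs : Function.Surjective χ := fun z => by
    obtain ⟨p, hp⟩ := MvPolynomial.map_surjective (σ := Fin m) _ Ideal.Quotient.mk_surjective z
    exact ⟨φ p, (hχ p).trans hp⟩
  have hχk : RingHom.ker χ = Ideal.span {t} := by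
    refine le_antisymm (fun b hb => ?_) ?_
    · obtain ⟨p, rfl⟩ := hφ b
      have hp : p ∈ RingHom.ker g := by rw [RingHom.mem_ker, ← hχ]; exact hb
      rw [show RingHom.ker g = _ from MvPolynomial.ker_map _, Ideal.mk_ker, hI, Ideal.map_span] at hp
      have h := Ideal.mem_map_of_mem φ.toRingHom hp
      rw [Ideal.map_span] at h
      refine Ideal.span_le.2 ?_ h
      rintro _ ⟨_, ⟨_, ⟨i, rfl⟩, rfl⟩, rfl⟩
      rw [SetLike.mem_coe, AlgHom.toRingHom_eq_coe, RingHom.coe_coe, ← algebraMap_eq, AlgHom.commutes,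
        Ideal.mem_span_singleton']
      rcases Fin.eq_zero_or_eq_succ i with rfl | ⟨j, rfl⟩
      · exact ⟨1, one_mul _⟩
      · exact ⟨rat f hI j, (mul_comm _ _).trans (algebraMap_mul_rat f hI j)⟩
    · rw [Ideal.span_singleton_le_iff_mem, RingHom.mem_ker, show t = φ (C (f 0)) by
        rw [← algebraMap_eq, AlgHom.commutes], hχ]
      simp [g, hfI]
  refine ⟨χ, hχs, hχk, fun j => ?_⟩
  rw [show rat f hI j = φ (X j) from (aeval_X _ j).symm, hχ]
  simp [g]

theorem weaklyRegular_cons_of_quotient {R S : Type u} [CommRing R] [CommRing S] (χ : R →+* S)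
    (hχ : Function.Surjective χ) (t : R) (hk : RingHom.ker χ = Ideal.span {t}) (ht : IsSMulRegular R t) (rs : List R)
    (hrs : IsWeaklyRegular S (rs.map χ)) : IsWeaklyRegular R (t :: rs) := by
  rw [isWeaklyRegular_cons_iff]
  refine ⟨ht, ?_⟩
  letI := χ.toAlgebra
  let e : QuotSMulTop t R ≃ₗ[R] S :=
    (Submodule.quotEquivOfEq _ _ (by
      rw [← Submodule.ideal_span_singleton_smul, smul_eq_mul, Ideal.mul_top, ← hk]
      rfl)).trans (LinearMap.quotKerEquivOfSurjective (Algebra.linearMap R S) hχ)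
  exact (e.isWeaklyRegular_congr _).2 ((isWeaklyRegular_map_algebraMap_iff S S _).1 hrs)

/-- `f 0, T_1, …, T_m` is a regular sequence in the chart. -/
theorem isWeaklyRegular_chart (hf : KReg f) :
    IsWeaklyRegular (CR I (f 0)) (algebraMap A (CR I (f 0)) (f 0) :: List.ofFn (rat f hI)) := by
  obtain ⟨χ, hχ, hk, hX⟩ := exists_chart_map f hI hf
  refine weaklyRegular_cons_of_quotient χ hχ _ hk
    (fun a b h => sub_eq_zero.1 (isSMulRegular_chart _ _ ((mul_sub _ _ _).trans (sub_eq_zero.2 h)))) _ ?_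
  rw [List.map_ofFn, show (⇑χ ∘ rat f hI) = X from funext hX]
  exact CAlgH.RegularPoint.isWeaklyRegular_X (A ⧸ I) m

/-- The kernel of an extension to the chart of a map killing `f 1, …, f m`. -/
theorem ker_eq_span_rat {Q : Type u} [CommRing Q] (φ : A →+* Q) (ψ : CR I (f 0) →+* Q)
    (hψ : ψ.comp (algebraMap A (CR I (f 0))) = φ)
    (hk : RingHom.ker φ = Ideal.span (Set.range fun j : Fin m => f j.succ)) (h0 : IsLeftRegular (φ (f 0))) :
    RingHom.ker ψ = Ideal.span (Set.range (rat f hI)) := by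
  have hrat : ∀ j, ψ (rat f hI j) = 0 := fun j => h0 (by
    show φ (f 0) * _ = φ (f 0) * 0
    rw [mul_zero, ← hψ, RingHom.comp_apply, ← map_mul, algebraMap_mul_rat]
    exact (RingHom.congr_fun hψ _).trans (RingHom.mem_ker.1 (hk ▸ Ideal.subset_span ⟨j, rfl⟩)))
  refine le_antisymm ?_ (Ideal.span_le.2 (by rintro _ ⟨j, rfl⟩; exact hrat j))
  intro z hz
  obtain ⟨p, rfl⟩ := aeval_rat_surjective f hI z
  have hp : ∀ p : MvPolynomial (Fin m) A, (aeval (rat f hI) p : CR I (f 0)) -
      algebraMap A (CR I (f 0)) (constantCoeff p) ∈ Ideal.span (Set.range (rat f hI)) := fun p => by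
    induction p using MvPolynomial.induction_on with
    | C a => simp
    | add p q hp hq =>
      rw [map_add, map_add, map_add, add_sub_add_comm]
      exact add_mem hp hq
    | mul_X p j hp =>
      rw [map_mul, map_mul, aeval_X, constantCoeff_X, mul_zero, map_zero, sub_zero]
      exact Ideal.mul_mem_left _ _ (Ideal.subset_span ⟨j, rfl⟩)
  have h1 : φ (constantCoeff p) = 0 := by
    have h2 : Ideal.span (Set.range (rat f hI)) ≤ RingHom.ker ψ := Ideal.span_le.2 (by
      rintro _ ⟨j, rfl⟩; exact hrat j)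
    have h3 := h2 (hp p)
    rw [RingHom.mem_ker, map_sub, RingHom.mem_ker.1 hz, zero_sub, neg_eq_zero, ← RingHom.comp_apply, hψ] at h3
    exact h3
  have h4 : algebraMap A (CR I (f 0)) (constantCoeff p) ∈ Ideal.span (Set.range (rat f hI)) := by
    have h5 : constantCoeff p ∈ Ideal.span (Set.range fun j : Fin m => f j.succ) := hk ▸ RingHom.mem_ker.2 h1
    refine Ideal.span_le.2 ?_ ((Ideal.map_span (algebraMap A (CR I (f 0))) _).le (Ideal.mem_map_of_mem _ h5))
    rintro _ ⟨_, ⟨j, rfl⟩, rfl⟩
    rw [SetLike.mem_coe, ← algebraMap_mul_rat f hI j]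
    exact Ideal.mul_mem_left _ _ (Ideal.subset_span ⟨j, rfl⟩)
  simpa using add_mem (hp p) h4

open IsLocalRing in
/-- Two regular sequences generating the same proper ideal of a Noetherian local ring have the same length. -/
theorem length_eq_of_ofList_eq {A : Type u} [CommRing A] [IsLocalRing A] [IsNoetherianRing A] {J : Ideal A}
    (hJ : J ≤ maximalIdeal A) : ∀ {rs rs' : List A}, IsWeaklyRegular A rs → Ideal.ofList rs = J →
    IsWeaklyRegular A rs' → Ideal.ofList rs' = J → rs.length = rs'.length := by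
  suffices key : ∀ {rs rs' : List A}, IsWeaklyRegular A rs → Ideal.ofList rs = J →
      IsWeaklyRegular A rs' → Ideal.ofList rs' = J → rs'.length ≤ rs.length by
    intro rs rs' h1 h2 h3 h4
    exact le_antisymm (key h3 h4 h1 h2) (key h1 h2 h3 h4)
  intro rs rs' h1 h2 h3 h4
  by_contra hlt
  rw [not_le] at hlt
  let g : Fin rs'.length → A := fun i => if h : (i : ℕ) < rs.length then rs[(i : ℕ)] else 0
  have hg : Ideal.span (Set.range g) = J := by
    rw [← h2]
    refine le_antisymm (Ideal.span_le.2 ?_) (Ideal.span_le.2 ?_)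
    · rintro _ ⟨i, rfl⟩
      dsimp only [g]
      split_ifs with h
      · exact Ideal.subset_span (List.getElem_mem h)
      · exact zero_mem _
    · intro a ha
      obtain ⟨i, hi, rfl⟩ := List.getElem_of_mem (show a ∈ rs from ha)
      exact Ideal.subset_span ⟨⟨i, hi.trans hlt⟩, dif_pos hi⟩
  have hw := KBC28.isWeaklyRegular_of_card hJ h3 h4 hg rfl
  have hreg := hw.regular_mod_prev rs.length (by rw [List.length_ofFn]; exact hlt)
  rw [List.getElem_ofFn, show g ⟨rs.length, _⟩ = 0 from dif_neg (lt_irrefl _)] at hreg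
  have hsub := IsSMulRegular.zero_iff_subsingleton.1 hreg
  rw [Submodule.Quotient.subsingleton_iff, smul_eq_mul, Ideal.mul_top] at hsub
  have hle : Ideal.ofList ((List.ofFn g).take rs.length) ≤ J := by
    refine Ideal.span_le.2 fun a ha => ?_
    obtain ⟨i, rfl⟩ := List.mem_ofFn.1 (List.mem_of_mem_take ha)
    exact hg ▸ Ideal.subset_span ⟨i, rfl⟩
  exact (maximalIdeal.isMaximal A).ne_top (top_le_iff.1 (hsub.ge.trans (hle.trans hJ)))

end Groth.Agent.KRR28
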