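import Groth.Agent.KRR28.P1
import Groth.Agent.KRR28.Chart
import Groth.Agent.KPushPr28.Closed
import Groth.Agent.BlowUpCoh.Regular
import Groth.Agent.CycLib28.P1Subscheme
import Groth.Agent.FundLocal.SmoothImm

/-!
# The centre of the deformation to the normal cone
-/

set_option autoImplicit false
set_option backward.isDefEq.respectTransparency false
set_option linter.style.haveILetI false

universe u

open CategoryTheory CategoryTheory.Limits AlgebraicGeometry TopologicalSpace RingTheory.Sequence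
open Groth.Agent.CAlgH.KoszulRegular

noncomputable section

namespace Groth.Agent.KRR28

theorem kreg_reindex {R : Type u} [CommRing R] {n : ℕ} {f : Fin n → R} (σ : Equiv.Perm (Fin n)) (h : KReg f) :
    KReg (fun i => f (σ i)) := by
  refine kreg_congr_equiv (LinearMap.funLeft R R σ) (LinearMap.funLeft R R σ.symm) ?_ ?_ ?_ h
  · refine LinearMap.ext fun v => funext fun i => ?_
    simp [LinearMap.funLeft]
  · refine LinearMap.ext fun v => ?_
    simp only [LinearMap.comp_apply, Disc12.Koszul.functional_apply, LinearMap.funLeft_apply]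
    exact Equiv.sum_comp σ (fun i => v i * f i)
  · refine LinearMap.ext fun v => ?_
    simp only [LinearMap.comp_apply, Disc12.Koszul.functional_apply, LinearMap.funLeft_apply]
    refine (Equiv.sum_comp σ (fun i => v (σ.symm i) * f i)).symm.trans ?_
    simp

/-- Moving the last member of a Koszul regular family to the front. -/
theorem kreg_cons_of_snoc {R : Type u} [CommRing R] {n : ℕ} (a : Fin n → R) (t : R)
    (h : KReg (Fin.snoc a t : Fin (n + 1) → R)) : KReg (Fin.cons t a : Fin (n + 1) → R) := by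
  let σ : Fin (n + 1) → Fin (n + 1) := Fin.cons (Fin.last n) Fin.castSucc
  have hσ : Function.Injective σ := Fin.cons_injective_iff.2
    ⟨by rintro ⟨j, hj⟩; exact (Fin.castSucc_lt_last j).ne hj, Fin.castSucc_injective n⟩
  have h' := kreg_reindex (Equiv.ofBijective σ hσ.bijective_of_finite) h
  convert h' using 1
  funext i
  refine Fin.cases ?_ (fun j => ?_) i
  · simp [σ]
  · simp [σ]

variable {X Y : Scheme.{u}} (f : X ⟶ Y)

theorem sect_projSpaceMap (i : Fin (1 + 1)) :
    P1.sect X i ≫ KRR.projSpaceMap 1 f = f ≫ P1.sect Y i := by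
  refine pullback.hom_ext ?_ ?_
  · refine (Category.assoc _ _ _).trans ((congrArg (P1.sect X i ≫ ·) ((pullback.lift_fst _ _ _).trans
      (Category.comp_id _))).trans ((pullback.lift_fst _ _ _).trans ?_))
    refine Eq.trans ?_ ((Category.assoc _ _ _).trans (congrArg (f ≫ ·) (pullback.lift_fst _ _ _))).symm
    rw [← Category.assoc]
    exact congrArg (· ≫ P1.point i) (specULiftZIsTerminal.hom_ext _ _)
  · refine (Category.assoc _ _ _).trans ((congrArg (P1.sect X i ≫ ·) (pullback.lift_snd _ _ _)).trans ?_)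
    refine ((Category.assoc _ _ _).symm.trans (congrArg (· ≫ f) (pullback.lift_snd _ _ _))).trans ?_
    refine (Category.id_comp f).trans ((Category.comp_id f).symm.trans ?_)
    exact ((Category.assoc _ _ _).trans (congrArg (f ≫ ·) (pullback.lift_snd _ _ _))).symm

theorem isPullback_sect (i : Fin (1 + 1)) :
    IsPullback (P1.sect X i) f (KRR.projSpaceMap 1 f) (P1.sect Y i) := by
  refine (IsPullback.of_right ?_ (sect_projSpaceMap f i)
    (KPr28.isPullback_projSpaceMap 1 f (pullback.lift_snd _ _ _)).flip)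
  rw [P1Lib24.sect_toBase, P1Lib24.sect_toBase]
  exact IsPullback.of_horiz_isIso ⟨by simp⟩

theorem comap_sectIdeal [IsClosedImmersion f] (i : Fin (1 + 1)) :
    (sectIdeal Y i).comap (KRR.projSpaceMap 1 f) = sectIdeal X i := by
  have h := (isPullback_sect f i).flip
  rw [sectIdeal, sectIdeal, ← CycLib28.ker_pullback_snd]
  conv_rhs => rw [← h.isoPullback_hom_snd, Scheme.Hom.ker_comp_of_isIso]

theorem ker_projSpaceMap [IsClosedImmersion f] :
    (KRR.projSpaceMap 1 f).ker = f.ker.comap (KRR.pr 1 Y) := by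
  have h := (KPr28.isPullback_projSpaceMap 1 f (pullback.lift_snd _ _ _)).flip
  rw [← CycLib28.ker_pullback_snd]
  conv_lhs => rw [← h.isoPullback_hom_snd, Scheme.Hom.ker_comp_of_isIso]

instance isClosedImmersion_projSpaceMap [IsClosedImmersion f] : IsClosedImmersion (KRR.projSpaceMap 1 f) :=
  MorphismProperty.of_isPullback (KPr28.isPullback_projSpaceMap 1 f (pullback.lift_snd _ _ _)).flip inferInstance

/-- The centre of the deformation: `X` at infinity. -/
def centre : X ⟶ KRR.PY 1 Y := f ≫ P1.sect Y 1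

variable [IsLocallyNoetherian Y] [IsLocallyNoetherian X]

/-- Coordinates of the centre near a point of `P^1_X`. -/
theorem exists_coords (hf : Mor2.IsRegularClosedImmersion f) {d : ℕ}
    (hC : FlatMod.IsFinLocFreeOfRank d (Omega.conormal f)) (z : KRR.PY 1 X) :
    ∃ (U : (KRR.PY 1 Y).affineOpens) (F : Fin (d + 1) → Γ(KRR.PY 1 Y, U.1)),
      KRR.projSpaceMap 1 f z ∈ U.1 ∧ (sectIdeal Y 1).ideal U = Ideal.span {F 0} ∧
      (centre f).ker.ideal U = Ideal.span (Set.range F) ∧ KReg F ∧
      (KRR.projSpaceMap 1 f).ker.ideal U = Ideal.span (Set.range fun j : Fin d => F j.succ) ∧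
      IsWeaklyRegular Γ(KRR.PY 1 Y, U.1) ((List.ofFn fun j : Fin d => F j.succ) ++ [F 0]) := by
  haveI := hf.1
  let g := KRR.projSpaceMap 1 f
  obtain ⟨U₀, hU₀, hz₀, rs, hrs, hkerf⟩ := hf.2 (KRR.pr 1 X z)
  have hlen : rs.length = d := by
    obtain ⟨A, hxA, ⟨eA⟩⟩ := hC (KRR.pr 1 X z)
    obtain ⟨(W : X.Opens), hW, hxW, hle⟩ := Opens.isBasis_iff_nbhd.mp X.isBasis_affineOpens
      (show KRR.pr 1 X z ∈ f ⁻¹ᵁ U₀ ⊓ A from ⟨hz₀, hxA⟩)
    obtain ⟨b₁⟩ := FundLocal.exists_basis_conormal f hU₀ hrs.toIsWeaklyRegular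
      ((Scheme.Hom.ker_apply f ⟨U₀, hU₀⟩).symm.trans hkerf) hW (hle.trans inf_le_left)
    obtain ⟨b₂⟩ := Props12.exists_basis_sections eA (hle.trans inf_le_right)
    haveI : Nontrivial Γ(X, W) := by
      haveI : Nonempty ((W : X.Opens).toScheme) := ⟨⟨_, hxW⟩⟩
      infer_instance
    have h := Fintype.card_congr (b₁.indexEquiv b₂)
    rwa [Fintype.card_fin, Fintype.card_fin] at h
  subst hlen
  have hzU : KRR.pr 1 Y (g z) ∈ U₀ := by
    rw [← Scheme.Hom.comp_apply, show g ≫ KRR.pr 1 Y = KRR.pr 1 X ≫ f from pullback.lift_snd _ _ _]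
    exact hz₀
  obtain ⟨U, hzU', hle, t, ht, htI⟩ := ModPairLib.exists_local (isEffCartier_sectIdeal Y 1) (g z)
    (KRR.pr 1 Y ⁻¹ᵁ U₀) hzU
  let ρ := ((KRR.pr 1 Y).appLE U₀ U.1 hle).hom
  have hflat : ρ.Flat := by
    haveI : Flat (KRR.pr 1 Y) := Coherent.flat_toBase 1 Y
    exact (KRR.pr 1 Y).flat_appLE hU₀ U.2 hle
  letI := ρ.toAlgebra
  haveI : Module.Flat Γ(Y, U₀) Γ(KRR.PY 1 Y, U.1) := hflat
  have hgker : g.ker.ideal U = Ideal.ofList (rs.map ρ) := by
    rw [ker_projSpaceMap f, ProjLib.comap_ideal_eq _ _ ⟨U₀, hU₀⟩ U hle, hkerf, Ideal.map_ofList]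
  let a : Fin rs.length → Γ(KRR.PY 1 Y, U.1) := fun j => ρ (rs.get j)
  have hlist : List.ofFn a = rs.map ρ := by
    show List.ofFn (ρ ∘ rs.get) = _
    rw [← List.map_ofFn, List.ofFn_get]
  have hspan : Ideal.span (Set.range a) = Ideal.ofList (rs.map ρ) := by
    rw [← hlist]
    exact congrArg Ideal.span (Set.ext fun r => (List.mem_ofFn (f := a) (a := r)).symm)
  have hgU : IsAffineOpen (g ⁻¹ᵁ U.1) := U.2.preimage g
  have htX : (sectIdeal X 1).ideal ⟨_, hgU⟩ = Ideal.span {(g.app U.1).hom t} := by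
    rw [← comap_sectIdeal f 1, ProjLib.comap_ideal_eq _ g U ⟨_, hgU⟩ le_rfl, htI, Ideal.map_span,
      Set.image_singleton, ← Scheme.Hom.app_eq_appLE]
  have htreg := BlowUpLib.mem_nonZeroDivisors_of_eff (isEffCartier_sectIdeal X 1) htX
  have hweak : IsWeaklyRegular Γ(KRR.PY 1 Y, U.1) (List.ofFn (Fin.snoc a t : Fin (rs.length + 1) → _)) := by
    rw [List.ofFn_succ']
    simp only [Fin.snoc_castSucc, Fin.snoc_last, List.concat_eq_append, hlist]
    refine (isWeaklyRegular_append_iff _ _ _).2 ⟨IsWeaklyRegular.of_flat hrs.toIsWeaklyRegular, ?_⟩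
    rw [isWeaklyRegular_singleton_iff]
    intro x y hxy
    obtain ⟨x, rfl⟩ := Submodule.Quotient.mk_surjective _ x
    obtain ⟨y, rfl⟩ := Submodule.Quotient.mk_surjective _ y
    simp only [← Submodule.Quotient.mk_smul, Submodule.Quotient.eq, smul_eq_mul, Ideal.mul_top, ← hgker,
      Scheme.Hom.ker_apply, RingHom.mem_ker, map_sub, map_mul] at hxy ⊢
    exact sub_eq_zero.2 ((mul_cancel_left_mem_nonZeroDivisors htreg).1 (sub_eq_zero.1 hxy))
  refine ⟨U, Fin.cons t a, hzU', by rw [Fin.cons_zero]; exact htI, ?_, kreg_cons_of_snoc a t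
    (CAlgH.KoszulH1.kreg_of_isWeaklyRegular hweak), ?_, by
      simp only [Fin.cons_succ, Fin.cons_zero]
      rw [List.ofFn_succ'] at hweak
      simpa only [Fin.snoc_castSucc, Fin.snoc_last, List.concat_eq_append] using hweak⟩
  · haveI : IsClosedImmersion (g ∣_ U.1) := IsZariskiLocalAtTarget.restrict (isClosedImmersion_projSpaceMap f) U.1
    haveI : IsClosedImmersion (centre f) := by unfold centre; infer_instance
    have hc : centre f = P1.sect X 1 ≫ g := (sect_projSpaceMap f 1).symm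
    rw [hc]
    ext z
    rw [Fin.range_cons, Ideal.span_insert, hspan, ← hgker, Scheme.Hom.ker_apply]
    constructor
    · intro hz
      have hz' : ((g.app U.1).hom z) ∈ (sectIdeal X 1).ideal ⟨_, hgU⟩ := by
        rw [sectIdeal, Scheme.Hom.ker_apply, RingHom.mem_ker]
        rw [RingHom.mem_ker] at hz
        exact hz
      rw [htX] at hz'
      obtain ⟨r, hr⟩ := Ideal.mem_span_singleton'.1 hz'
      obtain ⟨r', rfl⟩ := CAlgH.RegImmStalk.app_surjective_of_restrict g U.2 r
      rw [Submodule.mem_sup]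
      refine ⟨r' * t, Ideal.mem_span_singleton'.2 ⟨r', rfl⟩, z - r' * t, ?_, add_sub_cancel _ _⟩
      rw [Scheme.Hom.ker_apply, RingHom.mem_ker, map_sub, map_mul, sub_eq_zero, hr]
    · intro hz
      rw [Submodule.mem_sup] at hz
      obtain ⟨u, hu, v, hv, rfl⟩ := hz
      obtain ⟨r, rfl⟩ := Ideal.mem_span_singleton'.1 hu
      rw [Scheme.Hom.ker_apply, RingHom.mem_ker] at hv
      have ht0 : (g.app U.1).hom t ∈ (sectIdeal X 1).ideal ⟨_, hgU⟩ := htX.ge (Ideal.mem_span_singleton_self _)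
      rw [sectIdeal, Scheme.Hom.ker_apply, RingHom.mem_ker] at ht0
      rw [RingHom.mem_ker]
      show ((P1.sect X 1).app _).hom ((g.app U.1).hom (r * t + v)) = 0
      rw [map_add, hv, add_zero, map_mul, map_mul, ht0, mul_zero]
  · simp only [Fin.cons_succ]
    rw [hspan]
    exact hgker

theorem koszulBasis_centre (hf : Mor2.IsRegularClosedImmersion f) {d : ℕ}
    (hC : FlatMod.IsFinLocFreeOfRank d (Omega.conormal f)) : BlowUpCoh.KoszulBasis (centre f).ker 0 := by
  haveI := hf.1
  haveI : IsClosedImmersion (centre f) := by unfold centre; infer_instance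
  refine BlowUpCoh.koszulBasis_of_local fun x hx => ?_
  have hx' : x ∈ ((centre f).ker.support : Set _) := hx
  rw [Scheme.Hom.support_ker] at hx'
  obtain ⟨y, rfl⟩ := (centre f).isClosedEmbedding.isClosed_range.closure_eq.le hx'
  obtain ⟨U, F, hU, -, hI, hF, -, -⟩ := exists_coords f hf hC (P1.sect X 1 y)
  rw [← Scheme.Hom.comp_apply, sect_projSpaceMap] at hU
  exact ⟨U, d, F, hU, Nat.zero_le _, hI, hF⟩

end Groth.Agent.KRR28

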