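import Groth.Agent.KRR28.Main

/-!
# Adams–Riemann–Roch for regular closed immersions, models in any universe
-/

set_option autoImplicit false
set_option backward.isDefEq.respectTransparency false
set_option linter.style.haveILetI false

universe v u

open CategoryTheory CategoryTheory.Limits AlgebraicGeometry LambdaRing

noncomputable section

namespace Groth.Agent.KRR28

theorem exists_isAmple_qproj {S Y : Scheme.{u}} [IsAffine S] [IsNoetherian Y] {qY : Y ⟶ S}
    (hqY : KRR.IsQProjOver qY) : ∃ A : Y.Modules, CohB1.IsAmple A := by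
  obtain ⟨n, i, hi, -⟩ := hqY
  haveI := hi
  haveI : QuasiCompact i := inferInstance
  exact FlatMor12.ProjectiveAmple.exists_isAmple_of_immersion (S := S)
    ⟨_, (AmpleLib.isAmple_structureModule_iff (X := S)).2 inferInstance⟩ i

theorem exists_isAmple_PY {Y : Scheme.{u}} [IsNoetherian Y] {A : Y.Modules} (hA : CohB1.IsAmple A) (n : ℕ) :
    ∃ B : (KRR.PY n Y).Modules, CohB1.IsAmple B := by
  haveI := KPushPr28.isNoetherian_PY n Y
  exact FlatMor12.ProjectiveAmple.exists_isAmple_of_immersion ⟨A, hA⟩ (𝟙 (KRR.PY n Y))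

theorem adams_pushCl_regular' {X Y : Scheme.{u}} [IsNoetherian Y] [ConnectedSpace ↥Y] {A : Y.Modules}
    (hA : CohB1.IsAmple A) (f : X ⟶ Y) (hf : Mor2.IsRegularClosedImmersion f) [ConnectedSpace ↥X] {d : ℕ}
    (hC : FlatMod.IsFinLocFreeOfRank d (Omega.conormal f))
    {KX KY : Type v} [CommRing KX] [LambdaOps KX] [CommRing KY] [LambdaOps KY] {PX : PosStructure KX}
    {PY : PosStructure KY} {φX : SGA6.Kvb X →+ KX} {φY : SGA6.Kvb Y →+ KY} (hKX : KRR.IsModel X KX PX φX)
    (hKY : KRR.IsModel Y KY PY φY) {h : KX →+ KY} (hh : KRR.IsPushCl f φX φY h) {j : ℕ} (hj : 1 ≤ j) (x : KX) :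
    adams PY j (h x) = h (KRR.bott PX j (φX (KRR.cl X (Omega.conormal f))) * adams PX j x) := by
  haveI := hf.1
  haveI : IsLocallyNoetherian X := LocallyOfFiniteType.isLocallyNoetherian f
  obtain ⟨KX', _, _, PX', φX', hX'⟩ := KModel28.exists_model X
  obtain ⟨KY', _, _, PY', φY', hY'⟩ := KModel28.exists_model Y
  obtain ⟨a, ha, haφ, hal, haug⟩ := KSplit28.exists_iso hX' hKX
  obtain ⟨b, hb, hbφ, hbl, hbug⟩ := KSplit28.exists_iso hY' hKY
  obtain ⟨h', hh', huniq⟩ := KPush28.existsUnique_isPushCl f (enough_of_ample hA) hf φX' hX'.bijective φY'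
  have hcomm : ∀ y, h (a y) = b (h' y) := fun y => by
    let B := RingEquiv.ofBijective b hb
    have : KRR.IsPushCl f φX' φY' (B.symm.toAddMonoidHom.comp (h.comp a.toAddMonoidHom)) := fun F hF n L π hL => by
      show B.symm (h (a (φX' (KRR.cl X F)))) = _
      rw [haφ, hh F hF n L π hL, map_sum]
      refine Finset.sum_congr rfl fun k _ => ?_
      rw [map_zsmul, ← hbφ]
      exact congrArg _ (B.symm_apply_apply _)
    rw [← huniq _ this]
    exact (B.apply_symm_apply _).symm
  obtain ⟨x, rfl⟩ := ha.2 x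
  rw [hcomm, ← KSplit28.map_adams' b hbl hbug, adams_pushCl_regular hA f hf hC hX' hY' hh' hj x, ← hcomm, map_mul,
    KSplit28.map_bott a hal haug, haφ, KSplit28.map_adams' a hal haug]

end Groth.Agent.KRR28
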