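import Groth.Agent.KRR28.Ann
import Groth.Agent.KRR28.Transfer
import Groth.Agent.AmpleLib.Ample

/-!
# The push-forward along a regular closed immersion raises the rational γ-filtration by the codimension
-/

set_option autoImplicit false
set_option backward.isDefEq.respectTransparency false
set_option linter.style.haveILetI false

universe w v u

open CategoryTheory CategoryTheory.Limits AlgebraicGeometry LambdaRing

noncomputable section

namespace Groth.Agent.KRR28

theorem gamma_map_hom {K : Type w} [CommRing K] [LambdaOps K] {K' : Type v} [CommRing K'] [LambdaOps K']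
    (g : K →+* K') (hl : ∀ (i : ℕ) (x : K), g (LambdaOps.lam i x) = LambdaOps.lam i (g x)) (k : ℕ) (x : K) :
    g (gamma k x) = gamma k (g x) := by
  unfold gamma
  split_ifs with h
  · exact map_one g
  · rw [map_sum]
    refine Finset.sum_congr rfl fun j _ => ?_
    rw [map_mul, map_natCast]
    split_ifs with h'
    · rw [map_zero]
    · rw [hl]

theorem gammaFiltration_map {K : Type w} [CommRing K] [LambdaOps K] {P : PosStructure K} {K' : Type v} [CommRing K']
    [LambdaOps K'] {P' : PosStructure K'} (g : K →+* K')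
    (hl : ∀ (i : ℕ) (x : K), g (LambdaOps.lam i x) = LambdaOps.lam i (g x))
    (haug : ∀ x, P'.aug (g x) = P.aug x) {n : ℕ} {x : K} (hx : x ∈ gammaFiltration P n) :
    g x ∈ gammaFiltration P' n := by
  rcases Nat.eq_zero_or_pos n with rfl | hn
  · simp [gammaFiltration]
  refine LambdaLib.gammaFiltration_induction P hn.ne' (motive := fun a => g a ∈ gammaFiltration P' n)
    (fun l h1 h2 => ?_) (by simp) (fun a b ha hb => by rw [map_add]; exact add_mem ha hb)
    (fun a ha => by rw [map_neg]; exact neg_mem ha) hx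
  have := LambdaLib.gamma_prod_mem P' (n := n) (l.map fun p => (p.1, g p.2)) (fun p hp => by
    obtain ⟨q, hq, rfl⟩ := List.mem_map.1 hp
    rw [haug]; exact h1 q hq) (by simpa [List.map_map, Function.comp_def] using h2)
  simpa [map_list_prod, List.map_map, Function.comp_def, gamma_map_hom g hl] using this

theorem gammaFiltration_map_symm {K : Type w} [CommRing K] [LambdaOps K] {P : PosStructure K} {K' : Type v}
    [CommRing K'] [LambdaOps K'] {P' : PosStructure K'} (g : K →+* K') (hg : Function.Bijective g)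
    (hl : ∀ (i : ℕ) (x : K), g (LambdaOps.lam i x) = LambdaOps.lam i (g x))
    (haug : ∀ x, P'.aug (g x) = P.aug x) {n : ℕ} {x : K} (hx : g x ∈ gammaFiltration P' n) :
    x ∈ gammaFiltration P n := by
  have h := gammaFiltration_map (P := P') (P' := P) (RingEquiv.ofBijective g hg).symm.toRingHom (fun i y => by
    obtain ⟨y, rfl⟩ := hg.2 y
    show (RingEquiv.ofBijective g hg).symm (LambdaOps.lam i (g y)) = LambdaOps.lam i ((RingEquiv.ofBijective g hg).symm (g y))
    rw [← hl]
    exact ((RingEquiv.ofBijective g hg).symm_apply_apply _).trans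
      (congrArg _ ((RingEquiv.ofBijective g hg).symm_apply_apply y).symm))
    (fun y => by
      obtain ⟨y, rfl⟩ := hg.2 y
      rw [haug]
      exact congrArg _ ((RingEquiv.ofBijective g hg).symm_apply_apply y)) hx
  rwa [show (RingEquiv.ofBijective g hg).symm.toRingHom (g x) = x from (RingEquiv.ofBijective g hg).symm_apply_apply x] at h

theorem rational_filtration_pushCl {X Y : Scheme.{u}} [IsNoetherian Y] [ConnectedSpace ↥Y] {A : Y.Modules}
    (hA : CohB1.IsAmple A) (f : X ⟶ Y) (hf : Mor2.IsRegularClosedImmersion f) [ConnectedSpace ↥X] {d : ℕ}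
    (hC : FlatMod.IsFinLocFreeOfRank d (Omega.conormal f))
    {KX KY : Type (u + 1)} [CommRing KX] [LambdaOps KX] [CommRing KY] [LambdaOps KY] {PX : PosStructure KX}
    {PY : PosStructure KY} {φX : SGA6.Kvb X →+ KX} {φY : SGA6.Kvb Y →+ KY} (hKX : KRR.IsModel X KX PX φX)
    (hKY : KRR.IsModel Y KY PY φY) {h : KX →+ KY} (hh : KRR.IsPushCl f φX φY h) {n : ℕ} {x : KX}
    (hx : x ∈ gammaFiltration PX n) : ∃ N : ℕ, 1 ≤ N ∧ (N : KY) * h x ∈ gammaFiltration PY (n + d) := by
  haveI := hf.1
  haveI : IsLocallyNoetherian X := LocallyOfFiniteType.isLocallyNoetherian f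
  haveI : CompactSpace X := f.isClosedEmbedding.compactSpace
  haveI : IsNoetherian X := {}
  have hB := AmpleLib.isAmple_pullback_of_isAffineHom f hA
  have hS := KSplit28.hasSplitting X KX PX φX hKX
  have hSY := KSplit28.hasSplitting Y KY PY φY hKY
  set c := φX (KRR.cl X (Omega.conormal f)) with hc
  have hc' : (c = 0 ∧ d = 0) ∨ (c ∈ PX.pos ∧ PX.aug c = d) := by
    rcases Nat.eq_zero_or_pos d with rfl | hd
    · exact .inl ⟨by rw [hc, KModel28.cl_isZero (KModel28.isZero_of_rank_zero hC), map_zero], rfl⟩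
    · exact .inr ⟨(hKX.mem_pos_iff _).2 ⟨d, _, hd, hC, rfl⟩, hKX.aug_cl _ _ hC⟩
  obtain ⟨M, hM⟩ := exists_annihilator hS (fun a ha => by
    simpa [ha] using KSplit28.isNilpotent_sub_aug hB hKX a) hc' 2 hx
  suffices H : ∀ i ≤ M, ∃ N : ℕ, 1 ≤ N ∧
      (N : KY) * h (ann PX 2 (KRR.bott PX 2 c) (n + d) (M - i) x) ∈ gammaFiltration PY (n + d + (M - i)) by
    simpa [ann] using H M le_rfl
  intro i
  induction i with
  | zero => exact fun _ => ⟨1, le_rfl, by rw [Nat.sub_zero, hM, map_zero, mul_zero]; exact zero_mem _⟩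
  | succ i ih =>
    intro hi
    obtain ⟨N, hN, hN'⟩ := ih (by omega)
    set k := M - (i + 1) with hk
    rw [show M - i = k + 1 by omega, ← add_assoc] at hN'
    refine LambdaLib.mem_rational_of_adams hSY (j := 2) le_rfl (n + d + k) _ ⟨N, hN, ?_⟩
    have e : h (ann PX 2 (KRR.bott PX 2 c) (n + d) (k + 1) x) = adams PY 2 (h (ann PX 2 (KRR.bott PX 2 c) (n + d) k x)) -
        ((2 : ℕ) : KY) ^ (n + d + k) * h (ann PX 2 (KRR.bott PX 2 c) (n + d) k x) := by
      show h (_ * adams PX 2 _ - ((2 : ℕ) : KX) ^ (n + d + k) * _) = _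
      rw [map_sub, adams_pushCl_regular' hA f hf hC hKX hKY hh one_le_two, ← Nat.cast_pow, ← Nat.cast_pow,
        ← nsmul_eq_mul, ← nsmul_eq_mul, map_nsmul]
    rwa [e] at hN'

theorem rational_filtration_pushCl' {X Y : Scheme.{u}} [IsNoetherian Y] [ConnectedSpace ↥Y] {A : Y.Modules}
    (hA : CohB1.IsAmple A) (f : X ⟶ Y) (hf : Mor2.IsRegularClosedImmersion f) [ConnectedSpace ↥X] {d : ℕ}
    (hC : FlatMod.IsFinLocFreeOfRank d (Omega.conormal f))
    {KX KY : Type v} [CommRing KX] [LambdaOps KX] [CommRing KY] [LambdaOps KY] {PX : PosStructure KX}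
    {PY : PosStructure KY} {φX : SGA6.Kvb X →+ KX} {φY : SGA6.Kvb Y →+ KY} (hKX : KRR.IsModel X KX PX φX)
    (hKY : KRR.IsModel Y KY PY φY) {h : KX →+ KY} (hh : KRR.IsPushCl f φX φY h) {n : ℕ} {x : KX}
    (hx : x ∈ gammaFiltration PX n) : ∃ N : ℕ, 1 ≤ N ∧ (N : KY) * h x ∈ gammaFiltration PY (n + d) := by
  haveI := hf.1
  haveI : IsLocallyNoetherian X := LocallyOfFiniteType.isLocallyNoetherian f
  obtain ⟨KX', _, _, PX', φX', hX'⟩ := KModel28.exists_model X
  obtain ⟨KY', _, _, PY', φY', hY'⟩ := KModel28.exists_model Y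
  obtain ⟨a, ha, haφ, hal, haug⟩ := KSplit28.exists_iso hX' hKX
  obtain ⟨b, hb, hbφ, hbl, hbug⟩ := KSplit28.exists_iso hY' hKY
  obtain ⟨h', hh', huniq⟩ := KPush28.existsUnique_isPushCl f (enough_of_ample hA) hf φX' hX'.bijective φY'
  have hcomm : ∀ y, h (a y) = b (h' y) := fun y => by
    let B := RingEquiv.ofBijective b hb
    have : KRR.IsPushCl f φX' φY' (B.symm.toAddMonoidHom.comp (h.comp a.toAddMonoidHom)) := fun F hF n L π hL => by
      show B.symm (h (a (φX' (KRR.cl X F)))) = _
      rw [haφ, hh F hF n L π hL, map_sum]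
      refine Finset.sum_congr rfl fun k _ => ?_
      rw [map_zsmul, ← hbφ]
      exact congrArg _ (B.symm_apply_apply _)
    rw [← huniq _ this]
    exact (B.apply_symm_apply _).symm
  obtain ⟨x, rfl⟩ := ha.2 x
  obtain ⟨N, hN, hN'⟩ := rational_filtration_pushCl hA f hf hC hX' hY' hh'
    (gammaFiltration_map_symm a ha hal haug hx)
  refine ⟨N, hN, ?_⟩
  have := gammaFiltration_map b hbl hbug hN'
  rwa [map_mul, map_natCast, ← hcomm] at this

end Groth.Agent.KRR28
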