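import Groth.Agent.KRR28.GrFrob
import Groth.Agent.KRR28.Filt

/-!
# Functoriality of `ℚGr` in isomorphisms of models
-/

set_option autoImplicit false
set_option linter.style.haveILetI false
set_option backward.isDefEq.respectTransparency false
set_option synthInstance.maxHeartbeats 100000

universe v w

open Finset LambdaRing Groth.Agent.LambdaLib
open scoped TensorProduct

noncomputable section

namespace Groth.Agent.KRR28

theorem aeval_map_aux {σ : Type*} {A : Type*} {B : Type*} [CommRing A] [CommRing B] [Algebra ℚ A] [Algebra ℚ B]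
    (φ : A →ₐ[ℚ] B) (f : σ → A) (p : MvPolynomial σ ℚ) :
    φ (MvPolynomial.aeval f p) = MvPolynomial.aeval (fun i => φ (f i)) p := by
  rw [← AlgHom.comp_apply, MvPolynomial.comp_aeval]

/-- A λ-homomorphism compatible with augmentations, between arbitrary universes. -/
structure Compat {K : Type v} [CommRing K] [LambdaOps K] (P : PosStructure K) {K' : Type w} [CommRing K']
    [LambdaOps K'] (P' : PosStructure K') (e : K →+* K') : Prop where
  lam : ∀ (i : ℕ) (x : K), e (LambdaOps.lam i x) = LambdaOps.lam i (e x)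
  aug : ∀ x, P'.aug (e x) = P.aug x

variable {K : Type v} [CommRing K] [LambdaOps K] {P : PosStructure K} {K' : Type w} [CommRing K'] [LambdaOps K']
  {P' : PosStructure K'} {e : K →+* K'}

theorem Compat.symm (h : Compat P P' e) (hb : Function.Bijective e) :
    Compat P' P (RingEquiv.ofBijective e hb).symm.toRingHom := by
  set E := RingEquiv.ofBijective e hb
  refine ⟨fun i x => ?_, fun x => ?_⟩
  · obtain ⟨x, rfl⟩ := hb.2 x
    show E.symm (LambdaOps.lam i (e x)) = LambdaOps.lam i (E.symm (E x))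
    rw [← h.lam, E.symm_apply_apply]
    exact E.symm_apply_apply _
  · obtain ⟨x, rfl⟩ := hb.2 x
    show P.aug (E.symm (E x)) = _
    rw [E.symm_apply_apply, h.aug]

theorem rees_map (h : Compat P P' e) {p : LaurentPolynomial K} (hp : p ∈ KGr.rees P) :
    AddMonoidAlgebra.mapRingHom ℤ e p ∈ KGr.rees P' := by
  induction hp using Subring.closure_induction with
  | mem q hq =>
    rcases hq with rfl | ⟨n, x, hx, rfl⟩
    · rw [LaurentPolynomial.T, AddMonoidAlgebra.mapRingHom_single, map_one]
      exact Subring.subset_closure (Set.mem_insert _ _)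
    · rw [← LaurentPolynomial.single_eq_C_mul_T, AddMonoidAlgebra.mapRingHom_single,
        LaurentPolynomial.single_eq_C_mul_T]
      exact mem_rees (gammaFiltration_map e h.lam h.aug hx)
  | zero => rw [map_zero]; exact zero_mem _
  | one => rw [map_one]; exact one_mem _
  | add q r _ _ hq hr => rw [map_add]; exact add_mem hq hr
  | neg q _ hq => rw [map_neg]; exact neg_mem hq
  | mul q r _ _ hq hr => rw [map_mul]; exact mul_mem hq hr

/-- The map of Rees rings. -/
def reesHom (h : Compat P P' e) : KGr.rees P →+* KGr.rees P' :=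
  ((AddMonoidAlgebra.mapRingHom ℤ e).comp (KGr.rees P).subtype).codRestrict _ fun p => rees_map h p.2

theorem span_le_comap (h : Compat P P' e) :
    Ideal.span {KGr.tGen P} ≤ (Ideal.span {KGr.tGen P'}).comap (reesHom h) := by
  rw [Ideal.span_le]
  rintro _ rfl
  refine Ideal.subset_span (Subtype.ext ?_)
  show AddMonoidAlgebra.mapRingHom ℤ e (LaurentPolynomial.T 1) = LaurentPolynomial.T 1
  rw [LaurentPolynomial.T, AddMonoidAlgebra.mapRingHom_single, map_one]
  rfl

/-- The map of graded rings. -/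
def grMap (h : Compat P P' e) : KGr.Gr P →ₐ[ℚ] KGr.Gr P' :=
  Algebra.TensorProduct.map (AlgHom.id ℚ ℚ)
    (Ideal.quotientMap (Ideal.span {KGr.tGen P'}) (reesHom h) (span_le_comap h)).toIntAlgHom

theorem grMap_grK_nat (h : Compat P P' e) {n : ℕ} {x : K} (hx : x ∈ gammaFiltration P n) :
    grMap h (KGr.grK P (n : ℤ) x) = KGr.grK P' (n : ℤ) (e x) := by
  have hx' := gammaFiltration_map (P' := P') e h.lam h.aug hx
  rw [grK_eq hx, grK_eq hx']
  show grMap h ((1 : ℚ) ⊗ₜ[ℤ] Ideal.Quotient.mk _ (⟨_, mem_rees hx⟩ : KGr.rees P)) =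
    (1 : ℚ) ⊗ₜ[ℤ] Ideal.Quotient.mk _ (⟨_, mem_rees hx'⟩ : KGr.rees P')
  rw [grMap, Algebra.TensorProduct.map_tmul]
  show (1 : ℚ) ⊗ₜ[ℤ] Ideal.quotientMap _ (reesHom h) (span_le_comap h) (Ideal.Quotient.mk _ _) = _
  rw [Ideal.quotientMap_mk]
  refine congrArg (fun p => (1 : ℚ) ⊗ₜ[ℤ] Ideal.Quotient.mk _ p) (Subtype.ext ?_)
  show AddMonoidAlgebra.mapRingHom ℤ e (LaurentPolynomial.C x * LaurentPolynomial.T (-(n : ℤ))) =
    LaurentPolynomial.C (e x) * LaurentPolynomial.T (-(n : ℤ))
  rw [← LaurentPolynomial.single_eq_C_mul_T, AddMonoidAlgebra.mapRingHom_single, LaurentPolynomial.single_eq_C_mul_T]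

theorem grMap_grK (h : Compat P P' e) {m : ℤ} {N : ℕ} (hN : 1 ≤ N) {x : K}
    (hx : (N : K) * x ∈ gammaFiltration P m.toNat) : grMap h (KGr.grK P m x) = KGr.grK P' m (e x) := by
  rcases lt_or_ge m 0 with hm | hm
  · rw [grK_neg P hm, grK_neg P' hm, map_zero]
  obtain ⟨n, rfl⟩ := Int.eq_ofNat_of_zero_le hm
  rw [Int.toNat_natCast] at hx
  have hx' : (N : K') * e x ∈ gammaFiltration P' n := by
    have := gammaFiltration_map (P' := P') e h.lam h.aug hx
    rwa [map_mul, map_natCast] at this
  rw [grK_rat P hN hx, grK_rat P' hN hx', map_smul, grMap_grK_nat h hx, map_mul, map_natCast]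

theorem grMap_chern (h : Compat P P' e) (i : ℕ) (x : K) :
    grMap h (KGr.chern P i x) = KGr.chern P' i (e x) := by
  rw [KGr.chern, KGr.chern, grMap_grK_nat h (gamma_mem P (by simp) le_rfl), gamma_map_hom e h.lam, map_sub,
    map_intCast, h.aug]

theorem grMap_chK (h : Compat P P' e) (d : ℕ) (x : K) : grMap h (KGr.chK P d x) = KGr.chK P' d (e x) := by
  rw [KGr.chK, KGr.chK, map_add, AlgHom.commutes, h.aug]
  exact congrArg (_ + ·) ((aeval_map_aux (A := KGr.Gr P) (B := KGr.Gr P') (grMap h) _ _).trans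
    (congrArg (fun g => MvPolynomial.aeval g _) (funext fun i => grMap_chern h _ x)))

theorem grMap_tdK (h : Compat P P' e) (d : ℕ) (x : K) : grMap h (KGr.tdK P d x) = KGr.tdK P' d (e x) := by
  rw [KGr.tdK, KGr.tdK]
  exact (aeval_map_aux (A := KGr.Gr P) (B := KGr.Gr P') (grMap h) _ _).trans
    (congrArg (fun g => MvPolynomial.aeval g _) (funext fun i => grMap_chern h _ x))

end Groth.Agent.KRR28
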