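import Groth.Agent.KRR28.Chart
import Groth.Agent.SDiv28.RegularSpread
import Groth.Agent.FundLocal.SmoothImm

/-!
# Regular immersions from regular sequences at the stalks
-/

set_option autoImplicit false
set_option backward.isDefEq.respectTransparency false
set_option linter.style.haveILetI false

universe u

open CategoryTheory CategoryTheory.Limits AlgebraicGeometry TopologicalSpace RingTheory.Sequence

noncomputable section

namespace Groth.Agent.KRR28

variable {Z X : Scheme.{u}}

theorem isWeaklyRegular_germ {U : X.Opens} (hU : IsAffineOpen U) {x : X} (hx : x ∈ U) {rs : List Γ(X, U)}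
    (h : IsWeaklyRegular Γ(X, U) rs) :
    IsWeaklyRegular (X.presheaf.stalk x) (rs.map (X.presheaf.germ U x hx).hom) := by
  let := X.presheaf.algebra_section_stalk ⟨x, hx⟩
  have := hU.isLocalization_stalk ⟨x, hx⟩
  haveI : Module.Flat Γ(X, U) (X.presheaf.stalk x) :=
    IsLocalization.flat _ (hU.primeIdealOf ⟨x, hx⟩).asIdeal.primeCompl
  exact IsWeaklyRegular.of_flat (S := X.presheaf.stalk x) h

/-- A closed immersion cut out at each stalk by a regular sequence of length `d`. -/
theorem regular_of_stalks [IsLocallyNoetherian X] (i : Z ⟶ X) [IsClosedImmersion i] {d : ℕ}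
    (h : ∀ z : Z, ∃ rs : List (X.presheaf.stalk (i z)), rs.length = d ∧
      IsWeaklyRegular (X.presheaf.stalk (i z)) rs ∧ RingHom.ker (i.stalkMap z).hom = Ideal.ofList rs) :
    Mor2.IsRegularClosedImmersion i ∧ FlatMod.IsFinLocFreeOfRank d (Omega.conormal i) := by
  suffices key : ∀ z : Z, ∃ (U : X.affineOpens), i z ∈ U.1 ∧ ∃ rs : List Γ(X, U.1), rs.length = d ∧
      IsRegular Γ(X, U.1) rs ∧ RingHom.ker (i.app U.1).hom = Ideal.ofList rs by
    refine ⟨⟨inferInstance, fun z => ?_⟩, FundLocal.isFinLocFreeOfRank_conormal i ⟨inferInstance, fun z => ?_⟩⟩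
    · obtain ⟨U, hzU, rs, -, hrs, hker⟩ := key z
      exact ⟨U.1, U.2, hzU, rs, hrs, (Scheme.Hom.ker_apply i U).trans hker⟩
    · obtain ⟨U, hzU, rs, hlen, hrs, hker⟩ := key z
      exact ⟨U, hzU, IsZariskiLocalAtTarget.restrict ‹IsClosedImmersion i› U.1, rs, hlen, hrs, hker⟩
  intro z
  obtain ⟨rs₀, hlen₀, hw₀, hk₀⟩ := h z
  have hne : Ideal.ofList rs₀ ≠ ⊤ := hk₀ ▸ RingHom.ker_ne_top _
  obtain ⟨V, hzV, hV⟩ := (SDiv28.RegSpread.iff_ker_stalk i z).2 ⟨rs₀,
    ⟨hw₀, by rw [smul_eq_mul, Ideal.mul_top]; exact hne.symm⟩, hk₀⟩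
  obtain ⟨W, hW, hzW, rs, hrs, hker⟩ := hV.2 ⟨z, hzV⟩
  have hU : IsAffineOpen (V.ι ''ᵁ W) := hW.image_of_isOpenImmersion V.ι
  have hz : i z ∈ V.ι ''ᵁ W := ⟨(i ∣_ V) ⟨z, hzV⟩, hzW, congrArg (fun f => f ⟨z, hzV⟩) (morphismRestrict_ι i V)⟩
  haveI := hV.1
  rw [Scheme.Hom.ker_apply (f := i ∣_ V), SDiv28.RegSpread.ker_restrict_app] at hker
  let rs' : List Γ(X, V.ι ''ᵁ W) := rs
  have hrs' : IsRegular Γ(X, V.ι ''ᵁ W) rs' := hrs
  have hker' : RingHom.ker (i.app (V.ι ''ᵁ W)).hom = Ideal.ofList rs' := hker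
  refine ⟨⟨_, hU⟩, hz, rs', ?_, hrs', hker'⟩
  haveI : IsClosedImmersion (i ∣_ (V.ι ''ᵁ W)) := IsZariskiLocalAtTarget.restrict ‹IsClosedImmersion i› _
  haveI : IsNoetherianRing (X.presheaf.stalk (i z)) := inferInstance
  rw [← hlen₀, ← List.length_map (X.presheaf.germ (V.ι ''ᵁ W) (i z) hz).hom (as := rs')]
  exact length_eq_of_ofList_eq (IsLocalRing.le_maximalIdeal (RingHom.ker_ne_top (i.stalkMap z).hom))
    (isWeaklyRegular_germ hU hz hrs'.toIsWeaklyRegular)
    (by rw [← Ideal.map_ofList, ← hker', CAlgH.RegImmStalk.ker_stalkMap_eq i z hU hz]) hw₀ hk₀.symm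

/-- At a point of the zero locus of `t :: T` the tail is regular. -/
theorem isWeaklyRegular_tail {R : Type u} [CommRing R] [IsLocalRing R] [IsNoetherianRing R] {t : R} {T : List R}
    (h : IsWeaklyRegular R (t :: T)) (hm : ∀ r ∈ t :: T, r ∈ IsLocalRing.maximalIdeal R) : IsWeaklyRegular R T := by
  have := IsLocalRing.isWeaklyRegular_of_perm_of_subset_maximalIdeal h (List.perm_append_singleton t T).symm hm
  exact ((isWeaklyRegular_append_iff _ _ _).1 this).1

/-- Elements differing by a unit factor from those of a regular sequence. -/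
theorem isWeaklyRegular_unit_mul {R : Type u} [CommRing R] {u : R} (hu : IsUnit u) :
    ∀ {rs : List R}, IsWeaklyRegular R (rs.map (u * ·)) → IsWeaklyRegular R rs := by
  intro rs h
  refine SDiv28.RegSpread.isWeaklyRegular_congr_span ?_ h
  exact List.forall₂_map_left_iff.2 (List.forall₂_same.2 fun a _ => Ideal.span_singleton_mul_left_unit hu a)

/-- A total space with connected fibres over a connected base, the map being closed. -/
theorem connectedSpace_of_fibres {A B : Type*} [TopologicalSpace A] [TopologicalSpace B] [ConnectedSpace B]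
    {f : A → B} (hf : Continuous f) (hcl : IsClosedMap f) (hfib : ∀ b, IsConnected (f ⁻¹' {b})) :
    ConnectedSpace A := by
  have hsurj : Function.Surjective f := fun b => (hfib b).nonempty
  obtain ⟨b₀⟩ : Nonempty B := inferInstance
  obtain ⟨a₀, -⟩ := (hfib b₀).nonempty
  have h : (Set.univ : Set B).preimage f ⊆ connectedComponent a₀ := by
    rw [← (hcl.isQuotientMap hf hsurj).preimage_connectedComponent hfib a₀,
      PreconnectedSpace.connectedComponent_eq_univ]
  rw [connectedSpace_iff_connectedComponent]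
  exact ⟨a₀, Set.univ_subset_iff.1 h⟩

/-- A square is cartesian if it is after composing with a further morphism. -/
theorem isPullback_of_comp {C : Type*} [Category C] {A B D M N : C} {p : A ⟶ B} {q : A ⟶ D} {a : B ⟶ M}
    {c : D ⟶ M} (b : M ⟶ N) (h : IsPullback p q (a ≫ b) (c ≫ b)) (w : p ≫ a = q ≫ c) :
    IsPullback p q a c := by
  refine ⟨⟨w⟩, ⟨PullbackCone.IsLimit.mk w
    (fun s => h.lift s.fst s.snd (by rw [← Category.assoc, s.condition, Category.assoc]))
    (fun s => h.lift_fst _ _ _) (fun s => h.lift_snd _ _ _) fun s m h₁ h₂ => ?_⟩⟩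
  exact h.hom_ext (h₁.trans (h.lift_fst _ _ _).symm) (h₂.trans (h.lift_snd _ _ _).symm)

end Groth.Agent.KRR28
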