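import Groth.Agent.KRR28.Chart
import Groth.Agent.SDiv28.RegularSpread
import Groth.Agent.SDiv28.Charts
import Groth.Agent.BlowUpLib.Proper
import Groth.Agent.FundLocal.SmoothImm

/-!
# The strict transform of a subscheme meeting the centre in a divisor
-/

set_option autoImplicit false
set_option backward.isDefEq.respectTransparency false
set_option linter.style.haveILetI false

universe u

open CategoryTheory CategoryTheory.Limits AlgebraicGeometry TopologicalSpace RingTheory.Sequence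
open Groth.Agent.CAlgH.KoszulRegular Groth.Agent.BlowUpLib

noncomputable section

namespace Groth.Agent.KRR28

variable {P M Z : Scheme.{u}} {I : P.IdealSheafData} {b : M ⟶ P}

/-- The chart where `f 0` generates, over an affine open. -/
theorem exists_chart_equiv (hb : BlowUp.IsBlowUp b I) (U : P.affineOpens) {a : Γ(P, U.1)} (ha : a ∈ I.ideal U) :
    ∃ (hV : IsAffineOpen (locus I b U a)) (η : ↥(BlowUp.affineAlgebra Γ(P, U.1) (I.ideal U) a) ≃+* Γ(M, locus I b U a)),
      ∀ x, η (algebraMap Γ(P, U.1) _ x) = b.appLE U.1 (locus I b U a) (locus_le b U a) x := by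
  obtain ⟨e, he⟩ := SDiv28.exists_locus_iso hb U ha
  let V := locus I b U a
  have hV : IsAffineOpen V := IsAffine.of_isIso e.hom
  let R : CommRingCat.{u} := CommRingCat.of ↥(BlowUp.affineAlgebra Γ(P, U.1) (I.ideal U) a)
  let θ : R ⟶ Γ(M, V) := (Scheme.ΓSpecIso R).inv ≫ e.hom.appTop ≫ V.topIso.hom
  haveI : IsIso θ := inferInstance
  refine ⟨hV, (asIso θ).commRingCatIsoToRingEquiv, fun x => ?_⟩
  let α : Γ(P, U.1) ⟶ R := CommRingCat.ofHom (algebraMap Γ(P, U.1) ↥(BlowUp.affineAlgebra Γ(P, U.1) (I.ideal U) a))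
  have he' : (e.hom ≫ Spec.map α) ≫ U.2.fromSpec = V.ι ≫ b := by
    rw [Category.assoc]; exact he
  have hle : (⊤ : V.toScheme.Opens) ≤ (V.ι ≫ b) ⁻¹ᵁ U.1 := fun z _ => locus_le b U a z.2
  have h1 := fromSpec_comp_appLE (e.hom ≫ Spec.map α) (by rw [he']; exact hle)
  simp only [he'] at h1
  have h2 : b.appLE U.1 V (locus_le b U a) ≫ V.topIso.inv = (V.ι ≫ b).appLE U.1 ⊤ hle := by
    simp [Scheme.Hom.appLE, Scheme.Opens.topIso, ← Functor.map_comp]
    congr 1
  have h3 : α ≫ θ = b.appLE U.1 V (locus_le b U a) := by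
    rw [← cancel_mono V.topIso.inv, h2, h1, Scheme.Hom.comp_appTop]
    simp only [θ, Category.assoc, Iso.hom_inv_id, Category.comp_id]
    rw [← Scheme.ΓSpecIso_inv_naturality_assoc]
  exact ConcreteCategory.congr_hom h3 x

/-- The strict transform in the chart of the divisor coordinate. -/
theorem exists_strict_chart [IsLocallyNoetherian P] (hb : BlowUp.IsBlowUp b I) (g : Z ⟶ P) [IsClosedImmersion g]
    {F : Z ⟶ M} [IsClosedImmersion F] (hF : F ≫ b = g) (hgI : BlowUp.IsEffCartierIdeal (I.comap g)) (U : P.affineOpens) {d : ℕ}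
    (f : Fin (d + 1) → Γ(P, U.1)) (hI : I.ideal U = Ideal.span (Set.range f)) (hf : KReg f)
    (hker : g.ker.ideal U = Ideal.span (Set.range fun j : Fin d => f j.succ)) :
    ∃ (V : M.affineOpens) (hVU : V.1 ≤ b ⁻¹ᵁ U.1) (T : Fin d → Γ(M, V.1)),
      F ⁻¹ᵁ V.1 = g ⁻¹ᵁ U.1 ∧ F.ker.ideal V = Ideal.span (Set.range T) ∧
      IsWeaklyRegular Γ(M, V.1) (b.appLE U.1 V.1 hVU (f 0) :: List.ofFn T) ∧
      (I.comap b).ideal V = Ideal.span {(b.appLE U.1 V.1 hVU).hom (f 0)} ∧ V.1 = locus I b U (f 0) ∧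
      ∀ j, (b.appLE U.1 V.1 hVU).hom (f j.succ) = (b.appLE U.1 V.1 hVU).hom (f 0) * T j := by
  have ha : f 0 ∈ I.ideal U := hI ▸ Ideal.subset_span ⟨0, rfl⟩
  obtain ⟨hV, η, hη⟩ := exists_chart_equiv hb U ha
  have hgU : IsAffineOpen (g ⁻¹ᵁ U.1) := U.2.preimage g
  let φ := (g.appLE U.1 (g ⁻¹ᵁ U.1) le_rfl).hom
  have hkφ : RingHom.ker φ = Ideal.span (Set.range fun j : Fin d => f j.succ) := by
    rw [← hker, Scheme.Hom.ker_apply, show φ = (g.app U.1).hom by rw [Scheme.Hom.app_eq_appLE]]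
  have hgen : (I.comap g).ideal ⟨_, hgU⟩ = Ideal.span {φ (f 0)} := by
    rw [ProjLib.comap_ideal_eq I g U ⟨_, hgU⟩ le_rfl, hI, Ideal.map_span]
    refine le_antisymm (Ideal.span_le.2 ?_) (Ideal.span_le.2 ?_)
    · rintro _ ⟨_, ⟨i, rfl⟩, rfl⟩
      rcases Fin.eq_zero_or_eq_succ i with rfl | ⟨j, rfl⟩
      · exact Ideal.subset_span rfl
      · show φ (f j.succ) ∈ _
        have h0 : φ (f j.succ) = 0 := RingHom.mem_ker.1 (hkφ.ge (Ideal.subset_span ⟨j, rfl⟩))
        rw [h0]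
        exact zero_mem _
    · rintro _ rfl
      exact Ideal.subset_span ⟨f 0, ⟨0, rfl⟩, rfl⟩
  have hpre : F ⁻¹ᵁ locus I b U (f 0) = g ⁻¹ᵁ U.1 := by
    rw [preimage_locus ha b hb.1 F (hF ▸ hgI), hF]
    refine le_antisymm (locus_le g U (f 0)) fun z hz => ?_
    exact mem_locus.2 ⟨⟨_, hgU⟩, hz, le_rfl, hgen⟩
  let ψ := (F.appLE (locus I b U (f 0)) (g ⁻¹ᵁ U.1) hpre.ge).hom
  have hψ : (ψ.comp η.toRingHom).comp (algebraMap _ _) = φ := RingHom.ext fun x => by
    show ψ (η (algebraMap _ _ x)) = φ x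
    rw [hη]
    show ((b.appLE _ _ _) ≫ (F.appLE _ _ _)).hom x = _
    rw [Scheme.Hom.appLE_comp_appLE]
    simp only [hF, φ]
  have hreg : IsLeftRegular (φ (f 0)) := fun x y h =>
    (mul_cancel_left_mem_nonZeroDivisors (mem_nonZeroDivisors_of_eff hgI hgen)).1 h
  have hk := ker_eq_span_rat f hI φ (ψ.comp η.toRingHom) hψ hkφ hreg
  refine ⟨⟨_, hV⟩, locus_le b U (f 0), fun j => η (rat f hI j), hpre, ?_, ?_, ?_, rfl,
    fun j => by rw [← hη, ← hη, ← algebraMap_mul_rat f hI j, map_mul]⟩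
  · have e1 : RingHom.ker (F.app (locus I b U (f 0))).hom = RingHom.ker ψ := by
      show _ = RingHom.ker ((Z.presheaf.map _).hom.comp (F.app _).hom)
      rw [RingHom.ker_comp_of_injective]
      haveI : IsIso (homOfLE hpre.ge : (g ⁻¹ᵁ U.1 : Z.Opens) ⟶ F ⁻¹ᵁ locus I b U (f 0)) :=
        ⟨homOfLE hpre.le, rfl, rfl⟩
      exact (ConcreteCategory.bijective_of_isIso _).1
    rw [Scheme.Hom.ker_apply]
    refine e1.trans ?_
    ext z
    obtain ⟨z, rfl⟩ := η.surjective z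
    rw [RingHom.mem_ker, show (Set.range fun j => η (rat f hI j)) = η.toRingHom '' Set.range (rat f hI) from
      (Set.range_comp η.toRingHom (rat f hI)), ← Ideal.map_span, ← hk]
    constructor
    · intro hz
      exact Ideal.mem_map_of_mem _ hz
    · intro hz
      obtain ⟨y, hy, hye⟩ := (Ideal.mem_map_iff_of_surjective η.toRingHom η.surjective).1 hz
      rw [η.injective hye] at hy
      exact hy
  · have h := isWeaklyRegular_chart f hI hf
    have h' := (η.toAddEquiv.isWeaklyRegular_congr (as := algebraMap _ _ (f 0) :: List.ofFn (rat f hI))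
      (bs := η (algebraMap _ _ (f 0)) :: List.ofFn fun j => η (rat f hI j)) ?_).1 h
    · rwa [hη] at h'
    · rw [show (η (algebraMap _ _ (f 0)) :: List.ofFn fun j => η (rat f hI j)) =
        (algebraMap _ _ (f 0) :: List.ofFn (rat f hI)).map η by rw [List.map_cons, List.map_ofFn]; rfl]
      exact List.forall₂_map_right_iff.2 (List.forall₂_same.2 fun x _ y => map_mul η x y)
  · rw [ProjLib.comap_ideal_eq I b U ⟨_, hV⟩ (locus_le b U (f 0)), hI, Ideal.map_span]
    refine le_antisymm (Ideal.span_le.2 ?_) (Ideal.span_le.2 ?_)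
    · rintro _ ⟨_, ⟨i, rfl⟩, rfl⟩
      rcases Fin.eq_zero_or_eq_succ i with rfl | ⟨j, rfl⟩
      · exact Ideal.subset_span rfl
      · refine Ideal.mem_span_singleton'.2 ⟨η (rat f hI j), ?_⟩
        rw [← hη, ← hη, ← algebraMap_mul_rat f hI j, map_mul, mul_comm]
    · rintro _ rfl
      exact Ideal.subset_span ⟨f 0, ⟨0, rfl⟩, rfl⟩

end Groth.Agent.KRR28
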