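import Groth.Agent.InjMod14.Kosz.Divisor
import Groth.Agent.InjMod14.Kosz.Twist
import Groth.Agent.Inters29.PullIdeal
import Groth.Agent.EulerLib.Twist
import Groth.Agent.Coherent.FiniteType
import Groth.Agent.ModPairLib.Colon

/-!
# Pullbacks and products of ideal modules
-/

set_option autoImplicit false
set_option backward.isDefEq.respectTransparency.types false
set_option linter.style.haveILetI false

universe u

open CategoryTheory CategoryTheory.Limits AlgebraicGeometry Opposite TopologicalSpace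
open Groth.Agent.Coherent Groth.Agent.PicLib Groth.Agent.AmpleLib Groth.Agent.InjMod14.Kosz

noncomputable section

namespace Groth.Agent.KRR28

variable {X Y : Scheme.{u}}

section Pull

variable (h : Y ⟶ X) (I : X.IdealSheafData)

/-- The canonical map from the pullback of an ideal module to the functions. -/
def pullIdealFn : (Scheme.Modules.pullback h).obj (ClSub.idealMod I) ⟶ Coh.structureModule Y :=
  ((Scheme.Modules.pullbackPushforwardAdjunction h).homEquiv _ _).symm (ClSub.idealModι I ≫ ClSub.unitToPush h)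

theorem pullIdealFn_pullSec (U : X.Opens) (k : Γ(ClSub.idealMod I, U)) :
    (show Γ(Y, h ⁻¹ᵁ U) from (pullIdealFn h I).app (h ⁻¹ᵁ U) (pullSec h k)) = h.app U (ival I U k) :=
  homEquiv_symm_app_pullSec h _ k

theorem pullIdealFn_toSubscheme : pullIdealFn h I ≫ ClSub.toSubscheme (I.comap h) = 0 := by
  let ι := (I.comap h).subschemeι
  let k := IsClosedImmersion.lift I.subschemeι (ι ≫ h) (by
    rw [← Scheme.IdealSheafData.map_ker, Scheme.IdealSheafData.ker_subschemeι, Scheme.IdealSheafData.ker_subschemeι,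
      Scheme.IdealSheafData.le_map_iff_comap_le])
  have fac : k ≫ I.subschemeι = ι ≫ h := IsClosedImmersion.lift_fac _ _ _
  apply ((Scheme.Modules.pullbackPushforwardAdjunction h).homEquiv _ _).injective
  rw [Adjunction.homEquiv_naturality_right, pullIdealFn, Equiv.apply_symm_apply]
  conv_rhs => rw [Adjunction.homEquiv_unit, Functor.map_zero, comp_zero]
  refine Scheme.Modules.hom_ext _ _ fun U => ConcreteCategory.hom_ext _ _ fun a => ?_
  have h0 : I.subschemeι.app U (ival I U a) = 0 := (mem_range_idealModι I U _).1 ⟨a, rfl⟩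
  show (ι.app (h ⁻¹ᵁ U)).hom ((h.app U).hom (ival I U a)) = 0
  have : (ι ≫ h).app U = (k ≫ I.subschemeι).app U ≫ (I.comap h).subscheme.presheaf.map (eqToHom (by rw [fac])).op :=
    Scheme.Hom.congr_app fac.symm U
  have e := ConcreteCategory.congr_hom this (ival I U a)
  refine e.trans ?_
  show ((I.comap h).subscheme.presheaf.map _).hom ((k.app _).hom ((I.subschemeι.app U).hom (ival I U a))) = 0
  rw [h0, map_zero, map_zero]

/-- The canonical map onto the inverse image ideal. -/
def pullIdeal : (Scheme.Modules.pullback h).obj (ClSub.idealMod I) ⟶ ClSub.idealMod (I.comap h) :=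
  kernel.lift _ (pullIdealFn h I) (pullIdealFn_toSubscheme h I)

theorem ival_pullIdeal_pullSec (U : X.Opens) (k : Γ(ClSub.idealMod I, U)) :
    ival (I.comap h) (h ⁻¹ᵁ U) ((pullIdeal h I).app _ (pullSec h k)) = h.app U (ival I U k) := by
  show ((pullIdeal h I ≫ ClSub.idealModι (I.comap h)).app (h ⁻¹ᵁ U)) (pullSec h k) = _
  rw [show pullIdeal h I ≫ ClSub.idealModι (I.comap h) = pullIdealFn h I from kernel.lift_ι _ _ _]
  exact pullIdealFn_pullSec h I U k

theorem epi_pullIdeal : Epi (pullIdeal h I) := by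
  refine epi_of_locally_surjective _ fun W a y hy => ?_
  obtain ⟨U, hU, hyU, -⟩ := exists_isAffineOpen_mem_and_subset (x := h y) (U := (⊤ : X.Opens)) trivial
  obtain ⟨V, hV, hyV, hle⟩ := exists_isAffineOpen_mem_and_subset (x := y) (U := h ⁻¹ᵁ U ⊓ W) ⟨hyU, hy⟩
  have hVU : V ≤ h ⁻¹ᵁ U := fun z hz => (hle hz).1
  have hVW : V ≤ W := fun z hz => (hle hz).2
  refine ⟨V, hVW, hyV, ?_⟩
  let P := (Scheme.Modules.pullback h).obj (ClSub.idealMod I)
  suffices key : ∀ c ∈ (I.comap h).ideal ⟨V, hV⟩,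
      ∃ b : Γ(P, V), ival (I.comap h) V ((pullIdeal h I).app V b) = c by
    obtain ⟨b, hb⟩ := key _ (ival_mem (I.comap h) ⟨V, hV⟩ (resM _ hVW a))
    haveI := AmpleLib.mono_idealModι (I.comap h)
    exact ⟨b, app_injective_of_mono (ClSub.idealModι (I.comap h)) V hb⟩
  intro c hc
  rw [ProjLib.comap_ideal_eq I h ⟨U, hU⟩ ⟨V, hV⟩ hVU] at hc
  refine Submodule.span_induction (p := fun c _ => ∃ b : Γ(P, V), ival (I.comap h) V ((pullIdeal h I).app V b) = c)
    ?_ ?_ ?_ ?_ hc
  · rintro _ ⟨a₀, ha₀, rfl⟩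
    obtain ⟨k, rfl⟩ := exists_ival I ⟨U, hU⟩ ha₀
    refine ⟨resM P hVU (pullSec h k), ?_⟩
    show (ClSub.idealModι (I.comap h)).app V ((pullIdeal h I).app V (resM P hVU (pullSec h k))) = _
    rw [app_resM, app_resM]
    exact congrArg (Y.presheaf.map (homOfLE hVU).op) (ival_pullIdeal_pullSec h I U k)
  · exact ⟨0, by simp only [ival, map_zero]; rfl⟩
  · rintro c c' - - ⟨b, rfl⟩ ⟨b', rfl⟩
    exact ⟨b + b', by simp only [ival, map_add]; rfl⟩
  · rintro r c - ⟨b, rfl⟩
    refine ⟨r • b, ?_⟩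
    show (ClSub.idealModι (I.comap h)).app V ((pullIdeal h I).app V (r • b)) = r * _
    rw [Scheme.Modules.Hom.app_smul, Scheme.Modules.Hom.app_smul]
    rfl

end Pull

/-- The product with the ideal of an effective divisor. -/
theorem nonempty_idealMod_mul_eff (A : X.IdealSheafData) {B : X.IdealSheafData} (hB : BlowUp.IsEffCartierIdeal B) :
    Nonempty (CohB1.tensorMod (ClSub.idealMod A) (ClSub.idealMod B) ≅ ClSub.idealMod (A * B)) := by
  classical
  let m : CohB1.tensorMod (ClSub.idealMod A) (ClSub.idealMod B) ⟶ Coh.structureModule X :=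
    KoszTw.tensorMap (ClSub.idealModι A) (ClSub.idealModι B) ≫ (SecTwist.unitorR _).hom
  have hm : ∀ (U : X.Opens) (k : Γ(ClSub.idealMod A, U)) (l : Γ(ClSub.idealMod B, U)),
      (show Γ(X, U) from m.app U (AmpleLib.tmul k l)) = ival B U l * ival A U k := fun U k l => by
    show (SecTwist.unitorR (Coh.structureModule X)).hom.app U
      ((KoszTw.tensorMap (ClSub.idealModι A) (ClSub.idealModι B)).app U (AmpleLib.tmul k l)) = _
    refine (congrArg ((SecTwist.unitorR (Coh.structureModule X)).hom.app U) (KoszTw.tensorMap_tmul _ _ _ _ _)).trans ?_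
    exact SecTwist.unitorR_tmul (Coh.structureModule X) U ((ClSub.idealModι A).app U k) ((ClSub.idealModι B).app U l)
  -- small affine opens where `B` has a regular generator
  have hloc : ∀ (W : X.Opens) (x : X), x ∈ W → ∃ (V : X.affineOpens) (b : Γ(X, V.1)) (l : Γ(ClSub.idealMod B, V.1)),
      x ∈ V.1 ∧ V.1 ≤ W ∧ b ∈ nonZeroDivisors Γ(X, V.1) ∧ B.ideal V = Ideal.span {b} ∧
      IsGen (ClSub.idealMod B) V.1 l ∧ ival B V.1 l = b := fun W x hx => by
    obtain ⟨V, hxV, hVW, b, hb, hbV⟩ := ModPairLib.exists_local hB x W hx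
    obtain ⟨l, hl⟩ := exists_ival B V (hbV.ge (Ideal.mem_span_singleton_self _))
    exact ⟨V, b, l, hxV, hVW, hb, hbV, FlatMor12.IdealModGen.bijective_smul_of_affine_gen B V.2 hl
      (fun p q h => (mul_cancel_left_mem_nonZeroDivisors hb).1 h) hbV, hl⟩
  have h0 : m ≫ ClSub.toSubscheme (A * B) = 0 := hom_ext_local _ _ fun W x hx => by
    obtain ⟨V, b, l, hxV, hVW, -, hbV, hl, hlb⟩ := hloc W x hx
    refine ⟨V, hxV, hVW, fun z => ?_⟩
    obtain ⟨k, rfl⟩ := (twEquiv (ClSub.idealMod A) hl).surjective z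
    show (A * B).subschemeι.app V.1 (m.app V.1 (AmpleLib.tmul k l)) = 0
    rw [← RingHom.mem_ker, Scheme.IdealSheafData.ker_subschemeι_app]
    refine Eq.mpr (congrArg (fun t : Γ(X, V.1) => t ∈ (A * B).ideal V) (hm V.1 k l)) ?_
    rw [Scheme.IdealSheafData.ideal_mul, Pi.mul_apply, mul_comm (ival B V.1 l)]
    exact Ideal.mul_mem_mul (ival_mem A V k) (ival_mem B V l)
  let φ := kernel.lift (ClSub.toSubscheme (A * B)) m h0
  have hφ : φ ≫ ClSub.idealModι (A * B) = m := kernel.lift_ι _ _ _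
  have hval : ∀ (V : X.Opens) (k : Γ(ClSub.idealMod A, V)) (l : Γ(ClSub.idealMod B, V)),
      ival (A * B) V (φ.app V (AmpleLib.tmul k l)) = ival B V l * ival A V k := fun V k l =>
    (ConcreteCategory.congr_hom (congrArg (fun ψ => ψ.app V) hφ) (AmpleLib.tmul k l)).trans (hm V k l)
  haveI : Mono φ := mono_of_affine_nbhds φ fun W x hx => by
    obtain ⟨V, b, l, hxV, hVW, hb, -, hl, hlb⟩ := hloc W x hx
    refine ⟨V, hxV, hVW, fun z z' hzz => ?_⟩
    obtain ⟨k, rfl⟩ := (twEquiv (ClSub.idealMod A) hl).surjective z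
    obtain ⟨k', rfl⟩ := (twEquiv (ClSub.idealMod A) hl).surjective z'
    have e := congrArg (ival (A * B) V.1) hzz
    rw [twEquiv_apply, twEquiv_apply] at e
    rw [show ∀ k : Γ(ClSub.idealMod A, V.1), SecTwist.tmul _ _ V.1 k l = AmpleLib.tmul k l from fun _ => rfl,
      show ∀ k : Γ(ClSub.idealMod A, V.1), SecTwist.tmul _ _ V.1 k l = AmpleLib.tmul k l from fun _ => rfl,
      hval, hval, hlb] at e
    haveI := AmpleLib.mono_idealModι A
    rw [app_injective_of_mono (ClSub.idealModι A) V.1 ((mul_cancel_left_mem_nonZeroDivisors hb).1 e)]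
  haveI : Epi φ := epi_of_locally_surjective φ fun W a x hx => by
    obtain ⟨V, b, l, hxV, hVW, hb, hbV, hl, hlb⟩ := hloc W x hx
    have ha := ival_mem (A * B) V (resM _ hVW a)
    rw [Scheme.IdealSheafData.ideal_mul, Pi.mul_apply, hbV, Ideal.mem_mul_span_singleton] at ha
    obtain ⟨c, hc, hcb⟩ := ha
    obtain ⟨k, rfl⟩ := exists_ival A V hc
    refine ⟨V.1, hVW, hxV, AmpleLib.tmul k l, ?_⟩
    haveI := AmpleLib.mono_idealModι (A * B)
    refine app_injective_of_mono (ClSub.idealModι (A * B)) V.1 ?_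
    exact (hval V.1 k l).trans ((by rw [hlb, mul_comm] : ival B V.1 l * ival A V.1 k = ival A V.1 k * b).trans hcb)
  exact ⟨@asIso _ _ _ _ φ (isIso_of_mono_of_epi φ)⟩

end Groth.Agent.KRR28
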