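import Groth.Agent.CycLib28.P1Chart
import Groth.Agent.SDiv28.StalkCartier
import Groth.Agent.FlatMor12.IdealModGen
import Groth.Agent.InjMod14.Kosz.Divisor
import Groth.Agent.KPr28.Gen0
import Groth.Agent.CAlgH.PicPunctCriteria

/-!
# The divisors at zero and infinity of the projective line over a base
-/

set_option autoImplicit false
set_option backward.isDefEq.respectTransparency false
set_option linter.style.haveILetI false
noncomputable section
universe u

open AlgebraicGeometry CategoryTheory Limits TopologicalSpace HomogeneousLocalization TensorProduct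
open Groth.Agent.CycLib28 Groth.Agent.PicLib

namespace Groth.Agent.KRR28

section Coord

variable (i : Fin (1 + 1))

theorem exists_additive_retraction : ∃ r : Away P1.grading.{u} (P1.T i) →+ Away P1.grading.{u} (P1.T i),
    ∀ a, r (coordAway i * a) = a := by
  let e := P1Lib24.chartEquiv P1.R0.{u} i
  refine ⟨{ toFun := fun a => e.symm ((e a).divMonomial (Finsupp.single PUnit.unit 1))
            map_zero' := by simp
            map_add' := fun a b => by simp [MvPolynomial.add_divMonomial] }, fun a => ?_⟩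
  show e.symm ((e (coordAway i * a)).divMonomial _) = a
  rw [map_mul, chartEquiv_coordAway, MvPolynomial.X_mul_divMonomial, RingEquiv.symm_apply_apply]

end Coord

variable (Y : Scheme.{u})

set_option backward.isDefEq.respectTransparency.types false in
theorem isLeftRegular_germ_coord (i : Fin (1 + 1)) (q : CohB1.ProjSpaceOver 1 Y) (hq : q ∈ p1Open Y i) :
    IsLeftRegular (((CohB1.ProjSpaceOver 1 Y).presheaf.germ (p1Open Y i) q hq).hom (p1Coord Y i)) := by
  let X := Y
  obtain ⟨_, ⟨V, hV, rfl⟩, hqV, -⟩ := Y.isBasis_affineOpens.exists_subset_of_mem_open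
    (Set.mem_univ (CohB1.ProjSpaceOver.toBase 1 Y q)) isOpen_univ
  replace hV : IsAffineOpen V := hV
  letI : Algebra P1.R0.{u} (Away P1.grading.{u} (P1.T i)) :=
    Algebra.ofModule
      (fun r a b ↦ show (r.down • a) * b = r.down • (a * b) from HomogeneousLocalization.val_injective _ (by
        simp only [HomogeneousLocalization.val_mul, HomogeneousLocalization.val_smul, smul_mul_assoc]))
      (fun r a b ↦ show a * (r.down • b) = r.down • (a * b) from HomogeneousLocalization.val_injective _ (by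
        simp only [HomogeneousLocalization.val_mul, HomogeneousLocalization.val_smul, mul_smul_comm]))
  letI : Algebra P1.R0.{u} Γ(Y, V) :=
    Algebra.ofModule (fun r a b ↦ smul_mul_assoc r.down a b) (fun r a b ↦ mul_smul_comm r.down a b)
  let j : Spec (.of (Away P1.grading.{u} (P1.T i) ⊗[P1.R0.{u}] Γ(X, V))) ⟶ CohB1.ProjSpaceOver 1 X :=
    (pullbackSpecIso P1.R0.{u} (Away P1.grading.{u} (P1.T i)) Γ(X, V)).inv ≫
      pullback.map _ _ _ _ (Proj.awayι P1.grading (P1.T i) (P1.X_mem i) one_pos) hV.fromSpec (𝟙 _)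
        (specULiftZIsTerminal.hom_ext _ _) (specULiftZIsTerminal.hom_ext _ _)
  have hopen : IsOpenImmersion (Proj.awayι P1.grading.{u} (P1.T i) (P1.X_mem i) one_pos) := by
    unfold Proj.awayι; infer_instance
  haveI : IsOpenImmersion j := @IsOpenImmersion.comp _ _ _ _ _ inferInstance
    (@Scheme.pullback_map_isOpenImmersion _ _ _ _ _ _ _ _ _ _ _ _ _ _ _ hopen hV.isOpenImmersion_fromSpec inferInstance)
  let π := pullback.fst (CohB1.ProjSpace.toSpec 1 P1.R0.{u}) (specULiftZIsTerminal.from X)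
  have hjfst : j ≫ π = Spec.map (CommRingCat.ofHom Algebra.TensorProduct.includeLeftRingHom) ≫
      Proj.awayι P1.grading (P1.T i) (P1.X_mem i) one_pos := by
    refine (Category.assoc _ _ _).trans ((congrArg (_ ≫ ·) (pullback.lift_fst _ _ _)).trans ?_)
    exact pullbackSpecIso_inv_fst_assoc _ _ _ _
  have hle : ⊤ ≤ Proj.awayι P1.grading.{u} (P1.T i) (P1.X_mem i) one_pos ⁻¹ᵁ Proj.basicOpen P1.grading (P1.T i) :=
    fun w _ ↦ (Proj.opensRange_awayι P1.grading.{u} (P1.T i) (P1.X_mem i) one_pos).le ⟨w, rfl⟩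
  have hje : ⊤ ≤ j ⁻¹ᵁ p1Open X i := fun w _ ↦ by
    change π (j w) ∈ Proj.basicOpen P1.grading (P1.T i)
    rw [show π (j w) = _ from congrArg (fun f : Spec _ ⟶ CohB1.ProjSpace 1 P1.R0.{u} ↦ f w) hjfst]
    exact hle trivial
  have hfun : j.appLE (p1Open X i) ⊤ hje (p1Coord X i) =
      (Scheme.ΓSpecIso _).inv (coordAway i ⊗ₜ[P1.R0.{u}] (1 : Γ(X, V))) := by
    have h1 : j.appLE (p1Open X i) ⊤ hje (p1Coord X i) = (j ≫ π).appLE (Proj.basicOpen P1.grading (P1.T i)) ⊤ hje (coordZ i) := by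
      exact (congrArg (fun m : Γ(CohB1.ProjSpace 1 P1.R0.{u}, Proj.basicOpen P1.grading (P1.T i)) ⟶ _ ↦ m.hom (coordZ i))
        (Scheme.Hom.comp_appLE j π (Proj.basicOpen P1.grading (P1.T i)) ⊤ hje)).symm
    rw [h1]
    simp only [hjfst]
    refine (congrArg (fun m ↦ m.hom (coordZ i))
      (Scheme.Hom.appLE_comp_appLE (Spec.map (CommRingCat.ofHom (Algebra.TensorProduct.includeLeftRingHom (R := P1.R0.{u})
          (A := Away P1.grading.{u} (P1.T i)) (B := Γ(X, V)))))
        (Proj.awayι P1.grading.{u} (P1.T i) (P1.X_mem i) one_pos) (Proj.basicOpen P1.grading (P1.T i)) ⊤ ⊤ hle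
        le_top)).symm.trans ?_
    refine (congrArg (fun z ↦ ((Spec.map (CommRingCat.ofHom (Algebra.TensorProduct.includeLeftRingHom (R := P1.R0.{u})
      (A := Away P1.grading.{u} (P1.T i)) (B := Γ(X, V))))).appLE ⊤ ⊤
      le_top).hom z) (awayι_appLE_coordZ i hle)).trans ?_
    rw [Scheme.Hom.appLE]
    refine Eq.trans ?_ (congrArg (fun m ↦ m.hom (coordAway i))
      (Scheme.ΓSpecIso_inv_naturality (CommRingCat.ofHom (R := Away P1.grading.{u} (P1.T i))
        (Algebra.TensorProduct.includeLeftRingHom (R := P1.R0.{u}) (B := Γ(X, V)))))).symm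
    rfl
  haveI hcc : SMulCommClass P1.R0.{u} (Away P1.grading.{u} (P1.T i)) (Away P1.grading.{u} (P1.T i)) :=
    ⟨fun r a b => show r.down • (a * b) = a * (r.down • b) from HomogeneousLocalization.val_injective _ (by
      simp only [HomogeneousLocalization.val_mul, HomogeneousLocalization.val_smul, mul_smul_comm])⟩
  haveI htt : IsScalarTower P1.R0.{u} (Away P1.grading.{u} (P1.T i)) (Away P1.grading.{u} (P1.T i)) :=
    ⟨fun r a b => show (r.down • a) * b = r.down • (a * b) from HomogeneousLocalization.val_injective _ (by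
      simp only [HomogeneousLocalization.val_mul, HomogeneousLocalization.val_smul, smul_mul_assoc])⟩
  have hreg : IsLeftRegular (coordAway i ⊗ₜ[P1.R0.{u}] (1 : Γ(X, V))) := by
    obtain ⟨r, hr⟩ := exists_additive_retraction.{u} i
    let r' : Away P1.grading.{u} (P1.T i) →ₗ[P1.R0.{u}] Away P1.grading.{u} (P1.T i) :=
      { toFun := r, map_add' := map_add r, map_smul' := fun n a => map_zsmul r n.down a }
    have h : ∀ x : Away P1.grading.{u} (P1.T i) ⊗[P1.R0.{u}] Γ(X, V),
        LinearMap.rTensor Γ(X, V) r' ((coordAway i ⊗ₜ[P1.R0.{u}] (1 : Γ(X, V))) * x) = x := fun x => by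
      induction x using TensorProduct.induction_on with
      | zero => simp
      | tmul a b =>
        refine (congrArg (LinearMap.rTensor Γ(X, V) r') (Algebra.TensorProduct.tmul_mul_tmul (coordAway i) a (1 : Γ(X, V)) b)).trans ?_
        rw [LinearMap.rTensor_tmul, one_mul]
        exact congrArg (· ⊗ₜ[P1.R0.{u}] b) (hr a)
      | add x y hx hy => rw [mul_add, map_add, hx, hy]
    intro x y hxy
    rw [← h x, ← h y]
    exact congrArg _ hxy
  obtain ⟨w, rfl⟩ : q ∈ Set.range j := by
    have hmap : Set.range j = pullback.fst (CohB1.ProjSpace.toSpec 1 P1.R0.{u}) (specULiftZIsTerminal.from X) ⁻¹' Set.range (Proj.awayι P1.grading.{u} (P1.T i) (P1.X_mem i) one_pos) ∩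
        pullback.snd (CohB1.ProjSpace.toSpec 1 P1.R0.{u}) (specULiftZIsTerminal.from X) ⁻¹' Set.range hV.fromSpec := by
      refine Eq.trans ?_ (Scheme.Pullback.range_map
        (f := Spec.map (CommRingCat.ofHom (algebraMap P1.R0.{u} (Away P1.grading.{u} (P1.T i)))))
        (g := Spec.map (CommRingCat.ofHom (algebraMap P1.R0.{u} Γ(X, V))))
        (CohB1.ProjSpace.toSpec 1 P1.R0.{u}) (specULiftZIsTerminal.from X) _ _ (𝟙 _)
        (specULiftZIsTerminal.hom_ext _ _) (specULiftZIsTerminal.hom_ext _ _))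
      exact (pullbackSpecIso _ _ _).inv.surjective.range_comp _
    rw [hmap]
    exact ⟨(Proj.opensRange_awayι P1.grading.{u} (P1.T i) (P1.X_mem i) one_pos).ge hq,
      hV.range_fromSpec.ge hqV⟩
  let B := CommRingCat.of (Away P1.grading.{u} (P1.T i) ⊗[P1.R0.{u}] Γ(X, V))
  have hbij := ConcreteCategory.bijective_of_isIso (j.stalkMap w)
  have h1 : IsLeftRegular (((Spec B).presheaf.germ ⊤ w trivial).hom
      ((Scheme.ΓSpecIso B).inv.hom (coordAway i ⊗ₜ[P1.R0.{u}] (1 : Γ(X, V))))) := by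
    haveI : Module.Flat B ((Spec.structureSheaf B).presheaf.stalk w) :=
      IsLocalization.flat _ w.asIdeal.primeCompl
    intro x y hxy
    refine Module.Flat.isSMulRegular_of_nonZeroDivisors (R := B) (M := (Spec.structureSheaf B).presheaf.stalk w)
      (r := (coordAway i ⊗ₜ[P1.R0.{u}] (1 : Γ(X, V)) : B))
      (mem_nonZeroDivisors_iff_right.2 fun z hz => hreg (by rw [mul_comm] at hz; simpa using hz)) ?_
    exact hxy
  have h2 : (j.stalkMap w).hom (((CohB1.ProjSpaceOver 1 X).presheaf.germ (p1Open X i) (j w) hq).hom (p1Coord X i)) =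
      ((Spec B).presheaf.germ ⊤ w trivial).hom
        ((Scheme.ΓSpecIso B).inv.hom (coordAway i ⊗ₜ[P1.R0.{u}] (1 : Γ(X, V)))) := by
    refine (Scheme.Hom.germ_stalkMap_apply j _ w hq _).trans ?_
    refine ((TopCat.Presheaf.germ_res_apply _ (homOfLE hje) _ trivial _).symm.trans ?_)
    exact congrArg _ hfun
  intro x y hxy
  refine hbij.1 (h1 ?_)
  simp only [← h2]
  exact ((map_mul (j.stalkMap w).hom _ x).symm.trans (congrArg (j.stalkMap w).hom hxy)).trans (map_mul _ _ _)

/-- The ideal of a coordinate section of the projective line. -/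
def sectIdeal (i : Fin (1 + 1)) : (CohB1.ProjSpaceOver 1 Y).IdealSheafData := (P1.sect Y i).ker

instance isClosedImmersion_sect (i : Fin (1 + 1)) : IsClosedImmersion (P1.sect Y i) := by
  haveI := RelVALib.isProper_toBase 1 Y
  haveI : IsClosedImmersion (P1.sect Y i ≫ CohB1.ProjSpaceOver.toBase 1 Y) := by
    rw [P1Lib24.sect_toBase]; infer_instance
  exact IsClosedImmersion.of_comp _ (CohB1.ProjSpaceOver.toBase 1 Y)

theorem support_sectIdeal (i : Fin (1 + 1)) : ((sectIdeal Y i).support : Set _) = Set.range (P1.sect Y i) := by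
  rw [sectIdeal, Scheme.Hom.support_ker]
  exact (P1.sect Y i).isClosedEmbedding.isClosed_range.closure_eq

theorem not_isUnit_coord (i : Fin (1 + 1)) (y : Y) :
    ¬ IsUnit (((CohB1.ProjSpaceOver 1 Y).presheaf.germ (p1Open Y i) (P1.sect Y i y) (sect_mem_p1Open Y i y).1).hom
      (p1Coord Y i)) := by
  obtain ⟨hm, hk⟩ := (sect_mem_p1Open Y i y).2
  intro h
  exact RingHom.ker_ne_top _ (hk.trans (Ideal.span_singleton_eq_top.2 h))

theorem notMem_range_sect {i j : Fin (1 + 1)} (hij : i ≠ j) {q : CohB1.ProjSpaceOver 1 Y} (hq : q ∈ p1Open Y j) :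
    q ∉ Set.range (P1.sect Y i) := by
  rintro ⟨y, rfl⟩
  refine not_isUnit_coord Y i y ?_
  have hi := (sect_mem_p1Open Y i y).1
  fin_cases i <;> fin_cases j
  · exact absurd rfl hij
  · exact IsUnit.of_mul_eq_one _ (p1Coord_mul Y _ hi hq)
  · exact IsUnit.of_mul_eq_one _ ((mul_comm _ _).trans (p1Coord_mul Y _ hq hi))
  · exact absurd rfl hij

theorem disjoint_range_sect {i j : Fin (1 + 1)} (hij : i ≠ j) :
    Disjoint (Set.range (P1.sect Y i)) (Set.range (P1.sect Y j)) :=
  Set.disjoint_right.2 fun q ⟨y, hy⟩ => notMem_range_sect Y hij (hy ▸ (sect_mem_p1Open Y j y).1)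

theorem map_germ_sectIdeal (i : Fin (1 + 1)) (W : (CohB1.ProjSpaceOver 1 Y).affineOpens) {q : CohB1.ProjSpaceOver 1 Y}
    (hqW : q ∈ W.1) (hq : q ∈ p1Open Y i) :
    ((sectIdeal Y i).ideal W).map ((CohB1.ProjSpaceOver 1 Y).presheaf.germ W.1 q hqW).hom =
      Ideal.span {((CohB1.ProjSpaceOver 1 Y).presheaf.germ (p1Open Y i) q hq).hom (p1Coord Y i)} := by
  by_cases hr : q ∈ Set.range (P1.sect Y i)
  · obtain ⟨y, rfl⟩ := hr
    obtain ⟨hm, hk⟩ := (sect_mem_p1Open Y i y).2
    haveI : IsClosedImmersion (P1.sect Y i ∣_ W.1) := IsZariskiLocalAtTarget.restrict (isClosedImmersion_sect Y i) W.1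
    rw [sectIdeal, Scheme.Hom.ker_apply, ← CAlgH.RegImmStalk.ker_stalkMap_eq (P1.sect Y i) y W.2 hqW]
    exact hk
  · rw [Ideal.span_singleton_eq_top.2 (by_contra fun hu => hr (mem_range_sect Y i q hq hu))]
    by_contra htop
    refine hr ((support_sectIdeal Y i).le (((sectIdeal Y i).mem_support_iff_of_mem (U := W) hqW).2 ?_))
    rw [Scheme.mem_zeroLocus_iff]
    intro f hf hmem
    exact htop (Ideal.eq_top_of_isUnit_mem _ (Ideal.mem_map_of_mem _ hf) ((Scheme.mem_basicOpen _ _ _ hqW).1 hmem))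

theorem isEffCartier_sectIdeal [IsLocallyNoetherian Y] (i : Fin (1 + 1)) :
    BlowUp.IsEffCartierIdeal (sectIdeal Y i) := by
  haveI := RelVALib.isProper_toBase 1 Y
  haveI : IsLocallyNoetherian (CohB1.ProjSpaceOver 1 Y) :=
    LocallyOfFiniteType.isLocallyNoetherian (CohB1.ProjSpaceOver.toBase 1 Y)
  refine SDiv28.StalkCartier.isEffCartierIdeal_of_stalks _ fun q hq U hqU => ?_
  have hr : q ∈ Set.range (P1.sect Y i) := (support_sectIdeal Y i).le hq
  obtain ⟨y, rfl⟩ := hr
  have hi := (sect_mem_p1Open Y i y).1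
  exact ⟨_, mem_nonZeroDivisors_iff_right.2 fun z hz => isLeftRegular_germ_coord Y i _ hi
    (by rw [mul_comm] at hz; simpa using hz), map_germ_sectIdeal Y i U hqU hi⟩

/-- The ideal module of an ideal is generated by `1` off the support. -/
theorem exists_gen_off {X : Scheme.{u}} (I : X.IdealSheafData) :
    ∃ k : Γ(ClSub.idealMod I, ⟨(I.support : Set X)ᶜ, I.support.2.isOpen_compl⟩),
      (ClSub.idealModι I).app _ k = (1 : Γ(X, ⟨(I.support : Set X)ᶜ, I.support.2.isOpen_compl⟩)) ∧
      IsGen (ClSub.idealMod I) ⟨(I.support : Set X)ᶜ, I.support.2.isOpen_compl⟩ k := by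
  obtain ⟨k, hk⟩ := AmpleLib.exists_idealModι_eq_one I
  refine ⟨k, hk, fun V hV => ?_⟩
  haveI := AmpleLib.mono_idealModι I
  have hkV : (ClSub.idealModι I).app V (Coherent.resM _ hV k) = (1 : Γ(X, V)) := by
    rw [Coherent.app_resM]
    exact (congrArg (Coherent.resM (Coh.structureModule X) hV) hk).trans (map_one (res hV))
  have key : ∀ r : Γ(X, V), (ClSub.idealModι I).app V (r • Coherent.resM _ hV k) = r := fun r => by
    rw [Scheme.Modules.Hom.app_smul, hkV]; exact mul_one r
  refine ⟨fun a b h => ?_, fun x => ⟨(ClSub.idealModι I).app V x, ?_⟩⟩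
  · exact (key a).symm.trans ((congrArg _ h).trans (key b))
  · exact Coherent.app_injective_of_mono (ClSub.idealModι I) V (key _)

/-- An invertible ideal module is trivial on schemes missing its support. -/
theorem nonempty_pullback_idealMod {X Z : Scheme.{u}} (g : Z ⟶ X) {I : X.IdealSheafData}
    (hI : BlowUp.IsEffCartierIdeal I) (hg : ∀ z, g z ∉ I.support) :
    Nonempty ((Scheme.Modules.pullback g).obj (ClSub.idealMod I) ≅ Coh.structureModule Z) := by
  obtain ⟨k, hk, hgen⟩ := exists_gen_off I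
  obtain ⟨e⟩ := CAlgH.PicPunct.nonempty_pullback_unit g
  let O : X.Opens := ⟨(I.support : Set X)ᶜ, I.support.2.isOpen_compl⟩
  have hO : iSup (fun _ : PUnit.{u + 1} => g ⁻¹ᵁ O) = ⊤ := top_le_iff.1 fun z _ => Opens.mem_iSup.2 ⟨⟨⟩, hg z⟩
  have hL := FlatMor12.IdealModGen.isInvertible_idealMod I hI
  haveI : IsIso ((Scheme.Modules.pullback g).map (ClSub.idealModι I)) :=
    isIso_of_gens _ _ hO (fun _ => pullSec g k) (fun _ => isGen_pullSec g hgen hL) fun _ => by
      rw [AmpleLib.pullback_map_app_pullSec, hk]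
      exact isGen_pullSec g (AmpleLib.isGen_oneSec O) (AmpleLib.isInvertible_structureModule)
  exact ⟨asIso ((Scheme.Modules.pullback g).map (ClSub.idealModι I)) ≪≫ e⟩

theorem germ_res' {X : Scheme.{u}} {U W : X.Opens} (h : W ≤ U) (q : X) (hq : q ∈ W) (a : Γ(X, U)) :
    (X.presheaf.germ W q hq).hom (ModPairLib.res h a) = (X.presheaf.germ U q (h hq)).hom a :=
  TopCat.Presheaf.germ_res_apply X.presheaf (homOfLE h) q hq a

theorem germ_res_one {X : Scheme.{u}} {U W : X.Opens} (h : W ≤ U) (q : X) (hq : q ∈ W) :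
    (X.presheaf.germ W q hq).hom (ModPairLib.res h (1 : Γ(X, U))) = 1 := by
  rw [germ_res', map_one]

/-- The ideal of a coordinate section on an affine open of a chart. -/
theorem ideal_sectIdeal (i k : Fin (1 + 1)) (V : (CohB1.ProjSpaceOver 1 Y).affineOpens) (hV : V.1 ≤ p1Open Y k) :
    ∃ c : Γ(CohB1.ProjSpaceOver 1 Y, V.1), IsLeftRegular c ∧ (sectIdeal Y i).ideal V = Ideal.span {c} ∧
      (i = k → c = ModPairLib.res hV (p1Coord Y k)) ∧ (i ≠ k → c = 1) := by
  by_cases hik : i = k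
  · subst hik
    refine ⟨ModPairLib.res hV (p1Coord Y i), fun a b hab => ?_, ?_, fun _ => rfl, fun h => absurd rfl h⟩
    · refine TopCat.Presheaf.section_ext (CohB1.ProjSpaceOver 1 Y).sheaf V.1 a b fun q hq => ?_
      refine isLeftRegular_germ_coord Y i q (hV hq) ?_
      have h := congrArg ((CohB1.ProjSpaceOver 1 Y).presheaf.germ V.1 q hq).hom hab
      simp only [map_mul, germ_res'] at h
      exact h
    · refine Ideal.eq_of_localization_maximal fun m hm => ?_
      haveI := hm.isPrime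
      obtain ⟨q, hq, hqm⟩ := AssSch12.exists_point V.2 m
      have h := map_germ_sectIdeal Y i V hq (hV hq)
      rw [← germ_res' hV q hq] at h
      subst hqm
      letI := (CohB1.ProjSpaceOver 1 Y).presheaf.algebra_section_stalk (⟨q, hq⟩ : V.1)
      haveI : IsLocalization.AtPrime ((CohB1.ProjSpaceOver 1 Y).presheaf.stalk q) (V.2.primeIdealOf ⟨q, hq⟩).asIdeal :=
        V.2.isLocalization_stalk ⟨q, hq⟩
      let e := IsLocalization.algEquiv (V.2.primeIdealOf ⟨q, hq⟩).asIdeal.primeCompl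
        ((CohB1.ProjSpaceOver 1 Y).presheaf.stalk q) (Localization.AtPrime (V.2.primeIdealOf ⟨q, hq⟩).asIdeal)
      have key : ∀ J : Ideal Γ(CohB1.ProjSpaceOver 1 Y, V.1),
          J.map (algebraMap _ (Localization.AtPrime (V.2.primeIdealOf ⟨q, hq⟩).asIdeal)) =
            (J.map ((CohB1.ProjSpaceOver 1 Y).presheaf.germ V.1 q hq).hom).map e.toAlgHom.toRingHom := fun J => by
        rw [Ideal.map_map]
        exact congrArg (fun f => J.map f) (RingHom.ext fun a => (e.commutes a).symm)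
      show Ideal.map (algebraMap _ (Localization.AtPrime (V.2.primeIdealOf ⟨q, hq⟩).asIdeal)) _ =
        Ideal.map (algebraMap _ _) _
      rw [key, key, h, Ideal.map_span (((CohB1.ProjSpaceOver 1 Y).presheaf.germ V.1 q hq).hom), Set.image_singleton]
  · refine ⟨1, isRegular_one.left, ?_, fun h => absurd h hik, fun _ => rfl⟩
    rw [Ideal.span_singleton_one]
    by_contra htop
    obtain ⟨m, hm, hle⟩ := Ideal.exists_le_maximal _ htop
    haveI := hm.isPrime
    obtain ⟨q, hq, rfl⟩ := AssSch12.exists_point V.2 m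
    refine notMem_range_sect Y hik (hV hq) ((support_sectIdeal Y i).le
      (((sectIdeal Y i).mem_support_iff_of_mem (U := V) hq).2 ?_))
    rw [Scheme.mem_zeroLocus_iff]
    exact fun f hf => fun hmem => (AssSch12.notMem_primeAt_iff V.2 hq f).2 hmem (hle hf)

/-- The ideals of the two coordinate sections are isomorphic. -/
theorem nonempty_sectIdeal_iso :
    Nonempty (ClSub.idealMod (sectIdeal Y 0) ≅ ClSub.idealMod (sectIdeal Y 1)) := by
  classical
  let P := CohB1.ProjSpaceOver 1 Y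
  have hloc : ∀ x : P, ∃ (V : P.affineOpens)
      (k : Γ(ClSub.idealMod (sectIdeal Y 0), V.1)) (l : Γ(ClSub.idealMod (sectIdeal Y 1), V.1)),
      x ∈ V.1 ∧ IsGen (ClSub.idealMod (sectIdeal Y 0)) V.1 k ∧
      IsGen (ClSub.idealMod (sectIdeal Y 1)) V.1 l ∧ ∀ (q : P) (hq : q ∈ V.1),
        (∀ h0 : q ∈ p1Open Y 0, (P.presheaf.germ V.1 q hq).hom (InjMod14.Kosz.ival _ V.1 k) =
          (P.presheaf.germ (p1Open Y 0) q h0).hom (p1Coord Y 0) *
            (P.presheaf.germ V.1 q hq).hom (InjMod14.Kosz.ival _ V.1 l)) ∧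
        (∀ h1 : q ∈ p1Open Y 1, (P.presheaf.germ V.1 q hq).hom (InjMod14.Kosz.ival _ V.1 l) =
          (P.presheaf.germ (p1Open Y 1) q h1).hom (p1Coord Y 1) *
            (P.presheaf.germ V.1 q hq).hom (InjMod14.Kosz.ival _ V.1 k)) := fun x => by
    obtain ⟨t, ht⟩ := exists_mem_p1Open Y x
    obtain ⟨W, hW, hxW, hWt⟩ := exists_isAffineOpen_mem_and_subset (x := x) (U := p1Open Y t) ht
    obtain ⟨a, ha, haI, ha0, ha1⟩ := ideal_sectIdeal Y 0 t ⟨W, hW⟩ hWt
    obtain ⟨b, hb, hbI, hb0, hb1⟩ := ideal_sectIdeal Y 1 t ⟨W, hW⟩ hWt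
    obtain ⟨k, hk⟩ := InjMod14.Kosz.exists_ival (sectIdeal Y 0) ⟨W, hW⟩ (haI.ge (Ideal.mem_span_singleton_self _))
    obtain ⟨l, hl⟩ := InjMod14.Kosz.exists_ival (sectIdeal Y 1) ⟨W, hW⟩ (hbI.ge (Ideal.mem_span_singleton_self _))
    refine ⟨⟨W, hW⟩, k, l, hxW, FlatMor12.IdealModGen.bijective_smul_of_affine_gen _ hW hk ha haI,
      FlatMor12.IdealModGen.bijective_smul_of_affine_gen _ hW hl hb hbI, fun q hq => ?_⟩
    rw [hk, hl]
    rcases (show ∀ a : Fin (1 + 1), a = 0 ∨ a = 1 by decide) t with rfl | rfl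
    · rw [ha0 rfl, hb1 (by decide)]
      simp only [map_one, mul_one]
      exact ⟨fun _ => germ_res' _ q hq _, fun h1 => ((mul_comm _ _).trans (p1Coord_mul Y q (hWt hq) h1)).symm.trans
        (congrArg (_ * ·) (germ_res' _ q hq _).symm)⟩
    · rw [ha1 (by decide), hb0 rfl]
      simp only [map_one, mul_one]
      exact ⟨fun h0 => (p1Coord_mul Y q h0 (hWt hq)).symm.trans (congrArg (_ * ·) (germ_res' _ q hq _).symm),
        fun _ => germ_res' _ q hq _⟩
  choose V k l hxV hk hl hrel using hloc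
  have hcov : iSup (fun x => (V x).1) = ⊤ := top_le_iff.1 fun x _ => Opens.mem_iSup.2 ⟨x, hxV x⟩
  haveI := AmpleLib.mono_idealModι (sectIdeal Y 1)
  obtain ⟨φ, hφ⟩ := exists_hom_of_gen (fun x => (V x).1) hcov k hk l fun i j W hi hj c hc => by
    apply Coherent.app_injective_of_mono (ClSub.idealModι (sectIdeal Y 1)) W
    rw [Scheme.Modules.Hom.app_smul, Coherent.app_resM, Coherent.app_resM]
    have h0 := congrArg ((ClSub.idealModι (sectIdeal Y 0)).app W) hc
    rw [Scheme.Modules.Hom.app_smul, Coherent.app_resM, Coherent.app_resM] at h0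
    let A : ∀ x, Γ(P, (V x).1) := fun x => InjMod14.Kosz.ival _ _ (k x)
    let B : ∀ x, Γ(P, (V x).1) := fun x => InjMod14.Kosz.ival _ _ (l x)
    have h0' : ModPairLib.res hi (A i) = c * ModPairLib.res hj (A j) := h0
    show ModPairLib.res hi (B i) = c * ModPairLib.res hj (B j)
    refine TopCat.Presheaf.section_ext P.sheaf W _ _ fun q hq => ?_
    show (P.presheaf.germ W q hq).hom _ = (P.presheaf.germ W q hq).hom _
    have g0 := congrArg (P.presheaf.germ W q hq).hom h0'
    rw [map_mul, germ_res', germ_res'] at g0 ⊢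
    obtain ⟨t, ht⟩ := exists_mem_p1Open Y q
    rcases (show ∀ a : Fin (1 + 1), a = 0 ∨ a = 1 by decide) t with rfl | rfl
    · refine isLeftRegular_germ_coord Y 0 q ht ?_
      show _ * _ = _ * _
      rw [← (hrel i q (hi hq)).1 ht, g0, (hrel j q (hj hq)).1 ht]
      ring
    · rw [(hrel i q (hi hq)).2 ht, g0, (hrel j q (hj hq)).2 ht]
      ring
  haveI : IsIso φ := isIso_of_gens φ _ hcov k hk fun x => by rw [hφ]; exact hl x
  exact ⟨asIso φ⟩

end Groth.Agent.KRR28
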