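import Groth.Agent.KRR28.Gen
import Groth.Agent.KRR28.P1
import Groth.Agent.KRR28.Centre
import Groth.Agent.KPushPr28.Closed
import Groth.Agent.InjMod14.Kosz.Divisor
import Groth.Agent.S1108
import Groth.Agent.Coherent.RpushVanish

/-!
# The push-forward of the class of a coordinate section
-/

set_option autoImplicit false
set_option backward.isDefEq.respectTransparency false
set_option linter.style.haveILetI false

universe v w u

open CategoryTheory CategoryTheory.Limits AlgebraicGeometry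
open Groth.Agent.ResLF28 LambdaRing

noncomputable section

namespace Groth.Agent.KRR28

theorem enough_of_ample {X : Scheme.{u}} {A : X.Modules} (hA : CohB1.IsAmple A) : KRR.HasEnoughLocFree X :=
  fun F hF => S1108.result X A hA F hF.1 hF.2

theorem isIso_unitMap_of_isIso {X Y : Scheme.{u}} (f : X ⟶ Y) [IsIso f] : IsIso (StMod.unitMap f) := by
  haveI : Mono (StMod.unitMap f) := InjMod14.Kosz.mono_of_affine_nbhds _ fun W x hx => by
    obtain ⟨U, hU, hxU, hle⟩ := exists_isAffineOpen_mem_and_subset (x := x) (U := W) hx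
    exact ⟨⟨U, hU⟩, hxU, hle, (ConcreteCategory.bijective_of_isIso (f.app U)).1⟩
  haveI : Epi (StMod.unitMap f) := Coherent.epi_of_locally_surjective _ fun W a y hy => by
    obtain ⟨b, hb⟩ := (ConcreteCategory.bijective_of_isIso (f.app W)).2 a
    refine ⟨W, le_rfl, hy, b, ?_⟩
    rw [PicLib.resM_self]
    exact hb
  exact isIso_of_mono_of_epi _

/-- `p_K (1 - [O(-X_i)]) = 1`. -/
theorem pushPr_one_sub_sect {Y : Scheme.{u}} [IsNoetherian Y] (hY : KRR.HasEnoughLocFree Y)
    (hP : KRR.HasEnoughLocFree (KRR.PY 1 Y)) (i : Fin (1 + 1)) {KP : Type v} {KY : Type w} [CommRing KP]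
    [CommRing KY] {φP : SGA6.Kvb (KRR.PY 1 Y) →+ KP} (hφ : Function.Bijective φP)
    (h1 : φP (KRR.cl _ (Coh.structureModule (KRR.PY 1 Y))) = 1)
    {φY : SGA6.Kvb Y →+ KY} (h1Y : φY (KRR.cl _ (Coh.structureModule Y)) = 1) {g : KP →+ KY}
    (hg : KRR.IsPushPr 1 Y φP φY g) :
    g (1 - φP (KRR.cl _ (ClSub.idealMod (sectIdeal Y i)))) = 1 := by
  haveI := KPushPr28.isNoetherian_PY 1 Y
  let I := sectIdeal Y i
  have hI : BlowUp.IsEffCartierIdeal I := isEffCartier_sectIdeal Y i
  let ι := I.subschemeι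
  haveI : IsIso (ι ≫ KRR.pr 1 Y) := by
    let k : Y ⟶ I.subscheme := IsClosedImmersion.lift ι (P1.sect Y i) (by
      rw [Scheme.IdealSheafData.ker_subschemeι]; exact le_rfl)
    haveI : IsIso k := IsClosedImmersion.isIso_lift ι (P1.sect Y i) (by
      rw [Scheme.IdealSheafData.ker_subschemeι]; rfl)
    have hk : k ≫ ι ≫ KRR.pr 1 Y = 𝟙 Y := by
      rw [← Category.assoc, IsClosedImmersion.lift_fac]
      exact P1Lib24.sect_toBase Y i
    haveI : IsIso (k ≫ ι ≫ KRR.pr 1 Y) := by rw [hk]; infer_instance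
    exact IsIso.of_isIso_comp_left k _
  have hreg := isRegularClosedImmersion_of_effCartier hI
  let O := Coh.structureModule I.subscheme
  have hO : FlatMod.IsFinLocFree O := KvbLam28.isFinLocFree_structure
  haveI : Coh.IsQCoh O := CAlgH3.LocFreeFactor.isQCoh_of_finLocFree hO
  have hA := KPush28.cohBdd_push ι hP hreg hO
  have hR : KRR.IsRegSheaf 1 Y ((Scheme.Modules.pushforward ι).obj O) := fun q hq => by
    haveI := CAlgH3.LocFreeFactor.isQCoh_of_finLocFree (DCat.PullPerf.isFinLocFree_pullback ι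
      (KPr28.isFinLocFree_twistOver (n := 1) (Y := Y) (-(q : ℤ))))
    haveI : Coh.IsQCoh (CohB1.tensorMod ((Scheme.Modules.pullback ι).obj (Twist.twistOver 1 Y (-(q : ℤ)))) O) :=
      Coherent.isQCoh_tensorMod _ _
    exact KPushPr28.van_push ι q _ (Coherent.isZero_rpushAb_of_isAffineHom (ι ≫ KRR.pr 1 Y) _ q hq)
  obtain ⟨hB, hgv⟩ := KPushPr28.pushPr_vbCl hφ hg hY hP hR hA
  -- the short exact sequence of the divisor
  have hJ : FlatMod.IsFinLocFree (ClSub.idealMod I) :=
    VarietyLib.isFinLocFree_of_rank (PicLib.isFinLocFreeOfRank_one (FlatMor12.IdealModGen.isInvertible_idealMod I hI))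
  haveI : Epi (ClSub.toSubscheme I) := Coherent.epi_of_locally_surjective _ fun W a x hx => by
    obtain ⟨U, hU, hxU, hUW⟩ := exists_isAffineOpen_mem_and_subset (x := x) (U := W) hx
    obtain ⟨r, hr⟩ := I.subschemeι_app_surjective ⟨U, hU⟩
      (Coherent.resM (ClSub.quotMod I) hUW a)
    exact ⟨U, hUW, hxU, r, hr⟩
  have hS : (ShortComplex.mk (ClSub.idealModι I) (ClSub.toSubscheme I) (kernel.condition _)).ShortExact :=
    ShortComplex.ShortExact.mk' (ShortComplex.exact_kernel _) (inferInstanceAs (Mono (kernel.ι _))) inferInstance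
  have hadd := KPushPr28.vbCl_add hP hS (KPush28.cohBdd_of_finLocFree hJ)
    (KPush28.cohBdd_of_finLocFree KvbLam28.isFinLocFree_structure) hA
  rw [KPushPr28.vbCl_vb hP hJ, KPushPr28.vbCl_vb hP KvbLam28.isFinLocFree_structure] at hadd
  have heq : (1 : KP) - φP (KRR.cl _ (ClSub.idealMod I)) =
      φP (KPush28.vbCl _ hP ((Scheme.Modules.pushforward ι).obj O)) := by
    rw [← h1, hadd, map_add]
    exact add_sub_cancel_left _ _
  show g (1 - φP (KRR.cl _ (ClSub.idealMod I))) = 1
  rw [heq, hgv, ← h1Y, ← KPushPr28.vbCl_vb hY KvbLam28.isFinLocFree_structure]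
  haveI := isIso_unitMap_of_isIso (ι ≫ KRR.pr 1 Y)
  exact congrArg φY (KPushPr28.vbCl_iso hY
    ((Scheme.Modules.pushforwardComp ι (KRR.pr 1 Y)).app O ≪≫ (asIso (StMod.unitMap (ι ≫ KRR.pr 1 Y))).symm) hB)

end Groth.Agent.KRR28
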