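import Groth.Agent.KRR28.Deg

/-!
# An annihilator of `θ ψ^j` on each term of the γ-filtration
-/

set_option autoImplicit false
set_option linter.style.haveILetI false

universe u v

open LambdaRing Groth.Agent

noncomputable section

namespace Groth.Agent.KRR28

variable {K : Type u} [CommRing K] [LambdaOps K] {P : PosStructure K}

/-- The iterates of `θ ψ^j - j^m`, `θ ψ^j - j^(m+1)`, …. -/
def ann (P : PosStructure K) (j : ℕ) (θ : K) (m : ℕ) : ℕ → K → K
  | 0, x => x
  | M + 1, x => θ * adams P j (ann P j θ m M x) - (j : K) ^ (m + M) * ann P j θ m M x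

theorem ann_mem_deg (hS : HasSplitting K P) {V : Set K} (hV : ∀ v ∈ V, P.IsLine (v + 1)) (j : ℕ) {θ : K} {d n : ℕ}
    (hθ : θ - ((j ^ d : ℕ) : K) ∈ deg V 1) {x : K} (hx : x ∈ deg V n) (M : ℕ) :
    ann P j θ (n + d) M x ∈ deg V (n + M) := by
  induction M with
  | zero => exact hx
  | succ M ih =>
    show θ * adams P j _ - (j : K) ^ (n + d + M) * _ ∈ deg V (n + (M + 1))
    generalize ann P j θ (n + d) M x = z at ih ⊢
    have h1 := adams_sub_mem_deg hS hV j ih
    have h2 : ((j ^ (n + M) : ℕ) : K) * z ∈ deg V (n + M) := natCast_mul_mem_deg _ ih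
    have h3 : adams P j z ∈ deg V (n + M) := by
      have h4 := add_mem (mem_deg_of_le h1 (Nat.le_succ _)) h2
      rwa [Nat.cast_pow, sub_add_cancel] at h4
    have h5 : (θ - ((j ^ d : ℕ) : K)) * adams P j z ∈ deg V (1 + (n + M)) := mul_mem_deg hθ h3
    have h6 : ((j ^ d : ℕ) : K) * (adams P j z - (j : K) ^ (n + M) * z) ∈ deg V (n + M + 1) :=
      natCast_mul_mem_deg _ h1
    have e : θ * adams P j z - (j : K) ^ (n + d + M) * z = (θ - ((j ^ d : ℕ) : K)) * adams P j z +
        ((j ^ d : ℕ) : K) * (adams P j z - (j : K) ^ (n + M) * z) := by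
      rw [show n + d + M = d + (n + M) by omega, pow_add]; push_cast; ring
    rw [e]
    exact add_mem (mem_deg_of_le h5 (by omega)) (mem_deg_of_le h6 (by omega))

theorem map_ann {K' : Type u} [CommRing K'] [LambdaOps K'] {P' : PosStructure K'} {g : K →+* K'}
    (hg : IsExtension P P' g) (j : ℕ) (θ : K) (m M : ℕ) (x : K) :
    g (ann P j θ m M x) = ann P' j (g θ) m M (g x) := by
  induction M with
  | zero => rfl
  | succ M ih =>
    show g (θ * adams P j _ - (j : K) ^ (m + M) * _) = _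
    rw [map_sub, map_mul, map_mul, map_pow, map_natCast, LambdaLib.adams_map hg, ih]
    rfl

/-- The Bott class of a sum of lines. -/
theorem map_bott_lines {K' : Type u} [CommRing K'] [LambdaOps K'] {P' : PosStructure K'} {f : K →+* K'}
    (hf : IsExtension P P' f) (j : ℕ) {e : K} (y : Fin (P.aug e).toNat → K') (hy : ∀ i, P'.IsLine (y i))
    (hsum : ∑ i, y i = f e) : f (KRR.bott P j e) = ∏ i, ∑ k ∈ Finset.range j, y i ^ k := by
  have h1 : MvPolynomial.aeval (fun i : Fin (P.aug e).toNat => MvPolynomial.esymm (Fin (P.aug e).toNat) ℤ (i.1 + 1))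
      (KRR.bottPoly j (P.aug e).toNat) = KRR.bottSym j (P.aug e).toNat := by
    have h := congrArg Subtype.val ((MvPolynomial.esymmAlgEquiv (Fin (P.aug e).toNat) ℤ
      (Fintype.card_fin _)).apply_symm_apply ⟨_, KRR.bottSym_isSymmetric j (P.aug e).toNat⟩)
    rw [MvPolynomial.esymmAlgEquiv_apply, MvPolynomial.esymmAlgHom_apply] at h
    exact h
  have h2 : f (KRR.bott P j e) = MvPolynomial.aeval y (KRR.bottSym j (P.aug e).toNat) := by
    rw [← h1, ← AlgHom.comp_apply, MvPolynomial.comp_aeval, KRR.bott]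
    show f.toIntAlgHom _ = _
    rw [← AlgHom.comp_apply, MvPolynomial.comp_aeval]
    refine congrArg (fun v => MvPolynomial.aeval v _) (funext fun i => ?_)
    rw [LambdaLib.aeval_esymm_eq]
    show f _ = _
    rw [hf.isLambdaHom, ← hsum, LambdaLib.lam_sum_lines Finset.univ y fun i _ => LambdaLib.lam_line_eq_zero P' (hy i)]
  rw [h2]
  simp [KRR.bottSym, map_prod, map_sum]

/-- The roots of a split positive element are nilpotent as soon as every class of augmentation zero is. -/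
theorem isNilpotent_root (hS : HasSplitting K P) (hnil : ∀ a, P.aug a = 0 → IsNilpotent a) {K' : Type u}
    [CommRing K'] [LambdaOps K'] {P' : PosStructure K'} {g : K →+* K'} (hg : IsExtension P P' g) {e : K}
    {s : Multiset K'} (hs : ∀ w ∈ s, P'.IsLine w) (hsum : s.sum = g e) {w : K'} (hw : w ∈ s) :
    IsNilpotent (w - 1) := by
  have hcard : P.aug e = (Multiset.card s : ℤ) := by
    rw [← hg.aug_comp, ← hsum, LambdaLib.aug_multiset_sum_lines _ hs]
  set Q : Polynomial K' := (s.map fun u => 1 + Polynomial.C (u - 1) * Polynomial.X).prod with hQ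
  have hQcoeff : ∀ k, Q.coeff k = g (gamma k (e - (Multiset.card s : K))) := fun k => by
    rw [LambdaLib.gamma_map hg.isLambdaHom, map_sub, map_natCast, ← hsum, ← LambdaLib.coeff_gammaSeries,
      gammaSeries_lines hs, Polynomial.coeff_coe]
  have hu : IsUnit Q := by
    rw [Polynomial.isUnit_iff_coeff_isUnit_isNilpotent]
    refine ⟨?_, fun k hk => ?_⟩
    · rw [hQcoeff, LambdaLib.gamma_zero, map_one]; exact isUnit_one
    · rw [hQcoeff]
      exact (hnil _ (LambdaLib.aug_gamma_eq_zero hS (by rw [map_sub, map_natCast, hcard, sub_self]) hk)).map g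
  have hdvd : 1 + Polynomial.C (w - 1) * Polynomial.X ∣ Q :=
    Multiset.dvd_prod (Multiset.mem_map.2 ⟨w, hw, rfl⟩)
  have h1 := (Polynomial.isUnit_iff_coeff_isUnit_isNilpotent.1 (isUnit_of_dvd_unit hdvd hu)).2 1 one_ne_zero
  simpa [Polynomial.coeff_one] using h1

theorem gamma_prod_witness (hS : HasSplitting K P) (l : List (ℕ × K)) (hl : ∀ p ∈ l, P.aug p.2 = 0) :
    ∃ L : List K, (∀ e ∈ L, e ∈ P.pos) ∧ ∀ (K' : Type u) [CommRing K'] [LambdaOps K'] (P' : PosStructure K')
      (g : K →+* K'), IsExtension P P' g → ∀ V : Set K',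
      (∀ e ∈ L, ∃ s : Multiset K', (∀ w ∈ s, P'.IsLine w) ∧ (∀ w ∈ s, w - 1 ∈ V) ∧ s.sum = g e) →
      g (l.map fun p => gamma p.1 p.2).prod ∈ deg V (l.map Prod.fst).sum := by
  induction l with
  | nil => exact ⟨[], by simp, fun K' _ _ P' g hg V _ => by simpa using one_mem_deg⟩
  | cons p l ih =>
    obtain ⟨L, hL, h⟩ := ih fun q hq => hl q (List.mem_cons_of_mem _ hq)
    obtain ⟨a, b, ha, hb, hab⟩ := P.exists_sub p.2
    refine ⟨a :: b :: L, by simp [ha, hb]; exact hL, fun K' _ _ P' g hg V hsplit => ?_⟩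
    obtain ⟨s, hs, hsV, hse⟩ := hsplit a (by simp)
    obtain ⟨t, ht, htV, hte⟩ := hsplit b (by simp)
    have hc : s.card = t.card := by
      have h0 := hl p List.mem_cons_self
      rw [hab, map_sub, ← hg.aug_comp, ← hg.aug_comp, ← hse, ← hte, LambdaLib.aug_multiset_sum_lines _ hs,
        LambdaLib.aug_multiset_sum_lines _ ht, sub_eq_zero] at h0
      exact_mod_cast h0
    simp only [List.map_cons, List.prod_cons, List.sum_cons]
    rw [map_mul, LambdaLib.gamma_map hg.isLambdaHom,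
      hab, map_sub, ← hse, ← hte]
    exact mul_mem_deg (gamma_mem_deg hs ht hsV htV hc _)
      (h K' P' g hg V fun e he => hsplit e (by simp [he]))

theorem filtration_witness (hS : HasSplitting K P) {n : ℕ} {x : K} (hx : x ∈ gammaFiltration P n) :
    ∃ L : List K, (∀ e ∈ L, e ∈ P.pos) ∧ ∀ (K' : Type u) [CommRing K'] [LambdaOps K'] (P' : PosStructure K')
      (g : K →+* K'), IsExtension P P' g → ∀ V : Set K',
      (∀ e ∈ L, ∃ s : Multiset K', (∀ w ∈ s, P'.IsLine w) ∧ (∀ w ∈ s, w - 1 ∈ V) ∧ s.sum = g e) →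
      g x ∈ deg V n := by
  rcases Nat.eq_zero_or_pos n with rfl | hn
  · obtain ⟨a, b, ha, hb, rfl⟩ := P.exists_sub x
    refine ⟨[a, b], by simp [ha, hb], fun K' _ _ P' g _ V hsplit => ?_⟩
    obtain ⟨s, -, hsV, hse⟩ := hsplit a (by simp)
    obtain ⟨t, -, htV, hte⟩ := hsplit b (by simp)
    rw [map_sub, ← hse, ← hte]
    exact sub_mem (sum_mem_deg_zero hsV) (sum_mem_deg_zero htV)
  refine LambdaLib.gammaFiltration_induction P hn.ne' (motive := fun x => ∃ L : List K, (∀ e ∈ L, e ∈ P.pos) ∧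
    ∀ (K' : Type u) [CommRing K'] [LambdaOps K'] (P' : PosStructure K')
      (g : K →+* K'), IsExtension P P' g → ∀ V : Set K',
      (∀ e ∈ L, ∃ s : Multiset K', (∀ w ∈ s, P'.IsLine w) ∧ (∀ w ∈ s, w - 1 ∈ V) ∧ s.sum = g e) →
      g x ∈ deg V n) (fun l h1 h2 => ?_) ?_ ?_ ?_ hx
  · obtain ⟨L, hL, h⟩ := gamma_prod_witness hS l h1
    exact ⟨L, hL, fun K' _ _ P' g hg V hsplit => deg_antitone h2 (h K' P' g hg V hsplit)⟩
  · exact ⟨[], by simp, fun K' _ _ P' g _ V _ => by rw [map_zero]; exact zero_mem _⟩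
  · rintro a b ⟨La, hLa, ha⟩ ⟨Lb, hLb, hb⟩
    refine ⟨La ++ Lb, fun e he => (List.mem_append.1 he).elim (hLa e) (hLb e), fun K' _ _ P' g hg V hsplit => ?_⟩
    rw [map_add]
    exact add_mem (ha K' P' g hg V fun e he => hsplit e (List.mem_append_left _ he))
      (hb K' P' g hg V fun e he => hsplit e (List.mem_append_right _ he))
  · rintro a ⟨La, hLa, ha⟩
    refine ⟨La, hLa, fun K' _ _ P' g hg V hsplit => ?_⟩
    rw [map_neg]
    exact neg_mem (ha K' P' g hg V hsplit)

/-- On `F^n` some `∏ (θ^j(c) ψ^j - j^(n+d+i))` vanishes, `d` being the rank of `c`. -/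
theorem exists_annihilator (hS : HasSplitting K P) (hnil : ∀ a, P.aug a = 0 → IsNilpotent a) {c : K} {d : ℕ}
    (hc : (c = 0 ∧ d = 0) ∨ (c ∈ P.pos ∧ P.aug c = d)) (j : ℕ) {n : ℕ} {x : K} (hx : x ∈ gammaFiltration P n) :
    ∃ M, ann P j (KRR.bott P j c) (n + d) M x = 0 := by
  classical
  obtain ⟨L, hL, h⟩ := filtration_witness hS hx
  have hC : ∃ Lc : List K, (∀ e ∈ Lc, e ∈ P.pos) ∧ ((c = 0 ∧ d = 0) ∨ (c ∈ Lc ∧ P.aug c = d)) := by
    rcases hc with hc | hc
    · exact ⟨[], by simp, .inl hc⟩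
    · exact ⟨[c], by simpa using hc.1, .inr ⟨by simp, hc.2⟩⟩
  obtain ⟨Lc, hLc, hc⟩ := hC
  obtain ⟨K', g, hg, hS', hsplit⟩ := LambdaLib.exists_ext_split hS (L ++ Lc)
    (fun e he => (List.mem_append.1 he).elim (hL e) (hLc e))
  choose s hs hsum using hsplit
  let V : Set K'.carrier := ⋃ e : {e // e ∈ L ++ Lc}, (fun w => w - 1) '' {w | w ∈ s e.1 e.2}
  have hV : ∀ e he, ∀ w ∈ s e he, w - 1 ∈ V := fun e he w hw => Set.mem_iUnion.2 ⟨⟨e, he⟩, w, hw, rfl⟩
  have hline : ∀ v ∈ V, K'.posStr.IsLine (v + 1) := fun v hv => by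
    obtain ⟨e, w, hw, rfl⟩ := Set.mem_iUnion.1 hv
    rw [sub_add_cancel]; exact hs _ _ w hw
  have hVfin : V.Finite :=
    Set.finite_iUnion fun e => (Set.Finite.subset (s e.1 e.2).toFinset.finite_toSet
      (fun w hw => Multiset.mem_toFinset.2 hw)).image _
  obtain ⟨M, hM⟩ := deg_eq_bot hVfin (fun v hv => by
    obtain ⟨e, w, hw, rfl⟩ := Set.mem_iUnion.1 hv
    exact isNilpotent_root hS hnil hg (hs _ _) (hsum _ _) hw)
  have hθ : g (KRR.bott P j c) - ((j ^ d : ℕ) : K'.carrier) ∈ deg V 1 := by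
    rcases hc with ⟨rfl, rfl⟩ | ⟨hcmem, haug⟩
    · have e0 : IsEmpty (Fin (P.aug (0 : K)).toNat) := by
        rw [map_zero]; exact Fin.isEmpty'
      rw [map_bott_lines hg j (fun i => isEmptyElim i) (fun i => isEmptyElim i) (by simp)]
      simp
    · have hm : c ∈ L ++ Lc := List.mem_append_right _ hcmem
      have hlen : (s c hm).toList.length = (P.aug c).toNat := by
        rw [← hg.aug_comp, ← hsum c hm, LambdaLib.aug_multiset_sum_lines _ (hs c hm), Int.toNat_natCast,
          Multiset.length_toList]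
      let y : Fin (P.aug c).toNat → K'.carrier := fun i => (s c hm).toList[i.1]'(Nat.lt_of_lt_of_eq i.2 hlen.symm)
      have hy : ∀ i, y i ∈ s c hm := fun i => Multiset.mem_toList.1 (List.getElem_mem _)
      rw [map_bott_lines hg j y (fun i => hs c hm _ (hy i)) (by
        rw [← hsum c hm, ← Multiset.sum_toList, ← Fin.sum_univ_getElem]
        exact (Fintype.sum_equiv (finCongr hlen) _ _ fun i => rfl).symm)]
      have hd : d = (P.aug c).toNat := by rw [haug, Int.toNat_natCast]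
      rw [hd]
      exact prod_geom_sub_mem y (fun i => hV c hm _ (hy i)) j
  refine ⟨M, hg.injective ?_⟩
  rw [map_ann hg, map_zero]
  have := ann_mem_deg hS' hline j hθ (h _ K'.posStr g hg V fun e he =>
    ⟨s e (List.mem_append_left _ he), hs _ _, hV _ _, hsum _ _⟩) M
  exact AddSubgroup.mem_bot.1 (hM ▸ deg_antitone (Nat.le_add_left M n) this)

end Groth.Agent.KRR28
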