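import Groth.Agent.KRR28.Residual
import Groth.Agent.KRR28.Twist
import Groth.Agent.DCat.PullTensor
import Groth.Agent.DCat.TensorAssoc
import Groth.Agent.CycLib28.PB.Ops.TensorCalc
import Groth.Agent.Coherent.Existence.SysKernel
import Groth.Agent.VarietyLib.Dual
import Groth.Agent.MorProj.OmegaAffine
import Groth.Agent.S3233

/-!
# The bundle cutting out the embedding at infinity
-/

set_option autoImplicit false
set_option backward.isDefEq.respectTransparency false
set_option linter.style.haveILetI false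
set_option linter.unusedSectionVars false

universe u

open CategoryTheory CategoryTheory.Limits AlgebraicGeometry TopologicalSpace

noncomputable section

namespace Groth.Agent.KRR28

attribute [local instance] isLocallyNoetherian_PY1

theorem exists_untwist {X : Scheme.{u}} {A K J L : X.Modules} (p₁ : A ⟶ CohB1.tensorMod K J) [Epi p₁]
    (hL : PicF.IsInvertible L) (eJL : CohB1.tensorMod J L ≅ Coh.structureModule X) :
    ∃ p₂ : CohB1.tensorMod A L ⟶ K, Epi p₂ := by
  haveI := EulerLib.epi_tensorMap hL p₁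
  exact ⟨AmpleLib.tensorMap p₁ (𝟙 L) ≫ ((DCat.TensorAssoc.assocIso K J L) ≪≫
    AmpleLib.tensorIso (Iso.refl K) eJL ≪≫ SecTwist.unitorR _).hom, epi_comp _ _⟩

theorem exists_pullback_tensor {X Z : Scheme.{u}} (e : Z ⟶ X) (A L : X.Modules) {A' : Z.Modules}
    (iA : (Scheme.Modules.pullback e).obj A ≅ A') :
    Nonempty ((Scheme.Modules.pullback e).obj (CohB1.tensorMod A L) ≅
      CohB1.tensorMod A' ((Scheme.Modules.pullback e).obj L)) :=
  ⟨DCat.PullTensor.pullTensorIso e A L ≪≫ AmpleLib.tensorIso iA (Iso.refl _)⟩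

/-- The cosection with image the residual ideal. -/
theorem exists_cosection {E M Y : Scheme.{u}} (e : E ⟶ M) (π : M ⟶ Y) (I : Y.IdealSheafData)
    (K J : M.IdealSheafData) (hJ : BlowUp.IsEffCartierIdeal J) (h : I.comap π = K * J) {L : M.Modules}
    (hL : PicF.IsInvertible L) (eJL : CohB1.tensorMod (ClSub.idealMod J) L ≅ Coh.structureModule M)
    {A' : E.Modules} (iA : (Scheme.Modules.pullback e).obj ((Scheme.Modules.pullback π).obj (ClSub.idealMod I)) ≅ A')
    (Z : E.IdealSheafData) (hZ : K.comap e = Z)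
    [Coh.IsQCoh (CohB1.tensorMod A' ((Scheme.Modules.pullback e).obj L))] :
    ∃ t : CohB1.tensorMod A' ((Scheme.Modules.pullback e).obj L) ⟶ Coh.structureModule E, ∀ U : E.affineOpens,
      Z.ideal U = Ideal.span {a : Γ(E, U.1) |
        ∃ s : Γ(CohB1.tensorMod A' ((Scheme.Modules.pullback e).obj L), U.1), (t.app U.1) s = a} := by
  subst hZ
  obtain ⟨mulIso⟩ := nonempty_idealMod_mul_eff K hJ
  haveI := epi_pullIdeal π I
  let p₀ : (Scheme.Modules.pullback π).obj (ClSub.idealMod I) ⟶ ClSub.idealMod (K * J) :=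
    pullIdeal π I ≫ eqToHom (congrArg ClSub.idealMod h)
  haveI : Epi p₀ := epi_comp _ _
  let p₁ := p₀ ≫ mulIso.inv
  haveI : Epi p₁ := epi_comp _ _
  obtain ⟨p₂, hp₂⟩ := exists_untwist p₁ hL eJL
  haveI := hp₂
  haveI := (Scheme.Modules.pullbackPushforwardAdjunction e).leftAdjoint_preservesColimits
  haveI : (Scheme.Modules.pullback e).PreservesEpimorphisms := preservesEpimorphisms_of_preservesColimitsOfShape _
  obtain ⟨iQ⟩ := exists_pullback_tensor e _ L iA
  haveI := epi_pullIdeal e K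
  let p₃ := (Scheme.Modules.pullback e).map p₂ ≫ pullIdeal e K
  haveI : Epi p₃ := epi_comp _ _
  let p := iQ.inv ≫ p₃
  haveI : Epi p := epi_comp _ _
  haveI := MorProj.isQCoh_idealMod (K.comap e)
  refine ⟨p ≫ ClSub.idealModι (K.comap e), fun U => ?_⟩
  refine le_antisymm (fun a ha => ?_) (Ideal.span_le.2 ?_)
  · obtain ⟨k, hk⟩ := InjMod14.Kosz.exists_ival (K.comap e) U ha
    obtain ⟨s, hs⟩ := Coherent.Existence.app_surjective_of_epi p U.2 k
    refine Ideal.subset_span ⟨s, ?_⟩
    show (ClSub.idealModι (K.comap e)).app U.1 (p.app U.1 s) = a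
    rw [hs]; exact hk
  · rintro a ⟨s, rfl⟩
    exact InjMod14.Kosz.ival_mem (K.comap e) U (p.app U.1 s)

namespace Deformation

variable {X Y : Scheme.{u}} {f : X ⟶ Y} [IsClosedImmersion f] [IsLocallyNoetherian X] [IsLocallyNoetherian Y]
  (D : Deformation f) {d : ℕ}

theorem e_π : D.e ≫ D.π = D.ρ ≫ f := by
  rw [π, ← Category.assoc, ← D.ρ_centre, Category.assoc]
  refine congrArg (D.ρ ≫ ·) ?_
  rw [centre, Category.assoc, show P1.sect Y 1 ≫ KRR.pr 1 Y = 𝟙 Y from P1Lib24.sect_toBase Y 1, Category.comp_id]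

/-- A bundle with a cosection cutting out the embedding at infinity. -/
theorem exists_bundle (hf : Mor2.IsRegularClosedImmersion f)
    (hC : FlatMod.IsFinLocFreeOfRank d (Omega.conormal f)) :
    ∃ L : D.M.Modules, ClSub.IsInverseOf (ClSub.idealMod D.J) L ∧ PicF.IsInvertible L ∧
      ∃ Q : D.J.subscheme.Modules, FlatMod.IsFinLocFreeOfRank d Q ∧
        Q = CohB1.tensorMod ((Scheme.Modules.pullback D.ρ).obj (Omega.conormal f))
          ((Scheme.Modules.pullback D.e).obj L) ∧
        ∃ t : Q ⟶ Coh.structureModule D.J.subscheme, ∀ U : D.J.subscheme.affineOpens,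
          D.fInf.ker.ideal U = Ideal.span {a : Γ(D.J.subscheme, U.1) | ∃ s : Γ(Q, U.1), (t.app U.1) s = a} := by
  have hJ := FlatMor12.IdealModGen.isInvertible_idealMod D.J D.isEffCartier_J
  obtain ⟨L, hL⟩ := VarietyLib.exists_isInverseOf hJ
  obtain ⟨eJL⟩ := id hL
  have hLi : PicF.IsInvertible L := S3233.isInvertible_of_inverse hJ eJL
  let C := Omega.conormal f
  let iA : (Scheme.Modules.pullback D.e).obj ((Scheme.Modules.pullback D.π).obj (ClSub.idealMod f.ker)) ≅
      (Scheme.Modules.pullback D.ρ).obj C :=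
    (Scheme.Modules.pullbackComp D.e D.π).app _ ≪≫ (Scheme.Modules.pullbackCongr D.e_π).app _ ≪≫
      ((Scheme.Modules.pullbackComp D.ρ f).app _).symm
  have hker : D.F.ker.comap D.e = D.fInf.ker := by
    conv_rhs => rw [← D.isPullback_fInf.isoPullback_hom_fst, Scheme.Hom.ker_comp_of_isIso,
      Scheme.IdealSheafData.ker_fst_of_isClosedImmersion]
  have hQ : FlatMod.IsFinLocFreeOfRank d (CohB1.tensorMod ((Scheme.Modules.pullback D.ρ).obj C)
      ((Scheme.Modules.pullback D.e).obj L)) := CycLib28.PB.Ops.rank_tensor_line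
    (VarietyLib.isFinLocFreeOfRank_pullback D.ρ hC) (PicLoc.isInvertible_pullback D.e hLi)
  haveI := CAlgH3.LocFreeFactor.isQCoh_of_finLocFree (VarietyLib.isFinLocFree_of_rank hQ)
  obtain ⟨t, ht⟩ := exists_cosection D.e D.π f.ker D.F.ker D.J D.isEffCartier_J (D.ker_F_mul_J hf hC).symm hLi eJL
    iA D.fInf.ker hker
  exact ⟨L, hL, hLi, _, hQ, rfl, t, ht⟩

end Deformation

end Groth.Agent.KRR28
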