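import Groth.Agent.KRR28.Centre
import Groth.Agent.KRR28.Strict
import Groth.Agent.KRR28.Local
import Groth.Agent.FlatMor12.SteinGeneral
import Groth.Agent.KSplit28.PYGamma
import Groth.Agent.SDiv28.BlowUp
import Groth.Agent.ModPairLib.Colon

/-!
# The deformation to the normal cone
-/

set_option autoImplicit false
set_option backward.isDefEq.respectTransparency false
set_option linter.style.haveILetI false
set_option linter.unusedSectionVars false

universe u

open CategoryTheory CategoryTheory.Limits AlgebraicGeometry TopologicalSpace RingTheory.Sequence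

noncomputable section

namespace Groth.Agent.KRR28

theorem isLocallyNoetherian_PY1 (Y : Scheme.{u}) [IsLocallyNoetherian Y] : IsLocallyNoetherian (KRR.PY 1 Y) := by
  haveI := RelVALib.isProper_toBase 1 Y
  exact LocallyOfFiniteType.isLocallyNoetherian (CohB1.ProjSpaceOver.toBase 1 Y)

attribute [local instance] isLocallyNoetherian_PY1

theorem isWeaklyRegular_map_of_cons {R S : Type u} [CommRing R] [CommRing S] (χ : R →+* S)
    (hχ : Function.Surjective χ) {t : R} (hk : RingHom.ker χ = Ideal.span {t}) {rs : List R}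
    (h : IsWeaklyRegular R (t :: rs)) : IsWeaklyRegular S (rs.map χ) := by
  rw [isWeaklyRegular_cons_iff] at h
  letI := χ.toAlgebra
  let e : QuotSMulTop t R ≃ₗ[R] S :=
    (Submodule.quotEquivOfEq _ _ (by
      rw [← Submodule.ideal_span_singleton_smul, smul_eq_mul, Ideal.mul_top, ← hk]
      rfl)).trans (LinearMap.quotKerEquivOfSurjective (Algebra.linearMap R S) hχ)
  exact (isWeaklyRegular_map_algebraMap_iff S S _).2 ((e.isWeaklyRegular_congr _).1 h.2)

variable {X Y : Scheme.{u}} (f : X ⟶ Y)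

theorem isClosedImmersion_centre [IsClosedImmersion f] : IsClosedImmersion (centre f) := by
  unfold centre; infer_instance

/-- The trace of the centre on the subscheme. -/
theorem comap_centre [IsClosedImmersion f] :
    (centre f).ker.comap (KRR.projSpaceMap 1 f) = sectIdeal X 1 := by
  haveI := isClosedImmersion_centre f
  let σ := P1.sect X 1
  have hc : centre f = σ ≫ KRR.projSpaceMap 1 f := (sect_projSpaceMap f 1).symm
  have h : IsPullback (𝟙 X) σ (centre f) (KRR.projSpaceMap 1 f) := by
    refine ⟨⟨(Category.id_comp _).trans hc⟩, ⟨PullbackCone.IsLimit.mk _ (fun s => s.fst)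
      (fun s => Category.comp_id _) (fun s => ?_) (fun s m h₁ _ => (Category.comp_id m).symm.trans h₁)⟩⟩
    rw [← cancel_mono (KRR.projSpaceMap 1 f), Category.assoc, ← hc]
    exact s.condition
  rw [← CycLib28.ker_pullback_snd, sectIdeal]
  conv_rhs => rw [show P1.sect X 1 = σ from rfl, ← h.isoPullback_hom_snd, Scheme.Hom.ker_comp_of_isIso]

theorem mem_support_centre [IsClosedImmersion f] {p : KRR.PY 1 Y} :
    p ∈ ((centre f).ker.support : Set _) ↔ p ∈ Set.range (centre f) := by
  haveI := isClosedImmersion_centre f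
  rw [Scheme.Hom.support_ker]
  exact Set.ext_iff.1 (centre f).isClosedEmbedding.isClosed_range.closure_eq p

theorem sect_zero_notMem_centre [IsClosedImmersion f] (y : Y) :
    P1.sect Y 0 y ∉ ((centre f).ker.support : Set _) := by
  rw [mem_support_centre]
  rintro ⟨x, hx⟩
  exact Set.disjoint_left.1 (disjoint_range_sect Y (i := 0) (j := 1) (by decide)) ⟨y, rfl⟩
    ⟨f x, (Scheme.Hom.comp_apply f (P1.sect Y 1) x).symm.trans hx⟩

theorem comap_sect_zero [IsClosedImmersion f] : (centre f).ker.comap (P1.sect Y 0) = ⊤ := by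
  rw [← Scheme.IdealSheafData.support_eq_bot_iff, Scheme.IdealSheafData.support_comap]
  exact Closeds.ext (Set.eq_empty_iff_forall_notMem.2 fun y hy => sect_zero_notMem_centre f y hy)

theorem isEffCartier_top {Z : Scheme.{u}} : BlowUp.IsEffCartierIdeal (⊤ : Z.IdealSheafData) := fun z => by
  obtain ⟨U, hU, hzU, -⟩ := exists_isAffineOpen_mem_and_subset (x := z) (U := (⊤ : Z.Opens)) trivial
  exact ⟨⟨U, hU⟩, hzU, 1, one_mem _, by rw [Ideal.span_singleton_one]; rfl⟩

/-- The data of the deformation. -/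
structure Deformation where
  M : Scheme.{u}
  b : M ⟶ KRR.PY 1 Y
  hb : BlowUp.IsBlowUp b (centre f).ker
  F : KRR.PY 1 X ⟶ M
  hF : F ≫ b = KRR.projSpaceMap 1 f
  i₀ : Y ⟶ M
  hi₀ : i₀ ≫ b = P1.sect Y 0

variable [IsLocallyNoetherian X] [IsLocallyNoetherian Y]

theorem nonempty_deformation [IsClosedImmersion f] : Nonempty (Deformation f) := by
  obtain ⟨M, b, hb⟩ := BlowUpLib.exists_isBlowUp (centre f).ker
  obtain ⟨F, hF, -⟩ := hb.2 _ (KRR.projSpaceMap 1 f) (by rw [comap_centre]; exact isEffCartier_sectIdeal X 1)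
  obtain ⟨i₀, hi₀, -⟩ := hb.2 _ (P1.sect Y 0) (by rw [comap_sect_zero]; exact isEffCartier_top)
  exact ⟨⟨M, b, hb, F, hF, i₀, hi₀⟩⟩

namespace Deformation

variable {f} [IsClosedImmersion f] (D : Deformation f)

/-- The ideal of the exceptional divisor. -/
def J : D.M.IdealSheafData := (centre f).ker.comap D.b

/-- The exceptional divisor. -/
def e : D.J.subscheme ⟶ D.M := D.J.subschemeι

theorem isEffCartier_J : BlowUp.IsEffCartierIdeal D.J := D.hb.1

instance isProper_b : IsProper D.b :=
  BlowUpLib.isProper_of_isBlowUp D.hb fun V => by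
    haveI := IsLocallyNoetherian.component_noetherian (X := KRR.PY 1 Y) V
    exact Ideal.fg_of_isNoetherianRing _

theorem isLocallyNoetherian_M : IsLocallyNoetherian D.M := LocallyOfFiniteType.isLocallyNoetherian D.b

instance : IsClosedImmersion D.e := by unfold e; infer_instance

theorem isLocallyNoetherian_E : IsLocallyNoetherian D.J.subscheme := by
  haveI := D.isLocallyNoetherian_M
  exact LocallyOfFiniteType.isLocallyNoetherian D.e

instance isClosedImmersion_F : IsClosedImmersion D.F := by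
  haveI : IsClosedImmersion (D.F ≫ D.b) := by rw [D.hF]; infer_instance
  exact IsClosedImmersion.of_comp D.F D.b

instance isClosedImmersion_i₀ : IsClosedImmersion D.i₀ := by
  haveI : IsClosedImmersion (D.i₀ ≫ D.b) := by rw [D.hi₀]; infer_instance
  exact IsClosedImmersion.of_comp D.i₀ D.b

theorem comap_J_F : D.J.comap D.F = sectIdeal X 1 := by
  rw [J, ← Scheme.IdealSheafData.comap_comp, D.hF, comap_centre]

theorem isIso_b_off : IsIso (D.b ∣_ (centre f).ker.support.compl) := SDiv28.isIso_off_center D.hb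

/-- The subscheme over zero is `Y`. -/
theorem isPullback_zero : IsPullback D.i₀ (𝟙 Y) D.b (P1.sect Y 0) := by
  refine ⟨⟨D.hi₀.trans (Category.id_comp _).symm⟩, ⟨PullbackCone.IsLimit.mk _ (fun s => s.snd)
    (fun s => ?_) (fun s => Category.comp_id _) (fun s m _ h₂ => (Category.comp_id m).symm.trans h₂)⟩⟩
  symm
  refine SDiv28.hom_ext D.hb ?_ (by rw [Category.assoc, D.hi₀]; exact s.condition)
  rw [s.condition, Scheme.IdealSheafData.comap_comp, comap_sect_zero, Scheme.IdealSheafData.comap_top]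
  exact isEffCartier_top

theorem ker_i₀ : D.i₀.ker = (sectIdeal Y 0).comap D.b := by
  rw [sectIdeal, ← CycLib28.ker_pullback_snd]
  conv_lhs => rw [← D.isPullback_zero.flip.isoPullback_hom_snd, Scheme.Hom.ker_comp_of_isIso]

theorem sect_F_eq : P1.sect X 0 ≫ D.F = f ≫ D.i₀ := by
  have e0 : (P1.sect X 0 ≫ D.F) ≫ D.b = (f ≫ D.i₀) ≫ D.b := by
    rw [Category.assoc, D.hF, Category.assoc, D.hi₀]
    exact sect_projSpaceMap f 0
  refine SDiv28.hom_ext D.hb ?_ e0
  rw [e0, Category.assoc, D.hi₀, Scheme.IdealSheafData.comap_comp, comap_sect_zero, Scheme.IdealSheafData.comap_top]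
  exact isEffCartier_top

theorem isPullback_i₀ : IsPullback f (P1.sect X 0) D.i₀ D.F :=
  isPullback_of_comp D.b (by rw [D.hi₀, D.hF]; exact (isPullback_sect f 0).flip) D.sect_F_eq.symm

theorem range_i₀ : Set.range (P1.sect Y 0).base ⊆
    Set.range (Scheme.Opens.ι ((centre f).ker.support.compl : (KRR.PY 1 Y).Opens)).base := by
  rintro _ ⟨y, rfl⟩
  exact ⟨⟨P1.sect Y 0 y, sect_zero_notMem_centre f y⟩, rfl⟩

/-- The embedding at infinity. -/
def fInf : X ⟶ D.J.subscheme :=
  IsClosedImmersion.lift D.e (P1.sect X 1 ≫ D.F) (by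
    rw [e, Scheme.IdealSheafData.ker_subschemeι, ← Scheme.IdealSheafData.map_ker,
      Scheme.IdealSheafData.le_map_iff_comap_le, comap_J_F]
    exact le_rfl)

theorem fInf_e : D.fInf ≫ D.e = P1.sect X 1 ≫ D.F := IsClosedImmersion.lift_fac _ _ _

instance isClosedImmersion_fInf : IsClosedImmersion D.fInf := by
  haveI : IsClosedImmersion (D.fInf ≫ D.e) := by rw [D.fInf_e]; infer_instance
  exact IsClosedImmersion.of_comp D.fInf D.e

theorem isPullback_fInf : IsPullback D.fInf (P1.sect X 1) D.e D.F := by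
  refine IsPullback.flip ?_
  let ι : X ⟶ pullback D.F D.e := pullback.lift (P1.sect X 1) D.fInf D.fInf_e.symm
  haveI : IsIso ι := IsClosedImmersion.isIso_of_ker_eq (P1.sect X 1) (pullback.fst D.F D.e) ι
    (pullback.lift_fst _ _ _) (by
      rw [Scheme.IdealSheafData.ker_fst_of_isClosedImmersion, e, Scheme.IdealSheafData.ker_subschemeι, comap_J_F]
      rfl)
  exact IsPullback.of_iso_pullback ⟨D.fInf_e.symm⟩ (asIso ι) (pullback.lift_fst _ _ _) (pullback.lift_snd _ _ _)

/-- The projection of the exceptional divisor to the centre. -/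
def ρ : D.J.subscheme ⟶ X :=
  haveI := isClosedImmersion_centre f
  IsClosedImmersion.lift (centre f) (D.e ≫ D.b) (by
    rw [← Scheme.IdealSheafData.map_ker, e, Scheme.IdealSheafData.ker_subschemeι,
      Scheme.IdealSheafData.le_map_iff_comap_le]
    exact le_rfl)

theorem ρ_centre : D.ρ ≫ centre f = D.e ≫ D.b := by
  haveI := isClosedImmersion_centre f
  exact IsClosedImmersion.lift_fac _ _ _

theorem fInf_ρ : D.fInf ≫ D.ρ = 𝟙 X := by
  haveI := isClosedImmersion_centre f
  rw [← cancel_mono (centre f), Category.assoc, D.ρ_centre, ← Category.assoc, D.fInf_e, Category.assoc, D.hF,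
    Category.id_comp]
  exact sect_projSpaceMap f 1

/-! ### The residual divisor at infinity -/

theorem exists_residual : ∃ B : D.M.IdealSheafData, BlowUp.IsEffCartierIdeal B ∧
    B * D.J = (sectIdeal Y 1).comap D.b ∧ B.comap D.F = ⊤ := by
  have hle : (sectIdeal Y 1).comap D.b ≤ D.J := by
    rw [← Scheme.IdealSheafData.le_map_iff_comap_le]
    refine le_trans ?_ (Scheme.IdealSheafData.le_map_iff_comap_le.2 le_rfl)
    exact Scheme.Hom.le_ker_comp f (P1.sect Y 1)
  obtain ⟨B, hB⟩ := ModPairLib.exists_mul_eq D.isEffCartier_J hle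
  refine ⟨B, ModPairLib.isEffCartier_of_mul
    (hB.symm ▸ SDiv28.isEffCartier_comap D.hb (isEffCartier_sectIdeal Y 1)) D.isEffCartier_J, hB, ?_⟩
  refine ModPairLib.eq_top_of_mul_eq (isEffCartier_sectIdeal X 1) ?_
  conv_lhs => rw [← D.comap_J_F, ← ModPairLib.comap_mul, hB, ← Scheme.IdealSheafData.comap_comp, D.hF,
    comap_sectIdeal]

variable {d : ℕ}

/-- The strict transform is a regular immersion of codimension `d`. -/
theorem regular_F (hf : Mor2.IsRegularClosedImmersion f) (hC : FlatMod.IsFinLocFreeOfRank d (Omega.conormal f)) :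
    Mor2.IsRegularClosedImmersion D.F ∧ FlatMod.IsFinLocFreeOfRank d (Omega.conormal D.F) := by
  haveI := D.isLocallyNoetherian_M
  refine regular_of_stalks D.F fun z => ?_
  obtain ⟨U, c, hzU, -, hI, hK, hker, hall⟩ := exists_coords f hf hC z
  have htail := ((isWeaklyRegular_append_iff _ _ _).1 hall).1
  have hzU' : D.b (D.F z) ∈ U.1 := by rwa [← Scheme.Hom.comp_apply, D.hF]
  by_cases hs : D.b (D.F z) ∈ ((centre f).ker.support : Set _)
  · obtain ⟨V, hVU, T, hpre, hkerT, hw, -, -, -⟩ := exists_strict_chart D.hb (KRR.projSpaceMap 1 f) D.hF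
      (by rw [comap_centre]; exact isEffCartier_sectIdeal X 1) U c hI hK hker
    have hzV : D.F z ∈ V.1 := by
      show z ∈ D.F ⁻¹ᵁ V.1
      rw [hpre]; exact hzU
    haveI : IsClosedImmersion (D.F ∣_ V.1) := IsZariskiLocalAtTarget.restrict D.isClosedImmersion_F V.1
    let γ := (D.M.presheaf.germ V.1 (D.F z) hzV).hom
    have hk : RingHom.ker (D.F.stalkMap z).hom = Ideal.ofList ((List.ofFn T).map γ) := by
      rw [CAlgH.RegImmStalk.ker_stalkMap_eq D.F z V.2 hzV, ← Scheme.Hom.ker_apply, hkerT, ← Ideal.map_ofList]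
      exact congrArg _ (congrArg Ideal.span (Set.ext fun r => List.mem_ofFn.symm))
    have hw' := isWeaklyRegular_germ V.2 hzV hw
    rw [List.map_cons] at hw'
    refine ⟨_, by simp, isWeaklyRegular_tail hw' fun r hr => ?_, hk⟩
    rcases List.mem_cons.1 hr with rfl | hr
    · show ¬ IsUnit _
      rw [← Scheme.mem_basicOpen]
      intro hmem
      rw [Scheme.Hom.appLE, CommRingCat.comp_apply, Scheme.basicOpen_res, ← Scheme.preimage_basicOpen] at hmem
      have hz := ((centre f).ker.mem_support_iff_of_mem hzU').1 hs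
      rw [Scheme.mem_zeroLocus_iff] at hz
      exact hz (c 0) (hI.ge (Ideal.subset_span ⟨0, rfl⟩)) hmem.2
    · exact IsLocalRing.le_maximalIdeal (RingHom.ker_ne_top _) (hk.ge (Ideal.subset_span hr))
  · haveI := D.isIso_b_off
    haveI : IsIso (D.b.stalkMap (D.F z)) :=
      ((MorphismProperty.isomorphisms _).arrow_mk_iso_iff (morphismRestrictStalkMap D.b
        (centre f).ker.support.compl ⟨D.F z, hs⟩)).1
        (inferInstanceAs (IsIso ((D.b ∣_ (centre f).ker.support.compl).stalkMap ⟨D.F z, hs⟩)))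
    let β := (asIso (D.b.stalkMap (D.F z))).commRingCatIsoToRingEquiv
    let c' : List Γ(KRR.PY 1 Y, U.1) := List.ofFn fun j : Fin d => c j.succ
    have hw := isWeaklyRegular_germ U.2 hzU' htail
    have hk : RingHom.ker ((D.F ≫ D.b).stalkMap z).hom =
        Ideal.ofList (c'.map ((KRR.PY 1 Y).presheaf.germ U.1 (D.b (D.F z)) hzU').hom) := by
      haveI : IsClosedImmersion (D.F ≫ D.b) := by rw [D.hF]; infer_instance
      haveI : IsClosedImmersion ((D.F ≫ D.b) ∣_ U.1) := IsZariskiLocalAtTarget.restrict (P := @IsClosedImmersion) (f := D.F ≫ D.b) ‹_› U.1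
      refine (CAlgH.RegImmStalk.ker_stalkMap_eq (D.F ≫ D.b) z U.2 hzU').trans ?_
      have hkU : (D.F ≫ D.b).ker.ideal U = _ := (by rw [D.hF] : (D.F ≫ D.b).ker.ideal U = (KRR.projSpaceMap 1 f).ker.ideal U).trans hker
      rw [← Scheme.Hom.ker_apply, hkU, ← Ideal.map_ofList]
      exact congrArg _ (congrArg Ideal.span (Set.ext fun r => List.mem_ofFn.symm))
    refine ⟨(c'.map ((KRR.PY 1 Y).presheaf.germ U.1 (D.b (D.F z)) hzU').hom).map β, by simp [c'],
      (β.toAddEquiv.isWeaklyRegular_congr (List.forall₂_map_right_iff.2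
        (List.forall₂_same.2 fun x _ y => map_mul β x y))).1 hw, ?_⟩
    rw [Scheme.Hom.stalkMap_comp, CommRingCat.hom_comp, ← RingHom.comap_ker] at hk
    refine Eq.trans ?_ (Ideal.map_ofList β.toRingHom _)
    rw [← hk]
    exact (Ideal.map_comap_of_surjective _ β.surjective _).symm

/-- The embedding at infinity is regular of codimension `d`. -/
theorem regular_fInf (hf : Mor2.IsRegularClosedImmersion f) (hC : FlatMod.IsFinLocFreeOfRank d (Omega.conormal f)) :
    Mor2.IsRegularClosedImmersion D.fInf ∧ FlatMod.IsFinLocFreeOfRank d (Omega.conormal D.fInf) := by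
  haveI := D.isLocallyNoetherian_M
  haveI := D.isLocallyNoetherian_E
  refine regular_of_stalks D.fInf fun x => ?_
  obtain ⟨U, c, hzU, -, hI, hK, hker, -⟩ := exists_coords f hf hC (P1.sect X 1 x)
  obtain ⟨V, hVU, T, hpre, hkerT, hw, hJV, -, -⟩ := exists_strict_chart D.hb (KRR.projSpaceMap 1 f) D.hF
    (by rw [comap_centre]; exact isEffCartier_sectIdeal X 1) U c hI hK hker
  let W : D.J.subscheme.affineOpens := ⟨D.e ⁻¹ᵁ V.1, V.2.preimage D.e⟩
  have hxW : D.fInf x ∈ W.1 := by
    show D.e (D.fInf x) ∈ V.1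
    rw [← Scheme.Hom.comp_apply, D.fInf_e, Scheme.Hom.comp_apply]
    show P1.sect X 1 x ∈ D.F ⁻¹ᵁ V.1
    rw [hpre]; exact hzU
  have hw' := isWeaklyRegular_map_of_cons (D.e.app V.1).hom (D.J.subschemeι_app_surjective V)
    ((D.J.ker_subschemeι_app V).trans hJV) hw
  haveI : IsClosedImmersion (D.fInf ∣_ W.1) := IsZariskiLocalAtTarget.restrict D.isClosedImmersion_fInf W.1
  refine ⟨((List.ofFn T).map (D.e.app V.1).hom).map (D.J.subscheme.presheaf.germ W.1 _ hxW).hom, by simp,
    isWeaklyRegular_germ W.2 hxW hw', ?_⟩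
  rw [CAlgH.RegImmStalk.ker_stalkMap_eq D.fInf x W.2 hxW, ← Scheme.Hom.ker_apply, ← Ideal.map_ofList,
    ← Ideal.map_ofList]
  congr 1
  conv_lhs => rw [← D.isPullback_fInf.isoPullback_hom_fst, Scheme.Hom.ker_comp_of_isIso,
    Scheme.IdealSheafData.ker_fst_of_isClosedImmersion]
  rw [ProjLib.comap_ideal_eq _ D.e V W le_rfl, hkerT, ← Scheme.Hom.app_eq_appLE]
  exact congrArg _ (congrArg Ideal.span (Set.ext fun r => List.mem_ofFn.symm))

/-! ### Connectedness -/

theorem geometricallyConnected_b (hf : Mor2.IsRegularClosedImmersion f)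
    (hC : FlatMod.IsFinLocFreeOfRank d (Omega.conormal f)) : GeometricallyConnected D.b := by
  haveI := BlowUpCoh.isIso_unitMap D.hb (koszulBasis_centre f hf hC)
  refine FlatMor12.SteinGeneral.geometricallyConnected_of_isIso_app D.b fun V => ?_
  have hb : Function.Bijective ((StMod.unitMap D.b).app V) := ConcreteCategory.bijective_of_isIso _
  refine (ConcreteCategory.isIso_iff_bijective (D.b.app V)).2 ?_
  exact hb

theorem connectedSpace_M (hf : Mor2.IsRegularClosedImmersion f) [ConnectedSpace ↥Y]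
    (hC : FlatMod.IsFinLocFreeOfRank d (Omega.conormal f)) : ConnectedSpace ↥D.M := by
  haveI := D.geometricallyConnected_b hf hC
  haveI := KSplit28.connectedSpace_PY 1 Y
  exact connectedSpace_of_fibres D.b.continuous D.b.isClosedMap fun p => D.b.isConnected_preimage_singleton p

theorem connectedSpace_E (hf : Mor2.IsRegularClosedImmersion f) [ConnectedSpace ↥X]
    (hC : FlatMod.IsFinLocFreeOfRank d (Omega.conormal f)) : ConnectedSpace ↥D.J.subscheme := by
  haveI := D.geometricallyConnected_b hf hC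
  haveI := isClosedImmersion_centre f
  haveI : IsProper (D.ρ ≫ centre f) := by rw [D.ρ_centre]; infer_instance
  haveI : IsProper D.ρ := IsProper.of_comp D.ρ (centre f)
  refine connectedSpace_of_fibres D.ρ.continuous D.ρ.isClosedMap fun x => ?_
  have himg : D.e '' (D.ρ ⁻¹' {x}) = D.b ⁻¹' {centre f x} := by
    ext m
    constructor
    · rintro ⟨q, hq, rfl⟩
      show D.b (D.e q) = _
      rw [← Scheme.Hom.comp_apply, ← D.ρ_centre, Scheme.Hom.comp_apply]
      exact congrArg _ hq
    · intro hm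
      have hm' : m ∈ (D.J.support : Set D.M) := by
        rw [J, Scheme.IdealSheafData.support_comap]
        exact (mem_support_centre f).2 ⟨x, (Eq.symm hm)⟩
      rw [← D.J.range_subschemeι] at hm'
      obtain ⟨q, rfl⟩ := hm'
      refine ⟨q, (centre f).isClosedEmbedding.injective ?_, rfl⟩
      show centre f (D.ρ q) = centre f x
      rw [← Scheme.Hom.comp_apply, D.ρ_centre, Scheme.Hom.comp_apply]
      exact hm
  have h := D.b.isConnected_preimage_singleton (centre f x)
  rw [← himg] at h
  exact ⟨h.nonempty.of_image, D.e.isClosedEmbedding.isInducing.isPreconnected_image.1 h.isPreconnected⟩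

end Deformation

/-- The centre is a regular closed immersion. -/
theorem isRegularClosedImmersion_centre [IsClosedImmersion f] {d : ℕ} (hf : Mor2.IsRegularClosedImmersion f)
    (hC : FlatMod.IsFinLocFreeOfRank d (Omega.conormal f)) : Mor2.IsRegularClosedImmersion (centre f) := by
  haveI := isClosedImmersion_centre f
  refine (regular_of_stalks (centre f) (d := d + 1) fun x => ?_).1
  obtain ⟨U, c, hzU, -, hI, -, -, hall⟩ := exists_coords f hf hC (P1.sect X 1 x)
  have hxU : centre f x ∈ U.1 := by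
    rw [← Scheme.Hom.comp_apply, sect_projSpaceMap] at hzU
    exact hzU
  haveI : IsClosedImmersion (centre f ∣_ U.1) :=
    IsZariskiLocalAtTarget.restrict (isClosedImmersion_centre f) U.1
  refine ⟨_, by simp, isWeaklyRegular_germ U.2 hxU hall, ?_⟩
  rw [CAlgH.RegImmStalk.ker_stalkMap_eq (centre f) x U.2 hxU, ← Scheme.Hom.ker_apply, hI, ← Ideal.map_ofList]
  refine congrArg _ (congrArg Ideal.span (Set.ext fun r => ?_))
  simp only [List.mem_append, List.mem_ofFn, List.mem_singleton, Set.mem_range, Set.mem_setOf_eq]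
  refine ⟨?_, ?_⟩
  · rintro ⟨i, rfl⟩
    rcases Fin.eq_zero_or_eq_succ i with rfl | ⟨j, rfl⟩
    · exact Or.inr rfl
    · exact Or.inl ⟨j, rfl⟩
  · rintro (⟨j, rfl⟩ | rfl)
    · exact ⟨j.succ, rfl⟩
    · exact ⟨0, rfl⟩

end Groth.Agent.KRR28
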