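import Groth.Agent.KFil28.Lines
import Groth.Agent.LambdaLib.KRRThms

/-!
# Degree in the roots, and annihilators of `θ ψ^j` on the γ-filtration
-/

set_option autoImplicit false
set_option linter.style.haveILetI false

universe u

open LambdaRing PowerSeries Groth.Agent

noncomputable section

namespace Groth.Agent.KRR28

variable {K : Type u} [CommRing K]

/-- Integral combinations of products of at least `k` elements of `V`. -/
def deg (V : Set K) (k : ℕ) : AddSubgroup K :=
  AddSubgroup.closure {x | ∃ l : List K, (∀ v ∈ l, v ∈ V) ∧ k ≤ l.length ∧ x = l.prod}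

variable {V : Set K}

theorem one_mem_deg : (1 : K) ∈ deg V 0 := AddSubgroup.subset_closure ⟨[], by simp, le_rfl, rfl⟩

theorem mem_deg_one {v : K} (hv : v ∈ V) : v ∈ deg V 1 :=
  AddSubgroup.subset_closure ⟨[v], by simpa using hv, le_rfl, (List.prod_singleton).symm⟩

theorem deg_antitone {k l : ℕ} (h : k ≤ l) : deg V l ≤ deg V k :=
  AddSubgroup.closure_mono fun _ ⟨w, hw, hl, hx⟩ => ⟨w, hw, h.trans hl, hx⟩

theorem mem_deg_of_le {k l : ℕ} {x : K} (hx : x ∈ deg V l) (h : k ≤ l) : x ∈ deg V k := deg_antitone h hx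

theorem mul_mem_deg {k l : ℕ} {x y : K} (hx : x ∈ deg V k) (hy : y ∈ deg V l) : x * y ∈ deg V (k + l) := by
  induction hx using AddSubgroup.closure_induction with
  | mem x hx =>
    induction hy using AddSubgroup.closure_induction with
    | mem y hy =>
      obtain ⟨a, ha, hk, rfl⟩ := hx
      obtain ⟨b, hb, hl, rfl⟩ := hy
      refine AddSubgroup.subset_closure ⟨a ++ b, fun v hv => ?_, by simp; omega, (List.prod_append).symm⟩
      rcases List.mem_append.1 hv with h | h
      exacts [ha v h, hb v h]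
    | zero => simp
    | add a b _ _ ha hb => rw [mul_add]; exact add_mem ha hb
    | neg a _ ha => rw [mul_neg]; exact neg_mem ha
  | zero => simp
  | add a b _ _ ha hb => rw [add_mul]; exact add_mem ha hb
  | neg a _ ha => rw [neg_mul]; exact neg_mem ha

theorem natCast_mul_mem_deg (m : ℕ) {k : ℕ} {x : K} (hx : x ∈ deg V k) : (m : K) * x ∈ deg V k := by
  rw [← nsmul_eq_mul]; exact AddSubgroup.nsmul_mem _ hx m

theorem natCast_mem_deg (m : ℕ) : (m : K) ∈ deg V 0 := by simpa using natCast_mul_mem_deg m (one_mem_deg (K := K) (V := V))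

theorem deg_eq_bot (hfin : V.Finite) (hnil : ∀ v ∈ V, IsNilpotent v) : ∃ L, deg V L = ⊥ := by
  obtain ⟨L, hL⟩ := Ideal.exists_pow_le_of_le_radical_of_fg (I := Ideal.span V) (J := ⊥)
    (Ideal.span_le.2 fun v hv => Ideal.mem_radical_iff.2 (by
      obtain ⟨m, hm⟩ := hnil v hv; exact ⟨m, hm⟩)) (Submodule.fg_span hfin)
  refine ⟨L, (AddSubgroup.closure_eq_bot_iff (G := K)).2 ?_⟩
  rintro x ⟨l, hl, hk, rfl⟩
  have h : l.prod ∈ Ideal.span V ^ l.length := by
    clear hk
    induction l with
    | nil => simp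
    | cons a l ih =>
      rw [List.prod_cons, List.length_cons, pow_succ']
      exact Ideal.mul_mem_mul (Ideal.subset_span (hl a List.mem_cons_self))
        (ih fun v hv => hl v (List.mem_cons_of_mem _ hv))
  exact Ideal.mem_bot.1 (hL (Ideal.pow_le_pow_right hk h))

theorem pow_sub_mem_deg {v : K} (hv : v ∈ V) (j : ℕ) : (v + 1) ^ j - 1 - (j : K) * v ∈ deg V 2 := by
  induction j with
  | zero => simp
  | succ j ih =>
    have e : (v + 1) ^ (j + 1) - 1 - ((j + 1 : ℕ) : K) * v =
      ((v + 1) ^ j - 1 - (j : K) * v) + ((v + 1) ^ j - 1 - (j : K) * v) * v + (j : K) * (v * v) := by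
        push_cast; ring
    have hw : v ∈ deg V 1 := mem_deg_one hv
    have h3 := mul_mem_deg ih hw
    have h1 : ((v + 1) ^ j - 1 - (j : K) * v) * v ∈ deg V 2 := mem_deg_of_le h3 (Nat.le_succ 2)
    have h4 := natCast_mul_mem_deg j (mul_mem_deg hw hw)
    have h2 : (j : K) * (v * v) ∈ deg V 2 := h4
    rw [e]
    exact add_mem (add_mem ih h1) h2

variable [LambdaOps K] {P : PosStructure K}

/-- `ψ^j` is `j^k` on products of `k` roots, to first order. -/
theorem adams_sub_mem_deg (hS : HasSplitting K P) (hV : ∀ v ∈ V, P.IsLine (v + 1)) (j : ℕ) {k : ℕ} {x : K}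
    (hx : x ∈ deg V k) : adams P j x - (j : K) ^ k * x ∈ deg V (k + 1) := by
  have hv : ∀ v ∈ V, adams P j v - (j : K) * v ∈ deg V 2 := fun v hv => by
    have e : adams P j v = (v + 1) ^ j - 1 := by
      rw [← LambdaLib.adams_of_isLine P (hV v hv) j, show adams P j (v + 1) = adams P j v + adams P j 1 from
        map_add (LambdaLib.adamsHom P j) v 1, LambdaLib.adams_one]; ring
    rw [e]; exact pow_sub_mem_deg hv j
  have key : ∀ (A B a b : K) (j m : ℕ), A * B - (j : K) ^ (m + 1) * (a * b) =
      (A - (j : K) * a) * (B - (j : K) ^ m * b) + ((j ^ m : ℕ) : K) * ((A - (j : K) * a) * b) +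
      (j : K) * (a * (B - (j : K) ^ m * b)) := fun A B a b j m => by push_cast; ring
  have hl : ∀ l : List K, (∀ v ∈ l, v ∈ V) →
      adams P j l.prod - (j : K) ^ l.length * l.prod ∈ deg V (l.length + 1) := by
    intro l
    induction l with
    | nil => intro _; simp [LambdaLib.adams_one]
    | cons a l ih =>
      intro h
      have ih' := ih fun v hv => h v (List.mem_cons_of_mem _ hv)
      have hp : l.prod ∈ deg V l.length :=
        AddSubgroup.subset_closure ⟨l, fun v hv => h v (List.mem_cons_of_mem _ hv), le_rfl, rfl⟩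
      have ha := h a List.mem_cons_self
      rw [List.prod_cons, List.length_cons, LambdaLib.adams_mul hS,
        key (adams P j a) (adams P j l.prod) a l.prod j l.length]
      refine add_mem (add_mem (mem_deg_of_le (mul_mem_deg (hv a ha) ih') (by omega))
        (natCast_mul_mem_deg _ (mem_deg_of_le (mul_mem_deg (hv a ha) hp) (by omega))))
        (natCast_mul_mem_deg _ (mem_deg_of_le (mul_mem_deg (mem_deg_one ha) ih') (by omega)))
  induction hx using AddSubgroup.closure_induction with
  | mem x hx =>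
    obtain ⟨l, hlV, hk, rfl⟩ := hx
    rcases hk.eq_or_lt with rfl | hk
    · exact hl l hlV
    · have hp : l.prod ∈ deg V (k + 1) := AddSubgroup.subset_closure ⟨l, hlV, hk, rfl⟩
      have h1 := deg_antitone (show k + 1 ≤ l.length + 1 by omega) (hl l hlV)
      rw [show adams P j l.prod - (j : K) ^ k * l.prod = (adams P j l.prod - (j : K) ^ l.length * l.prod) +
        ((j ^ l.length : ℕ) : K) * l.prod - ((j ^ k : ℕ) : K) * l.prod by push_cast; ring]
      exact sub_mem (add_mem h1 (natCast_mul_mem_deg _ hp)) (natCast_mul_mem_deg _ hp)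
  | zero => rw [show adams P j (0 : K) = 0 from map_zero (LambdaLib.adamsHom P j)]; simp
  | add a b _ _ ha hb =>
    rw [show adams P j (a + b) = adams P j a + adams P j b from map_add (LambdaLib.adamsHom P j) a b,
      show adams P j a + adams P j b - (j : K) ^ k * (a + b) =
        (adams P j a - (j : K) ^ k * a) + (adams P j b - (j : K) ^ k * b) by ring]
    exact add_mem ha hb
  | neg a _ ha =>
    rw [show adams P j (-a) = -adams P j a from map_neg (LambdaLib.adamsHom P j) a,
      show -adams P j a - (j : K) ^ k * -a = -(adams P j a - (j : K) ^ k * a) by ring]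
    exact neg_mem ha

/-- Power series adapted to the degree. -/
def AdaptedDeg (V : Set K) (f : K⟦X⟧) : Prop := ∀ k, coeff k f ∈ deg V k

theorem AdaptedDeg.mul {f h : K⟦X⟧} (hf : AdaptedDeg V f) (hh : AdaptedDeg V h) : AdaptedDeg V (f * h) := fun k => by
  rw [coeff_mul]
  refine AddSubgroup.sum_mem _ fun p hp => ?_
  rw [Finset.HasAntidiagonal.mem_antidiagonal] at hp
  exact hp ▸ mul_mem_deg (hf _) (hh _)

theorem AdaptedDeg.cancel {f h : K⟦X⟧} (hf : AdaptedDeg V f) (hfh : AdaptedDeg V (f * h))
    (h0 : constantCoeff f = 1) : AdaptedDeg V h := fun k => by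
  induction k using Nat.strong_induction_on with
  | _ k ih =>
    have hk := hfh k
    rw [coeff_mul, Finset.Nat.sum_antidiagonal_eq_sum_range_succ_mk, Finset.sum_range_succ'] at hk
    rw [coeff_zero_eq_constantCoeff_apply, h0, one_mul, Nat.sub_zero] at hk
    refine ((deg V k).add_mem_cancel_left (AddSubgroup.sum_mem _ fun i hi => ?_)).1 hk
    rw [Finset.mem_range] at hi
    have := mul_mem_deg (hf (i + 1)) (ih (k - (i + 1)) (by omega))
    rwa [show i + 1 + (k - (i + 1)) = k by omega] at this

theorem gammaSeries_lines {s : Multiset K} (hs : ∀ u ∈ s, P.IsLine u) :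
    LambdaLib.gammaSeries (s.sum - (s.card : K)) =
      (((s.map fun u => 1 + Polynomial.C (u - 1) * Polynomial.X).prod : Polynomial K) : K⟦X⟧) := by
  induction s using Multiset.induction_on with
  | empty => simp [LambdaLib.gammaSeries_zero]
  | cons u s ih =>
    rw [Multiset.sum_cons, Multiset.card_cons, Multiset.map_cons, Multiset.prod_cons, Polynomial.coe_mul,
      show u + s.sum - ((s.card + 1 : ℕ) : K) = (u - 1) + (s.sum - (s.card : K)) by push_cast; ring,
      LambdaLib.gammaSeries_add, ih fun w hw => hs w (Multiset.mem_cons_of_mem hw),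
      LambdaLib.gammaSeries_line_sub_one (LambdaLib.lam_one_eq_zero P)
        (LambdaLib.lam_line_eq_zero P (hs u (Multiset.mem_cons_self _ _)))]
    simp

theorem adapted_lines {s : Multiset K} (hs : ∀ u ∈ s, P.IsLine u) (hsV : ∀ u ∈ s, u - 1 ∈ V) :
    AdaptedDeg V (LambdaLib.gammaSeries (s.sum - (s.card : K))) := by
  induction s using Multiset.induction_on with
  | empty =>
    intro k
    rw [Multiset.sum_zero, Multiset.card_zero, Nat.cast_zero, sub_zero, LambdaLib.gammaSeries_zero,
      PowerSeries.coeff_one]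
    split_ifs with h
    · exact h ▸ one_mem_deg
    · exact zero_mem _
  | cons u s ih =>
    rw [Multiset.sum_cons, Multiset.card_cons,
      show u + s.sum - ((s.card + 1 : ℕ) : K) = (u - 1) + (s.sum - (s.card : K)) by push_cast; ring,
      LambdaLib.gammaSeries_add]
    refine AdaptedDeg.mul ?_ (ih (fun w hw => hs w (Multiset.mem_cons_of_mem hw))
      fun w hw => hsV w (Multiset.mem_cons_of_mem hw))
    rw [LambdaLib.gammaSeries_line_sub_one (LambdaLib.lam_one_eq_zero P)
      (LambdaLib.lam_line_eq_zero P (hs u (Multiset.mem_cons_self _ _)))]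
    intro k
    rcases k with _ | _ | k
    · simpa using one_mem_deg
    · simpa [coeff_C] using mem_deg_one (hsV u (Multiset.mem_cons_self _ _))
    · simp [coeff_one, PowerSeries.coeff_succ_mul_X]

theorem gamma_mem_deg {s t : Multiset K} (hs : ∀ u ∈ s, P.IsLine u) (ht : ∀ u ∈ t, P.IsLine u)
    (hsV : ∀ u ∈ s, u - 1 ∈ V) (htV : ∀ u ∈ t, u - 1 ∈ V) (hc : s.card = t.card) (k : ℕ) :
    gamma k (s.sum - t.sum) ∈ deg V k := by
  rw [← LambdaLib.coeff_gammaSeries]
  refine (adapted_lines ht htV).cancel ?_ ?_ k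
  · rw [← LambdaLib.gammaSeries_add, show t.sum - (t.card : K) + (s.sum - t.sum) = s.sum - (s.card : K) by
      rw [hc]; ring]
    exact adapted_lines hs hsV
  · rw [← coeff_zero_eq_constantCoeff_apply, LambdaLib.coeff_gammaSeries, LambdaLib.gamma_zero]

theorem sum_mem_deg_zero {s : Multiset K} (hsV : ∀ u ∈ s, u - 1 ∈ V) : s.sum ∈ deg V 0 :=
  AddSubgroup.multiset_sum_mem _ _ fun u hu => by
    simpa using add_mem (deg_antitone (Nat.zero_le 1) (mem_deg_one (hsV u hu))) one_mem_deg

theorem prod_geom_sub_mem {n : ℕ} (y : Fin n → K) (hy : ∀ i, y i - 1 ∈ V) (j : ℕ) :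
    (∏ i, ∑ k ∈ Finset.range j, y i ^ k) - ((j ^ n : ℕ) : K) ∈ deg V 1 := by
  have h1 : ∀ (i : Fin n) (k : ℕ), y i ^ k - 1 ∈ deg V 1 := fun i k => by
    induction k with
    | zero => simp
    | succ k ih =>
      rw [pow_succ, show y i ^ k * y i - 1 = (y i ^ k - 1) * (y i - 1) + (y i ^ k - 1) + (y i - 1) by ring]
      exact add_mem (add_mem (mem_deg_of_le (mul_mem_deg ih (mem_deg_one (hy i))) (by omega)) ih) (mem_deg_one (hy i))
  have h2 : ∀ i, (∑ k ∈ Finset.range j, y i ^ k) - (j : K) ∈ deg V 1 := fun i => by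
    rw [show (∑ k ∈ Finset.range j, y i ^ k) - (j : K) = ∑ k ∈ Finset.range j, (y i ^ k - 1) by
      rw [Finset.sum_sub_distrib]; simp]
    exact AddSubgroup.sum_mem _ fun k _ => h1 i k
  induction n with
  | zero => simp
  | succ n ih =>
    have := ih (fun i => y i.succ) (fun i => hy _) (fun i k => h1 _ k) (fun i => h2 _)
    rw [Fin.prod_univ_succ, pow_succ', Nat.cast_mul,
      show (∑ k ∈ Finset.range j, y 0 ^ k) * (∏ i : Fin n, ∑ k ∈ Finset.range j, y i.succ ^ k) -
          (j : K) * ((j ^ n : ℕ) : K) =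
        ((∑ k ∈ Finset.range j, y 0 ^ k) - (j : K)) *
            ((∏ i : Fin n, ∑ k ∈ Finset.range j, y i.succ ^ k) - ((j ^ n : ℕ) : K)) +
          ((j ^ n : ℕ) : K) * ((∑ k ∈ Finset.range j, y 0 ^ k) - (j : K)) +
          (j : K) * ((∏ i : Fin n, ∑ k ∈ Finset.range j, y i.succ ^ k) - ((j ^ n : ℕ) : K)) by ring]
    exact add_mem (add_mem (mem_deg_of_le (mul_mem_deg (h2 0) this) (by omega)) (natCast_mul_mem_deg _ (h2 0)))
      (natCast_mul_mem_deg _ this)

end Groth.Agent.KRR28
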