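import Groth.Agent.KRR28.Gen
import Groth.Agent.KBC28.Base
import Groth.Agent.KBC28.Koszul
import Groth.Agent.KPush28.Disjoint
import Groth.Agent.KSplit28.ModelIso
import Groth.Agent.LambdaLib.KRRThms
import Groth.Agent.S3747

/-!
# Functoriality of pullbacks and push-forwards; Riemann–Roch for a section cut out by a cosection
-/

set_option autoImplicit false
set_option backward.isDefEq.respectTransparency false
set_option linter.style.haveILetI false

universe v w w' u

open CategoryTheory CategoryTheory.Limits AlgebraicGeometry LambdaRing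
open Groth.Agent.ResLF28

noncomputable section

namespace Groth.Agent.KRR28

theorem pull_comp {X Y Z : Scheme.{u}} {a : X ⟶ Y} {b : Y ⟶ Z} {c : X ⟶ Z} (h : a ≫ b = c)
    {KX : Type v} {KY : Type w} {KZ : Type w'} [CommRing KX] [CommRing KY] [CommRing KZ] [LambdaOps KZ]
    {φX : SGA6.Kvb X →+ KX} {φY : SGA6.Kvb Y →+ KY} {φZ : SGA6.Kvb Z →+ KZ} (hZ : KSplit28.IsKRing Z KZ φZ)
    {ga : KY →+ KX} {gb : KZ →+ KY} {gc : KZ →+ KX} (ha : KRR.IsPull a φY φX ga) (hb : KRR.IsPull b φZ φY gb)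
    (hc : KRR.IsPull c φZ φX gc) (z : KZ) : ga (gb z) = gc z := by
  refine hZ.induction (motive := fun z => ga (gb z) = gc z) (by simp) (fun E hE => ?_)
    (fun a h => by simp [h]) (fun a b ha hb => by simp [ha, hb]) z
  rw [hb E hE, ha _ (FlatMorAdm.isFinLocFree_pullback b hE), hc E hE]
  exact congrArg φX (ExtFilt28.clv_iso ((Scheme.Modules.pullbackComp a b).app E ≪≫
    (Scheme.Modules.pullbackCongr h).app E))

theorem pull_id {X : Scheme.{u}} {KX : Type v} [CommRing KX] [LambdaOps KX] {φX : SGA6.Kvb X →+ KX}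
    (hX : KSplit28.IsKRing X KX φX) : KRR.IsPull (𝟙 X) φX φX (AddMonoidHom.id KX) := fun E _ =>
  congrArg φX (ExtFilt28.clv_iso ((Scheme.Modules.pullbackId X).app E)).symm

/-- Pullback commutes with push-forward in a transversal square. -/
theorem pull_push {X Y P M : Scheme.{u}} [IsLocallyNoetherian Y] [IsLocallyNoetherian M] [CompactSpace M]
    {F : P ⟶ M} {φ : Y ⟶ M} {f : X ⟶ Y} {ψ : X ⟶ P} (hsq : IsPullback f ψ φ F) (hM : KRR.HasEnoughLocFree M)
    (hF : Mor2.IsRegularClosedImmersion F) (hf : Mor2.IsRegularClosedImmersion f) {d : ℕ}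
    (hcF : FlatMod.IsFinLocFreeOfRank d (Omega.conormal F)) (hcf : FlatMod.IsFinLocFreeOfRank d (Omega.conormal f))
    {KX KP : Type v} {KY KM : Type v} [CommRing KX] [CommRing KY] [CommRing KP] [LambdaOps KP] [CommRing KM]
    {φX : SGA6.Kvb X →+ KX} {φY : SGA6.Kvb Y →+ KY} {φP : SGA6.Kvb P →+ KP} {φM : SGA6.Kvb M →+ KM}
    (hP : KSplit28.IsKRing P KP φP) {gφ : KM →+ KY} (hgφ : KRR.IsPull φ φM φY gφ) {gψ : KP →+ KX}
    (hgψ : KRR.IsPull ψ φP φX gψ) {pF : KP →+ KM} (hpF : KRR.IsPushCl F φP φM pF) {pf : KX →+ KY}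
    (hpf : KRR.IsPushCl f φX φY pf) (y : KP) : gφ (pF y) = pf (gψ y) := by
  haveI := hF.1
  refine hP.induction (motive := fun y => gφ (pF y) = pf (gψ y)) (by simp) (fun E hE => ?_)
    (fun a h => by simp [h]) (fun a b ha hb => by simp [ha, hb]) y
  obtain ⟨n, L, π, hL⟩ := KPush28.exists_lfRes hM (KPush28.cohBdd_push F hM hF hE)
  obtain ⟨π', hL'⟩ := KBC28.exists_isLFRes_pullback hsq hF hf hcF hcf hE hL
  rw [hpF E hE n L π hL, hgψ E hE, hpf _ (FlatMorAdm.isFinLocFree_pullback ψ hE) n _ π' hL', map_sum]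
  refine Finset.sum_congr rfl fun k _ => ?_
  rw [map_zsmul, hgφ _ (hL.finLocFree k)]
  rfl

/-- Pullback to a place disjoint from the subscheme kills the push-forward. -/
theorem pull_push_eq_zero {Z P M : Scheme.{u}} [IsLocallyNoetherian M] [CompactSpace M] {F : P ⟶ M}
    (hM : KRR.HasEnoughLocFree M) (hF : Mor2.IsRegularClosedImmersion F) (h : Z ⟶ M)
    (hdis : Disjoint (Set.range h) (Set.range F))
    {KP : Type v} {KM : Type w} {KZ : Type w'} [CommRing KP] [LambdaOps KP] [CommRing KM] [CommRing KZ]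
    {φP : SGA6.Kvb P →+ KP} {φM : SGA6.Kvb M →+ KM} {φZ : SGA6.Kvb Z →+ KZ}
    (hP : KSplit28.IsKRing P KP φP) {g : KM →+ KZ} (hg : KRR.IsPull h φM φZ g) {pF : KP →+ KM}
    (hpF : KRR.IsPushCl F φP φM pF) (y : KP) : g (pF y) = 0 := by
  haveI := hF.1
  refine hP.induction (motive := fun y => g (pF y) = 0) (by simp) (fun E hE => ?_)
    (fun a h => by simp [h]) (fun a b ha hb => by simp [ha, hb]) y
  obtain ⟨n, L, π, hL⟩ := KPush28.exists_lfRes hM (KPush28.cohBdd_push F hM hF hE)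
  rw [hpF E hE n L π hL, map_sum]
  let V : M.Opens := ⟨(Set.range F)ᶜ, F.isClosedEmbedding.isClosed_range.isOpen_compl⟩
  have h0 := KPush28.sum_pull_eq_zero h (V := V) (fun m hm => by
      rw [show Set.range V.ι.base = (V : Set M) from V.range_ι]
      exact Set.disjoint_left.1 hdis hm) ((Scheme.Modules.pushforward F).obj E)
    (fun v => DCat.ClosedPush.subsingleton_stalk_push F E v.1 v.2) n L π hL
  refine Eq.trans (Finset.sum_congr rfl fun k _ => ?_) ((congrArg φZ h0).trans (map_zero φZ) |> (map_sum φZ _ _).symm.trans)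
  rw [map_zsmul, hg _ (hL.finLocFree k), map_zsmul]

section Bott

variable {K : Type v} [CommRing K] [LambdaOps K] (P : PosStructure K)

theorem bott_zero (j : ℕ) : KRR.bott P j (0 : K) = 1 := by
  have key : ∀ (m : ℕ) (v : Fin m → K), m = 0 → MvPolynomial.aeval v (KRR.bottPoly j m) = 1 := by
    rintro m v rfl
    rw [KRR.bottPoly, show (⟨KRR.bottSym j 0, KRR.bottSym_isSymmetric j 0⟩ :
      MvPolynomial.symmetricSubalgebra (Fin 0) ℤ) = 1 from Subtype.ext (by simp [KRR.bottSym]), map_one, map_one]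
  exact key _ _ (by simp)

theorem lamAlt_zero : KRR.lamAlt P (0 : K) = 1 := by
  simp [KRR.lamAlt, LambdaOps.lam_zero]

end Bott

/-- The Koszul class of the subscheme cut out by a cosection. -/
theorem push_one_eq_lamAlt {X Y : Scheme.{u}} [IsLocallyNoetherian Y] (i : X ⟶ Y)
    (hi : Mor2.IsRegularClosedImmersion i) {d : ℕ} (hci : FlatMod.IsFinLocFreeOfRank d (Omega.conormal i))
    {E : Y.Modules} (hE : FlatMod.IsFinLocFreeOfRank d E) (t : E ⟶ Coh.structureModule Y)
    (ht : ∀ U : Y.affineOpens, i.ker.ideal U = Ideal.span {a : Γ(Y, U.1) | ∃ s : Γ(E, U.1), (t.app U.1) s = a})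
    {KX KY : Type v} [CommRing KX] [LambdaOps KX] [CommRing KY] [LambdaOps KY] {PX : PosStructure KX}
    {PY : PosStructure KY} {φX : SGA6.Kvb X →+ KX} {φY : SGA6.Kvb Y →+ KY} (hX : KRR.IsModel X KX PX φX)
    (hY : KRR.IsModel Y KY PY φY) {h : KX →+ KY} (hh : KRR.IsPushCl i φX φY h) :
    h 1 = KRR.lamAlt PY (φY (KRR.cl Y E)) := by
  obtain ⟨C, π, hC⟩ := KBC28.exists_isLFRes_koszul i hi hci hE t ht
  rw [← hX.map_one, hh _ KvbLam28.isFinLocFree_structure d C.K π hC, KRR.lamAlt, hY.aug_cl d E hE, Int.toNat_natCast]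
  refine Finset.sum_congr rfl fun k _ => ?_
  rw [hY.map_lam k E _ (VarietyLib.isFinLocFree_of_rank hE) (hC.finLocFree k) (C.isExtPow k), zsmul_eq_mul]
  push_cast
  rfl

/-- Riemann–Roch for a section cut out by a cosection. -/
theorem adams_push_section {X E : Scheme.{u}} [IsNoetherian X] [ConnectedSpace ↥X] [IsNoetherian E]
    [ConnectedSpace ↥E] (hEe : KRR.HasEnoughLocFree E) (i : X ⟶ E) (ρ : E ⟶ X) (hid : i ≫ ρ = 𝟙 X)
    (hi : Mor2.IsRegularClosedImmersion i) {d : ℕ} (hci : FlatMod.IsFinLocFreeOfRank d (Omega.conormal i))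
    {Q : E.Modules} (hQ : FlatMod.IsFinLocFreeOfRank d Q) (t : Q ⟶ Coh.structureModule E)
    (ht : ∀ U : E.affineOpens, i.ker.ideal U = Ideal.span {a : Γ(E, U.1) | ∃ s : Γ(Q, U.1), (t.app U.1) s = a})
    {KX KE : Type (u + 1)} [CommRing KX] [LambdaOps KX] [CommRing KE] [LambdaOps KE] {PX : PosStructure KX}
    {PE : PosStructure KE} {φX : SGA6.Kvb X →+ KX} {φE : SGA6.Kvb E →+ KE} (hX : KRR.IsModel X KX PX φX)
    (hE : KRR.IsModel E KE PE φE) (gi : KE →+* KX) (hgi : KRR.IsPull i φE φX gi.toAddMonoidHom)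
    {h : KX →+ KE} (hh : KRR.IsPushCl i φX φE h) {j : ℕ} (hj : 1 ≤ j) (x : KX) :
    adams PE j (h x) = h (KRR.bott PX j (gi (φE (KRR.cl E Q))) * adams PX j x) := by
  have hS := KSplit28.hasSplitting E KE PE φE hE
  obtain ⟨gρ, hgρ, hlρ, haugρ, -⟩ := KSplit28.exists_pullHom ρ hE hX
  have hret : ∀ z, gi (gρ z) = z := fun z =>
    pull_comp hid (KSplit28.isKRing_of_isModel hX) hgi hgρ (pull_id (KSplit28.isKRing_of_isModel hX)) z
  obtain ⟨gi', hgi', hli', haugi', -⟩ := KSplit28.exists_pullHom i hX hE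
  have hgg : ∀ z, gi z = gi' z := fun z =>
    DFunLike.congr_fun (KSplit28.isPull_unique i hE.bijective hgi hgi') z
  have hproj : ∀ y, h (gi y) = h 1 * y := fun y => by
    have := S3747.result i hi hEe KX PX φX hX KE PE φE hE gi.toAddMonoidHom hgi h hh 1 y
    rwa [one_mul] at this
  set q := φE (KRR.cl E Q) with hq
  have h1 : h 1 = KRR.lamAlt PE q := push_one_eq_lamAlt i hi hci hQ t ht hX hE hh
  have hl : adams PE j (h 1) = h 1 * KRR.bott PE j q := by
    rw [h1]
    rcases Nat.eq_zero_or_pos d with rfl | hd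
    · rw [hq, KModel28.cl_isZero (KModel28.isZero_of_rank_zero hQ), map_zero, lamAlt_zero, bott_zero,
        LambdaLib.adams_one, one_mul]
    · exact LambdaLib.adams_lamAlt hS ((hE.mem_pos_iff _).2 ⟨d, Q, hd, hQ, rfl⟩) j
  calc adams PE j (h x) = adams PE j (h 1 * gρ x) := by rw [← hproj, hret]
    _ = h 1 * KRR.bott PE j q * gρ (adams PX j x) := by
      rw [LambdaLib.adams_mul hS, hl, KSplit28.map_adams' gρ hlρ haugρ]
    _ = h (gi (KRR.bott PE j q * gρ (adams PX j x))) := by rw [hproj]; ring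
    _ = h (KRR.bott PX j (gi q) * adams PX j x) := by
      rw [map_mul, hret, hgg, KSplit28.map_bott gi' hli' haugi', ← hgg]

end Groth.Agent.KRR28
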