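import Groth.Agent.KRR28.GrPush
import Groth.Agent.KRR28.DualHom
import Groth.Agent.KRR28.Filt
import Groth.Agent.S3776
import Groth.Agent.S3744
import Groth.Agent.S3753
import Groth.Prelude.Def_KGr

/-!
# Grothendieck–Riemann–Roch, models in the working universe
-/

set_option autoImplicit false
set_option linter.style.haveILetI false
set_option backward.isDefEq.respectTransparency false
set_option synthInstance.maxHeartbeats 100000
set_option maxHeartbeats 800000

universe u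

open CategoryTheory CategoryTheory.Limits AlgebraicGeometry LambdaRing
open scoped TensorProduct

noncomputable section

namespace Groth.Agent.KRR28

theorem aug_bott_lines {K L : Type u} [CommRing K] [LambdaOps K] [CommRing L] [LambdaOps L] {P : PosStructure K}
    {PL : PosStructure L} {f : K →+* L} (hf : IsExtension P PL f) {n : ℕ} {e : K} (hn : (P.aug e).toNat = n)
    (y : Fin n → L) (hy : ∀ i, PL.IsLine (y i)) (hsum : ∑ i, y i = f e) (j : ℕ) :
    KRR.bott P j e - ((j ^ n : ℕ) : K) ∈ gammaFiltration P 1 := by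
  subst hn
  refine LambdaLib.mem_one_of_aug_eq_zero P ?_
  rw [map_sub, map_natCast, ← hf.aug_comp, map_bott_lines hf j y hy hsum, map_prod]
  simp [map_sum, map_pow, (hy _).2]

theorem isNilpotent_root' {K L : Type u} [CommRing K] [LambdaOps K] [CommRing L] [LambdaOps L] {P : PosStructure K}
    {PL : PosStructure L} (hS : HasSplitting K P) (hnil : ∀ a, P.aug a = 0 → IsNilpotent a) {f : K →+* L}
    (hf : IsExtension P PL f) {n : ℕ} {e : K} (y : Fin n → L) (hy : ∀ i, PL.IsLine (y i)) (hsum : ∑ i, y i = f e)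
    (i : Fin n) : IsNilpotent (y i - 1) :=
  isNilpotent_root hS hnil hf (e := e) (s := Finset.univ.val.map y)
    (fun w hw => by obtain ⟨k, -, rfl⟩ := Multiset.mem_map.1 hw; exact hy k)
    hsum (Multiset.mem_map.2 ⟨i, Finset.mem_univ i, rfl⟩)

theorem isExtension_refl {K : Type u} [CommRing K] [LambdaOps K] (P : PosStructure K) :
    IsExtension P P (RingHom.id K) :=
  ⟨fun _ _ => rfl, Function.injective_id, fun _ => rfl, fun _ h => h⟩

theorem grr {n : ℕ} {X Y : Scheme.{u}} [IsNoetherian Y] [ConnectedSpace ↥Y] {A : Y.Modules} (hA : CohB1.IsAmple A)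
    {dY : ℕ} (hdY : topologicalKrullDim ↥Y ≤ (dY : WithBot ℕ∞))
    (i : X ⟶ KRR.PY n Y) (hi : Mor2.IsRegularClosedImmersion i) [ConnectedSpace ↥X]
    {dX : ℕ} (hdX : topologicalKrullDim ↥X ≤ (dX : WithBot ℕ∞)) {c : ℕ}
    (hC : FlatMod.IsFinLocFreeOfRank c (Omega.conormal i)) [DCoh.HasSheafHom (Omega.conormal i)]
    {KX KP KY : Type (u + 1)} [CommRing KX] [LambdaOps KX] [CommRing KP] [LambdaOps KP] [CommRing KY] [LambdaOps KY]
    {PX : PosStructure KX} {φX : SGA6.Kvb X →+ KX} (hKX : KRR.IsModel X KX PX φX)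
    {PP : PosStructure KP} {φP : SGA6.Kvb (KRR.PY n Y) →+ KP} (hKP : KRR.IsModel (KRR.PY n Y) KP PP φP)
    {PY : PosStructure KY} {φY : SGA6.Kvb Y →+ KY} (hKY : KRR.IsModel Y KY PY φY)
    {a : KX →+ KP} (ha : KRR.IsPushCl i φX φP a) {b : KP →+ KY} (hb : KRR.IsPushPr n Y φP φY b) :
    ∃ fG : KGr.Gr PX →+ KGr.Gr PY, KGr.IsGrPush PX PY (b.comp a) ((c : ℤ) - n) fG ∧
      ∀ x : KX, KGr.chK PY dY (b (a x)) =
        fG (KGr.tdK PX dX (((n + 1 : ℕ) : KX) * φX (KRR.cl X ((Scheme.Modules.pullback i).obj (Twist.twistOver n Y 1))) - 1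
              - φX (KRR.cl X ((DCoh.sheafHom (Omega.conormal i)).obj (Coh.structureModule X))))
            * KGr.chK PX dX x) := by
  haveI := hi.1
  haveI := KPushPr28.isNoetherian_PY n Y
  haveI := KSplit28.connectedSpace_PY n Y
  haveI : IsLocallyNoetherian X := LocallyOfFiniteType.isLocallyNoetherian i
  haveI : CompactSpace X := i.isClosedEmbedding.compactSpace
  haveI : IsNoetherian X := {}
  obtain ⟨B, hB⟩ := exists_isAmple_PY hA n
  have hAX := AmpleLib.isAmple_pullback_of_isAffineHom i hB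
  have hSX := KSplit28.hasSplitting X KX PX φX hKX
  have hSY := KSplit28.hasSplitting Y KY PY φY hKY
  have hdX' : gammaFiltration PX (dX + 1) = ⊥ := S3744.result X _ hAX dX hdX KX PX φX hKX
  have hdY' : gammaFiltration PY (dY + 1) = ⊥ := S3744.result Y A hA dY hdY KY PY φY hKY
  have hnil : ∀ a, PX.aug a = 0 → IsNilpotent a := fun a h => by
    simpa [h] using KSplit28.isNilpotent_sub_aug hAX hKX a
  -- the filtration
  have hf : Raises PX PY (b.comp a) ((c : ℤ) - n) := fun m x hx => by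
    obtain ⟨N, hN, hN'⟩ := rational_filtration_pushCl' hB i hi hC hKX hKP ha hx
    refine ⟨N, hN, ?_⟩
    have h := S3776.result n Y KP PP φP hKP KY PY φY hKY b hb (m + c) _ hN'
    rw [← nsmul_eq_mul, map_nsmul, nsmul_eq_mul] at h
    rwa [show ((m : ℤ) + ((c : ℤ) - n)).toNat = m + c - n by omega]
  refine ⟨(fG hf dX).toAddMonoidHom, fun m x hx => fG_grK hf hdX' hx, fun x => ?_⟩
  -- the classes
  obtain ⟨g, hg, hgl, hgaug, hgpos⟩ := KSplit28.exists_pullHom i hKX hKP
  set C := φX (KRR.cl X (Omega.conormal i)) with hCdef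
  obtain ⟨D, hD⟩ := exists_isDual (X := X) hKX.bijective
  have hCf := VarietyLib.isFinLocFree_of_rank hC
  have hDC : φX (KRR.cl X ((DCoh.sheafHom (Omega.conormal i)).obj (Coh.structureModule X))) = D C := by
    rw [hCdef, hD _ hCf]
    exact congrArg φX (ExtFilt28.clv_iso ((Coherent.sheafHomIso (Omega.conormal i)).app _))
  obtain ⟨L, f, y, z, hext, hy, hz, hzy, hsy, hsz⟩ := exists_split_dual hKX hD hC
  have hCn : (PX.aug C).toNat = c := by rw [hCdef, hKX.aug_cl _ _ hC, Int.toNat_natCast]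
  -- the twists
  obtain ⟨gP, lP, eP, hgP, -, -, -, -, -, hlP, hlpow, -, -⟩ := KSplit28.exists_PY_data n Y hKP hKY
  set t : KP := φP (KRR.cl _ (Twist.twistOver n Y (-1))) with ht
  have htT : FlatMod.IsFinLocFreeOfRank 1 (Twist.twistOver n Y (-1)) :=
    PicLib.isFinLocFreeOfRank_one (CM28.isInvertible_twistOver n Y (-1))
  have htline : PP.IsLine t := ⟨(hKP.mem_pos_iff _).2 ⟨1, _, le_rfl, htT, rfl⟩, hKP.aug_cl 1 _ htT⟩
  have htl : t * lP = 1 := by
    have h := hlpow 1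
    rw [pow_one] at h
    rw [← h, ht, hKP.map_mul _ _ (KPr28.isFinLocFree_twistOver _) (KPr28.isFinLocFree_twistOver _), ← hKP.map_one]
    obtain ⟨e1⟩ := CM28.nonempty_twistOver_add n Y (show (-1 : ℤ) + ((1 : ℕ) : ℤ) = 0 by norm_num)
    obtain ⟨e2⟩ := CM28.nonempty_twistOver_zero n Y
    exact congrArg φP ((ExtFilt28.clv_iso e1).trans (ExtFilt28.clv_iso e2))
  set qP : KP := φP (KRR.cl (KRR.PY n Y)
    (KRR.twF n Y (-1) ((Scheme.Modules.pullback (KRR.pr n Y)).obj (FlatMod.freeMod Y (n + 1))))) with hqP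
  have hqval : qP = ((n + 1 : ℕ) : KP) * t := by
    have hF := FlatMor12.FlatFun.isFinLocFree_freeMod Y (n + 1)
    show φP (KRR.cl _ (((DCoh.tensorBi (X := KRR.PY n Y)).obj (Twist.twistOver n Y (-1))).obj
      ((Scheme.Modules.pullback (KRR.pr n Y)).obj (FlatMod.freeMod Y (n + 1))))) = _
    rw [← hKP.map_mul _ _ (KPr28.isFinLocFree_twistOver _) (DCat.PullPerf.isFinLocFree_pullback _ hF), mul_comm,
      ← (hgP _ hF : gP (φY _) = _), KPr28.cl_freeMod, map_zsmul, hKY.map_one]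
    simp [ht]
  set l : KX := φX (KRR.cl X ((Scheme.Modules.pullback i).obj (Twist.twistOver n Y 1))) with hl
  have hgl1 : g lP = l := by
    have h := hlpow 1
    rw [pow_one] at h
    rw [← h]
    exact hg _ (KPr28.isFinLocFree_twistOver _)
  have hlline : PX.IsLine l := ⟨hgl1 ▸ hgpos _ hlP.1, by rw [← hgl1, hgaug, hlP.2]⟩
  have hgtline : PX.IsLine (g t) := ⟨hgpos _ htline.1, by rw [hgaug, htline.2]⟩
  set q := g qP with hq
  have hqsum : ∑ _k : Fin (n + 1), g t = q := by rw [hq, hqval, map_mul, map_natCast]; simp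
  have hqn : (PX.aug q).toNat = n + 1 := by rw [← hqsum]; simp [hgtline.2]
  have hlsum : ∑ _k : Fin (n + 1), l = RingHom.id KX (((n + 1 : ℕ) : KX) * l) := by simp
  -- the Adams relation
  have hproj : ∀ (y : KX) (z : KP), a (y * g z) = a y * z := fun y z =>
    S3747.result i hi (enough_of_ample hB) KX PX φX hKX KP PP φP hKP g.toAddMonoidHom hg a ha y z
  have hARR : ∀ x : KX, (∃ w : ℚ ⊗[ℤ] KX, w * ((1 : ℚ) ⊗ₜ[ℤ] KRR.bott PX 2 q) = 1) ∧
      ∀ w : ℚ ⊗[ℤ] KX, w * ((1 : ℚ) ⊗ₜ[ℤ] KRR.bott PX 2 q) = 1 →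
      (1 : ℚ) ⊗ₜ[ℤ] adams PY 2 ((b.comp a) x) =
        (b.comp a).toIntLinearMap.baseChange ℚ
          (((2 : ℕ) : ℚ) • (((1 : ℚ) ⊗ₜ[ℤ] (KRR.bott PX 2 C * adams PX 2 x)) * w)) := fun x => by
    have hQ : IsUnit ((2 : ℕ) : ℚ) := by norm_num
    obtain ⟨hex, hid⟩ := S3752.transport n Y hKP hKY hb 2 one_le_two hQ (a x)
    obtain ⟨hex', hid'⟩ := S3753.transport_comp (PX := PX) (PP := PP) g hgl hgaug 2 b a hproj ℚ qP
      (KRR.bott PX 2 C * adams PX 2 x) _ hex (fun w hw => (hid w hw).trans (by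
        rw [adams_pushCl_regular' hB i hi hC hKX hKP ha one_le_two x]))
    refine ⟨hex', fun w hw => (hid' w hw).trans ?_⟩
    rw [LinearMap.baseChange_eq_ltensor, smul_def' (Q := ℚ ⊗[ℤ] KX), map_natCast, mul_assoc]
  obtain ⟨wq, hwq⟩ := (hARR x).1
  -- the multiplier
  have hkC := frob_tdK_mul_bott (PL := L.posStr) hdX' hSX hext hCn y z hy hz hzy hsy hsz
    (isNilpotent_root' hSX hnil hext y hy hsy) 2
  have hkq := frob_tdK_mul_bott (PL := PX) hdX' hSX (isExtension_refl PX) hqn (fun _ : Fin (n + 1) => g t)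
    (fun _ => l) (fun _ => hgtline) (fun _ => hlline) (fun _ => by rw [← hgl1, ← map_mul, mul_comm, htl, map_one])
    hqsum hlsum (isNilpotent_root' hSX hnil (isExtension_refl PX) (fun _ : Fin (n + 1) => g t) (fun _ => hgtline) hqsum) 2
  rw [hDC]
  set U := KGr.tdK PX dX (((n + 1 : ℕ) : KX) * l - 1 - D C) with hU
  have hUD : U * KGr.tdK PX dX (D C) = KGr.tdK PX dX (((n + 1 : ℕ) : KX) * l) := by
    rw [hU, ← tdK_add hdX', sub_add_cancel]
    conv_rhs => rw [← sub_add_cancel (((n + 1 : ℕ) : KX) * l) 1, tdK_add hdX', tdK_one hdX', mul_one]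
  have hUeq : (((2 : ℕ) : ℚ) ^ c / ((2 : ℕ) : ℚ) ^ (n + 1)) • (frob hSX hdX' 2 U * KGr.chK PX dX (KRR.bott PX 2 q)) =
      U * KGr.chK PX dX (KRR.bott PX 2 C) := by
    refine unit_aux (A := KGr.Gr PX) (pow_ne_zero _ (by norm_num)) (pow_ne_zero _ (by norm_num))
      (isUnit_tdK hdX' (D C)) hkC ?_
    rw [← map_mul, hUD]
    exact hkq
  have := chK_push_eq hf hdX' hSX hSY hdY' le_rfl rfl
    (aug_bott_lines hext hCn y hy hsy 2)
    (aug_bott_lines (isExtension_refl PX) hqn (fun _ : Fin (n + 1) => g t) (fun _ => hgtline) hqsum 2) hwq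
    (fun x => (hARR x).2 wq hwq) (tdK_sub_one_mem hdX' _) hUeq x
  rw [AddMonoidHom.comp_apply] at this
  rw [this]
  show fG hf dX _ = fG hf dX _
  rw [mul_comm (KGr.tdK PX dX _)]
where
  unit_aux {A : Type (u+1)} [CommRing A] [Algebra ℚ A] {φ : A} {U q C dd φd : A} {s r : ℚ} (hs : s ≠ 0) (hr : r ≠ 0)
      (hd : IsUnit dd) (hC : φd * C = s • dd) (hQ : φ * φd * q = r • (U * dd)) :
      (s / r) • (φ * q) = U * C := by
    refine hd.mul_left_cancel ?_
    have e1 : dd = s⁻¹ • (φd * C) := by rw [hC, smul_smul, inv_mul_cancel₀ hs, one_smul]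
    calc dd * ((s / r) • (φ * q)) = (s / r * s⁻¹) • ((φ * φd * q) * C) := by
          conv_lhs => rw [e1]
          rw [smul_mul_assoc, mul_smul_comm, smul_smul, mul_comm s⁻¹]
          congr 1; ring
      _ = dd * (U * C) := by
          rw [hQ, smul_mul_assoc, smul_smul, show s / r * s⁻¹ * r = 1 by field_simp, one_smul]; ring

end Groth.Agent.KRR28
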