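import Groth.Agent.KPushPr28.Bdd
import Groth.Agent.KBC28.Enough
import Groth.Agent.KSplit28.Lam
import Groth.Agent.InjMod14.Kosz.Divisor
import Groth.Agent.FlatMor12.IdealModGen
import Groth.Agent.LambdaLib.Adams
import Groth.Agent.ModPairLib.Colon

/-!
# Classes killed by restriction to a closed subscheme
-/

set_option autoImplicit false
set_option backward.isDefEq.respectTransparency false
set_option linter.style.haveILetI false

universe v w u

open CategoryTheory CategoryTheory.Limits AlgebraicGeometry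
open Groth.Agent.ResLF28 LambdaRing

noncomputable section

namespace Groth.Agent.KRR28

theorem exists_kring (X : Scheme.{u}) :
    ∃ (K : Type (u + 1)) (_ : CommRing K) (_ : LambdaOps K) (φ : SGA6.Kvb X →+ K), KSplit28.IsKRing X K φ := by
  obtain ⟨mul, hmul⟩ := KvbLam28.exists_mul (X := X)
  obtain ⟨lam, hlam, hlam0, hlam1, hlamadd⟩ := KvbLam28.exists_lam mul hmul
    (fun i E hE => ExtPowEx28.exists_isExtPow hE i)
  let _ : CommRing (SGA6.Kvb X) := KvbLam28.kvbRing mul hmul
  let ops : LambdaOps (SGA6.Kvb X) := { lam := lam, lam_zero := hlam0, lam_one := hlam1, lam_add := hlamadd }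
  exact ⟨SGA6.Kvb X, inferInstance, ops, AddMonoidHom.id _,
    ⟨Function.bijective_id, rfl, fun E F hE hF => hmul E F hE hF, fun i E L hE _ hp => hlam i E L hE hp⟩⟩

section Push

variable {D M : Scheme.{u}} [IsLocallyNoetherian M] (i : D ⟶ M) [IsClosedImmersion i]

theorem exists_closedPush (hM : KRR.HasEnoughLocFree M)
    (hc : ∀ F : D.Modules, FlatMod.IsFinLocFree F → cohBdd M ((Scheme.Modules.pushforward i).obj F)) :
    ∃ Ψ : SGA6.Kvb D →+ SGA6.Kvb M, ∀ F : D.Modules, FlatMod.IsFinLocFree F →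
      Ψ (KRR.cl D F) = KPush28.vbCl M hM ((Scheme.Modules.pushforward i).obj F) :=
  KvbLam28.exists_lift (X := D) (fun F => KPush28.vbCl M hM ((Scheme.Modules.pushforward i).obj F))
    fun S hS h₁ h₂ h₃ => KPushPr28.vbCl_add hM (KPush28.shortExact_push i hS) (hc _ h₁) (hc _ h₂) (hc _ h₃)

variable {KM : Type v} [CommRing KM] [LambdaOps KM] {φM : SGA6.Kvb M →+ KM}
  {KD : Type w} [CommRing KD] [LambdaOps KD] {φD : SGA6.Kvb D →+ KD}

/-- Multiplying the class of `i_* O_D` is restricting and pushing forward. -/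
theorem exists_push_mul (hM : KRR.HasEnoughLocFree M)
    (hc : ∀ F : D.Modules, FlatMod.IsFinLocFree F → cohBdd M ((Scheme.Modules.pushforward i).obj F))
    (hKM : KSplit28.IsKRing M KM φM) (hKD : KSplit28.IsKRing D KD φD) {g : KM →+ KD}
    (hg : KRR.IsPull i φM φD g) :
    ∃ Ψ : KD →+ KM, (∀ F : D.Modules, FlatMod.IsFinLocFree F →
        Ψ (φD (KRR.cl D F)) = φM (KPush28.vbCl M hM ((Scheme.Modules.pushforward i).obj F))) ∧
      ∀ z : KM, z * φM (KPush28.vbCl M hM ((Scheme.Modules.pushforward i).obj (Coh.structureModule D))) =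
        Ψ (g z) := by
  obtain ⟨Ψ, hΨ⟩ := exists_closedPush i hM hc
  let eD : SGA6.Kvb D ≃+ KD := AddEquiv.ofBijective φD hKD.bijective
  refine ⟨φM.comp (Ψ.comp eD.symm.toAddMonoidHom), fun F hF => ?_, ?_⟩
  · show φM (Ψ (eD.symm (φD (KRR.cl D F)))) = _
    rw [show eD.symm (φD (KRR.cl D F)) = _ from eD.symm_apply_apply _, hΨ F hF]
  show ∀ z : KM, z * φM (KPush28.vbCl M hM ((Scheme.Modules.pushforward i).obj (Coh.structureModule D))) =
    φM (Ψ (eD.symm (g z)))
  intro z
  refine hKM.induction (motive := fun z => z * φM (KPush28.vbCl M hM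
    ((Scheme.Modules.pushforward i).obj (Coh.structureModule D))) = φM (Ψ (eD.symm (g z)))) (by simp) ?_ ?_ ?_ z
  · intro E hE
    have hO : FlatMod.IsFinLocFree (Coh.structureModule D) := KvbLam28.isFinLocFree_structure
    have hE' := FlatMorAdm.isFinLocFree_pullback i hE
    have hA := hc _ hO
    rw [hg E hE, show eD.symm (φD (KRR.cl D ((Scheme.Modules.pullback i).obj E))) = _ from
      eD.symm_apply_apply _, hΨ _ hE']
    obtain ⟨n, L, π, hL⟩ := KPush28.exists_lfRes hM hA
    rw [← KPush28.vbCl_eq_sum hM hA n L π hL, map_sum, Finset.mul_sum]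
    rw [Finset.sum_congr rfl fun k _ => (congrArg (φM (KRR.cl M E) * ·) (map_zsmul φM _ _)).trans
      ((mul_smul_comm ((-1 : ℤ) ^ k) (φM (KRR.cl M E)) (φM (KRR.cl M (L.X k)))).trans
        ((congrArg ((-1 : ℤ) ^ k • ·) ((mul_comm _ _).trans (hKM.map_mul _ E (hL.finLocFree k) hE))).trans
          (map_zsmul φM _ _).symm)), ← map_sum]
    refine congrArg φM (KPush28.eq_vbCl hM ?_)
    rw [map_sum]
    simp only [map_zsmul]
    rw [Finset.sum_congr rfl fun k _ => congrArg ((-1 : ℤ) ^ k • ·)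
      (KPush28.toBdd_cl (M := ((DCoh.tensorBi (X := M)).obj (L.X k)).obj E)
        (ExtFilt28.isFinLocFree_tensor (hL.finLocFree k) hE))]
    refine (KPush28.map_eq_sum (fun N => KZero.clSub (cohBdd M) (CohB1.tensorMod N E))
      (KPush28.clSub_tensor_additive hE) hA n L π hL).symm.trans ?_
    refine KPush28.map_iso_of_additive (P := cohBdd M) (KZero.clSub (cohBdd M))
      (fun S hS h₁ h₂ h₃ => Resolution28.clSub_rel hS h₁ h₂ h₃) (isZero_kernel_of_mono (𝟙 _))
      (KPush28.cohBdd_kernel (𝟙 _) hA hA) (KPush28.cohBdd_tensor hA hE) (hc _ hE')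
      (@asIso _ _ _ _ (DCat.ClosedPush.projMap i (Coh.structureModule D) E)
        (DCat.ClosedPush.isIso_projMap i (Coh.structureModule D) E) ≪≫
        (Scheme.Modules.pushforward i).mapIso (AmpleLib.tensorComm _ _ ≪≫ SecTwist.unitorR _))
  · intro a h; simp only [map_neg, neg_mul, h]
  · intro a b ha hb; simp only [map_add, add_mul, ha, hb]

/-- A class restricting to zero on `D` kills the class of the direct image of `O_D`. -/
theorem mul_vbCl_eq_zero (hM : KRR.HasEnoughLocFree M)
    (hc : ∀ F : D.Modules, FlatMod.IsFinLocFree F → cohBdd M ((Scheme.Modules.pushforward i).obj F))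
    (hKM : KSplit28.IsKRing M KM φM) (hKD : KSplit28.IsKRing D KD φD) {g : KM →+ KD}
    (hg : KRR.IsPull i φM φD g) {z : KM} (hz : g z = 0) :
    z * φM (KPush28.vbCl M hM ((Scheme.Modules.pushforward i).obj (Coh.structureModule D))) = 0 := by
  obtain ⟨Ψ, -, h⟩ := exists_push_mul i hM hc hKM hKD hg
  rw [h, hz, map_zero]

end Push

/-- An effective Cartier divisor is a regular closed immersion. -/
theorem isRegularClosedImmersion_of_effCartier {X : Scheme.{u}} {I : X.IdealSheafData}
    (hI : BlowUp.IsEffCartierIdeal I) : Mor2.IsRegularClosedImmersion I.subschemeι := by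
  refine ⟨inferInstance, fun z => ?_⟩
  obtain ⟨U, hU, a, ha, hspan⟩ := hI (I.subschemeι z)
  refine ⟨U.1, U.2, hU, [a], ⟨?_, ?_⟩, ?_⟩
  · rw [RingTheory.Sequence.isWeaklyRegular_cons_iff]
    exact ⟨fun b c h => (mul_cancel_left_mem_nonZeroDivisors ha).1 h, RingTheory.Sequence.IsWeaklyRegular.nil _ _⟩
  · rw [smul_eq_mul, Ideal.mul_top, Ideal.ofList_singleton, ← hspan]
    intro h
    have hz : I.subschemeι z ∈ (I.support : Set X) ∩ U.1 :=
      ⟨I.range_subschemeι ▸ ⟨z, rfl⟩, hU⟩
    rw [I.coe_support_inter U, ← h] at hz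
    simp at hz
  · rw [Scheme.IdealSheafData.ker_subschemeι, Ideal.ofList_singleton, hspan]

/-- Restriction to zero on an effective divisor kills `1 - [O(-D)]`. -/
theorem mul_one_sub_eq_zero {M : Scheme.{u}} [IsNoetherian M] (hM : KRR.HasEnoughLocFree M)
    {I : M.IdealSheafData} (hI : BlowUp.IsEffCartierIdeal I) {KM : Type v} [CommRing KM] [LambdaOps KM]
    {φM : SGA6.Kvb M →+ KM} (hKM : KSplit28.IsKRing M KM φM) {KD : Type w} [CommRing KD] [LambdaOps KD]
    {φD : SGA6.Kvb I.subscheme →+ KD} (hKD : KSplit28.IsKRing I.subscheme KD φD) {g : KM →+ KD}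
    (hg : KRR.IsPull I.subschemeι φM φD g) {z : KM} (hz : g z = 0) :
    z * (1 - φM (KRR.cl M (ClSub.idealMod I))) = 0 := by
  have hreg := isRegularClosedImmersion_of_effCartier hI
  have hc : ∀ F : I.subscheme.Modules, FlatMod.IsFinLocFree F →
      cohBdd M ((Scheme.Modules.pushforward I.subschemeι).obj F) :=
    fun F hF => KPush28.cohBdd_push I.subschemeι hM hreg hF
  have hO := hc _ KvbLam28.isFinLocFree_structure
  have hJ : FlatMod.IsFinLocFree (ClSub.idealMod I) :=
    VarietyLib.isFinLocFree_of_rank (PicLib.isFinLocFreeOfRank_one (FlatMor12.IdealModGen.isInvertible_idealMod I hI))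
  haveI : Epi (ClSub.toSubscheme I) := Coherent.epi_of_locally_surjective _ fun W a x hx => by
    obtain ⟨U, hU, hxU, hUW⟩ := exists_isAffineOpen_mem_and_subset (x := x) (U := W) hx
    obtain ⟨r, hr⟩ := I.subschemeι_app_surjective ⟨U, hU⟩
      (Coherent.resM (ClSub.quotMod I) hUW a)
    exact ⟨U, hUW, hxU, r, hr⟩
  have hS : (ShortComplex.mk (ClSub.idealModι I) (ClSub.toSubscheme I) (kernel.condition _)).ShortExact :=
    ShortComplex.ShortExact.mk' (ShortComplex.exact_kernel _) (inferInstanceAs (Mono (kernel.ι _))) inferInstance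
  have h := KPushPr28.vbCl_add hM hS (KPush28.cohBdd_of_finLocFree hJ)
    (KPush28.cohBdd_of_finLocFree KvbLam28.isFinLocFree_structure) hO
  rw [KPushPr28.vbCl_vb hM hJ, KPushPr28.vbCl_vb hM KvbLam28.isFinLocFree_structure] at h
  have h' := mul_vbCl_eq_zero I.subschemeι hM hc hKM hKD hg hz
  rw [show (1 : KM) - φM (KRR.cl M (ClSub.idealMod I)) =
    φM (KPush28.vbCl M hM ((Scheme.Modules.pushforward I.subschemeι).obj (Coh.structureModule I.subscheme))) by
      rw [← hKM.map_one, h, map_add]; abel]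
  exact h'

/-- The Adams operations preserve the kernel of a λ-homomorphism. -/
theorem map_adams_eq_zero {K : Type v} {K' : Type w} [CommRing K] [LambdaOps K] [CommRing K'] [LambdaOps K']
    (P : PosStructure K) (f : K →+* K') (hl : ∀ (i : ℕ) (x : K), f (LambdaOps.lam i x) = LambdaOps.lam i (f x))
    {j : ℕ} (hj : 1 ≤ j) {x : K} (hx : f x = 0) : f (adams P j x) = 0 := by
  have h1 : PowerSeries.map f (LambdaLib.lamNeg x) = 1 := by
    ext i
    rw [PowerSeries.coeff_map, LambdaLib.lamNeg, PowerSeries.coeff_rescale, LambdaLib.coeff_lamSeries, map_mul,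
      map_pow, map_neg, map_one, hl, hx, PowerSeries.coeff_one]
    rcases i with _ | i
    · rw [LambdaOps.lam_zero]; simp
    · rw [show LambdaOps.lam (i + 1) (0 : K') = 0 from LambdaLib.lam_apply_zero (i + 1) (Nat.succ_ne_zero i)]; simp
  show f (PowerSeries.coeff j (adamsSeries P x)) = 0
  rw [← PowerSeries.coeff_map, LambdaLib.adamsSeries_eq, map_sub, map_mul, PowerSeries.map_C, PowerSeries.map_X,
    LambdaLib.map_logD f (LambdaLib.constantCoeff_lamNeg x), h1, map_sub, PowerSeries.coeff_C, if_neg (by omega)]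
  simp [LambdaLib.logD]

/-- The class of a product of effective divisors. -/
theorem nonempty_idealMod_mul {X : Scheme.{u}} {A B : X.IdealSheafData} (hA : BlowUp.IsEffCartierIdeal A)
    (hB : BlowUp.IsEffCartierIdeal B) :
    Nonempty (CohB1.tensorMod (ClSub.idealMod A) (ClSub.idealMod B) ≅ ClSub.idealMod (A * B)) := by
  classical
  let m : CohB1.tensorMod (ClSub.idealMod A) (ClSub.idealMod B) ⟶ Coh.structureModule X :=
    KoszTw.tensorMap (ClSub.idealModι A) (ClSub.idealModι B) ≫ (SecTwist.unitorR _).hom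
  have hm : ∀ (U : X.Opens) (k : Γ(ClSub.idealMod A, U)) (l : Γ(ClSub.idealMod B, U)),
      (show Γ(X, U) from m.app U (AmpleLib.tmul k l)) =
        InjMod14.Kosz.ival B U l * InjMod14.Kosz.ival A U k := fun U k l => by
    show (SecTwist.unitorR (Coh.structureModule X)).hom.app U
      ((KoszTw.tensorMap (ClSub.idealModι A) (ClSub.idealModι B)).app U (AmpleLib.tmul k l)) = _
    refine (congrArg ((SecTwist.unitorR (Coh.structureModule X)).hom.app U) (KoszTw.tensorMap_tmul _ _ _ _ _)).trans ?_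
    exact SecTwist.unitorR_tmul (Coh.structureModule X) U ((ClSub.idealModι A).app U k) ((ClSub.idealModι B).app U l)
  choose U hxU a ha hA' using hA
  have hloc : ∀ x : X, ∃ (V : X.affineOpens) (k : Γ(ClSub.idealMod A, V.1)) (l : Γ(ClSub.idealMod B, V.1))
      (c : Γ(X, V.1)), x ∈ V.1 ∧ PicLib.IsGen (ClSub.idealMod A) V.1 k ∧ PicLib.IsGen (ClSub.idealMod B) V.1 l ∧
      InjMod14.Kosz.ival B V.1 l * InjMod14.Kosz.ival A V.1 k = c ∧ IsLeftRegular c ∧
      (A * B).ideal V = Ideal.span {c} := fun x => by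
    obtain ⟨V, hxV, hVU, b, hb, hbV⟩ := ModPairLib.exists_local hB x (U x).1 (hxU x)
    have haV := ModPairLib.ideal_restrict A hVU (hA' x)
    have ha' := ModPairLib.res_mem_nonZeroDivisors (V := V) hVU (ha x)
    obtain ⟨k, hk⟩ := InjMod14.Kosz.exists_ival A V (haV.ge (Ideal.mem_span_singleton_self _))
    obtain ⟨l, hl⟩ := InjMod14.Kosz.exists_ival B V (hbV.ge (Ideal.mem_span_singleton_self _))
    refine ⟨V, k, l, _, hxV, FlatMor12.IdealModGen.bijective_smul_of_affine_gen A V.2 hk
      (fun p q h => (mul_cancel_left_mem_nonZeroDivisors ha').1 h) haV,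
      FlatMor12.IdealModGen.bijective_smul_of_affine_gen B V.2 hl
      (fun p q h => (mul_cancel_left_mem_nonZeroDivisors hb).1 h) hbV, rfl, ?_, ?_⟩
    · rw [hl, hk]
      exact fun p q h => (mul_cancel_left_mem_nonZeroDivisors (mul_mem hb ha')).1 h
    · rw [hl, hk, Scheme.IdealSheafData.ideal_mul, Pi.mul_apply, haV, hbV, Ideal.span_singleton_mul_span_singleton,
        mul_comm]
  choose V k l c hxV hk hl hc hreg hspan using hloc
  have hcov : iSup (fun x => (V x).1) = ⊤ := top_le_iff.1 fun x _ => TopologicalSpace.Opens.mem_iSup.2 ⟨x, hxV x⟩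
  have hgen := fun x => AmpleLib.isGen_tmul (hk x) (hl x)
  have h0 : m ≫ ClSub.toSubscheme (A * B) = 0 := PicLib.hom_ext_gen _ hcov _ hgen _ _ fun x => by
    show (A * B).subschemeι.app (V x).1 (m.app (V x).1 (AmpleLib.tmul (k x) (l x))) = 0
    rw [← RingHom.mem_ker, Scheme.IdealSheafData.ker_subschemeι_app, hspan x]
    exact Ideal.mem_span_singleton'.2 ⟨1, (one_mul _).trans (((hm _ _ _).trans (hc x)).symm)⟩
  let φ := kernel.lift (ClSub.toSubscheme (A * B)) m h0
  have hφ : φ ≫ ClSub.idealModι (A * B) = m := kernel.lift_ι _ _ _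
  haveI : IsIso φ := PicLib.isIso_of_gens φ _ hcov _ hgen fun x =>
    FlatMor12.IdealModGen.bijective_smul_of_affine_gen (A * B) (V x).2
      ((ConcreteCategory.congr_hom (congrArg (fun ψ => ψ.app (V x).1) hφ) (AmpleLib.tmul (k x) (l x))).trans
        ((hm _ _ _).trans (hc x))) (hreg x) (hspan x)
  exact ⟨asIso φ⟩

end Groth.Agent.KRR28
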