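import Groth.Agent.LambdaLib.ChernIso

/-!
# The Frobenius of `ℚGr K` induced by `ψ^j`, and the degree filtration of `ℚGr K`
-/

set_option autoImplicit false
set_option linter.style.haveILetI false
set_option backward.isDefEq.respectTransparency false
set_option synthInstance.maxHeartbeats 100000

universe u

open Finset LambdaRing Groth.Agent.LambdaLib
open scoped TensorProduct

noncomputable section

namespace Groth.Agent.KRR28

variable {K : Type u} [CommRing K] [LambdaOps K] {P : PosStructure K}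

theorem gr_smul_def (q : ℚ) (w : KGr.Gr P) : q • w = algebraMap ℚ (KGr.Gr P) q * w := Algebra.smul_def q w

theorem cancel_aux {R : Type*} [CommMonoid R] {A B C F c : R} (e : A * (B * F) = A * (C * (B * c))) :
    A * B * F = A * B * (C * c) := by rw [mul_assoc, mul_assoc, e, mul_left_comm C B c]

/-- The Chern character as a ring homomorphism. -/
def chRing (hK : HasSplitting K P) {d : ℕ} (hd : gammaFiltration P (d + 1) = ⊥) : K →+* KGr.Gr P where
  toFun := KGr.chK P d
  map_one' := by rw [kgr_chK_eq, GrTarget.chK_one]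
  map_mul' x y := by simp only [kgr_chK_eq, GrTarget.chK_mul hK hd]
  map_zero' := by
    have h := GrTarget.chK_add (G := grTarget P) d 0 0
    rw [add_zero] at h
    rw [kgr_chK_eq]
    exact (eq_add_iff_right_eq_zero_aux h)
  map_add' x y := by simp only [kgr_chK_eq, GrTarget.chK_add]
where
  eq_add_iff_right_eq_zero_aux {a : KGr.Gr P} (h : a = a + a) : a = 0 := by simpa using h

/-- The Chern character on `ℚ ⊗ K`. -/
def chAlg (hK : HasSplitting K P) {d : ℕ} (hd : gammaFiltration P (d + 1) = ⊥) : ℚ ⊗[ℤ] K →ₐ[ℚ] KGr.Gr P :=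
  Algebra.TensorProduct.lift (Algebra.ofId ℚ _) (chRing hK hd).toIntAlgHom (fun a b => mul_comm (Algebra.ofId ℚ (KGr.Gr P) a) _)

variable (hK : HasSplitting K P) {d : ℕ} (hd : gammaFiltration P (d + 1) = ⊥)

theorem chAlg_tmul (q : ℚ) (x : K) : chAlg hK hd (q ⊗ₜ[ℤ] x) = algebraMap ℚ _ q * KGr.chK P d x := rfl

theorem chAlg_eq (v : ℚ ⊗[ℤ] K) : chAlg hK hd v = chLin P d v := by
  induction v using TensorProduct.induction_on with
  | zero => simp
  | tmul q x => rw [chLin_tmul, gr_smul_def, chAlg_tmul]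
  | add a b ha hb => rw [map_add, map_add, ha, hb]

theorem chAlg_bijective : Function.Bijective (chAlg hK hd) := by
  rw [show ⇑(chAlg hK hd) = ⇑(chLin P d) from funext (chAlg_eq hK hd)]
  exact ⟨chLin_injective hK d hd, chLin_surjective hK d hd⟩

/-- The inverse of the Chern character. -/
def chInv : KGr.Gr P →ₐ[ℚ] ℚ ⊗[ℤ] K := (AlgEquiv.ofBijective _ (chAlg_bijective hK hd)).symm.toAlgHom

theorem chAlg_chInv (w : KGr.Gr P) : chAlg hK hd (chInv hK hd w) = w :=
  (AlgEquiv.ofBijective _ (chAlg_bijective hK hd)).apply_symm_apply w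

theorem chInv_chAlg (v : ℚ ⊗[ℤ] K) : chInv hK hd (chAlg hK hd v) = v :=
  (AlgEquiv.ofBijective _ (chAlg_bijective hK hd)).symm_apply_apply v

theorem chInv_chK (x : K) : chInv hK hd (KGr.chK P d x) = (1 : ℚ) ⊗ₜ[ℤ] x := by
  rw [← chInv_chAlg hK hd ((1 : ℚ) ⊗ₜ[ℤ] x), chAlg_tmul, map_one, one_mul]

theorem chInv_injective : Function.Injective (chInv hK hd) :=
  (AlgEquiv.ofBijective _ (chAlg_bijective hK hd)).symm.injective

/-- `ψ^j` on `ℚGr K`. -/
def frob (j : ℕ) : KGr.Gr P →ₐ[ℚ] KGr.Gr P :=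
  ((chAlg hK hd).comp (Algebra.TensorProduct.map (AlgHom.id ℚ ℚ) (adamsRingHom hK j).toIntAlgHom)).comp
    (chInv hK hd)

theorem frob_chK (j : ℕ) (x : K) : frob hK hd j (KGr.chK P d x) = KGr.chK P d (adams P j x) := by
  show chAlg hK hd (Algebra.TensorProduct.map (AlgHom.id ℚ ℚ) (adamsRingHom hK j).toIntAlgHom
    (chInv hK hd (KGr.chK P d x))) = _
  rw [chInv_chK]
  show chAlg hK hd ((1 : ℚ) ⊗ₜ[ℤ] adams P j x) = _
  rw [chAlg_tmul, map_one, one_mul]

include hK in
theorem gpw_adams (j m : ℕ) (x : K) :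
    (grTarget P).gpw m (adams P j x) = (j : KGr.Gr P) ^ m * (grTarget P).gpw m x := by
  have hc : pw P m (adams P j x) = adams P j (pw P m x) := by
    rw [pw_eq_sum_adams hK, pw_eq_sum_adams hK, ← adamsHom_apply P j (∑ _ ∈ _, _), map_sum]
    refine Finset.sum_congr rfl fun i _ => ?_
    rw [map_zsmul, adamsHom_apply, adams_adams hK, adams_adams hK, Nat.mul_comm i j]
  have h0 := GrTarget.isCls_pw (G := grTarget P) m x
  rw [← (GrTarget.isCls_pw (G := grTarget P) m (adams P j x)).2, hc]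
  have h1 := (GrTarget.IsCls.natCast (G := grTarget P) (j ^ m)).mul h0
  rw [zero_add, Nat.cast_pow, Nat.cast_pow] at h1
  have h2 := h1.add (GrTarget.IsCls.of_succ (G := grTarget P) (adams_sub_pow_mem hK j m h0.1) (Nat.lt_succ_self m))
  rw [add_zero, add_sub_cancel] at h2
  exact h2.2

include hK hd in
theorem frob_grK (j : ℕ) {n : ℕ} {x : K} (hx : x ∈ gammaFiltration P n) :
    frob hK hd j (KGr.grK P (n : ℤ) x) = ((j : ℚ) ^ n) • KGr.grK P (n : ℤ) x := by
  suffices H : ∀ k n : ℕ, d < n + k → ∀ x ∈ gammaFiltration P n,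
      frob hK hd j (KGr.grK P (n : ℤ) x) = ((j : ℚ) ^ n) • KGr.grK P (n : ℤ) x from
    H (d + 1) n (by omega) x hx
  intro k
  induction k with
  | zero =>
    intro n hn x hx
    have h0 := gammaFiltration_antitone P (show d + 1 ≤ n by omega) hx
    rw [hd, AddSubgroup.mem_bot] at h0
    rw [h0, grK_zero, map_zero, smul_zero]
  | succ k ih =>
    intro n hn x hx
    rcases lt_or_ge d n with hdn | hdn
    · exact ih n (by omega) x hx
    set G := grTarget P
    have hmem : n ∈ range (d + 1) := Finset.mem_range.2 (by omega)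
    have h := frob_chK hK hd j x
    rw [kgr_chK_eq, kgr_chK_eq, GrTarget.chK_eq, GrTarget.chK_eq, map_sum, ← Finset.add_sum_erase _ _ hmem,
      ← Finset.add_sum_erase _ _ hmem] at h
    have hrest : ∀ m ∈ (range (d + 1)).erase n,
        frob hK hd j (algebraMap ℚ (KGr.Gr P) (1 / (m.factorial : ℚ)) * G.gpw m x) =
          algebraMap ℚ (KGr.Gr P) (1 / (m.factorial : ℚ)) * G.gpw m (adams P j x) := fun m hm => by
      rw [map_mul, AlgHom.commutes, gpw_adams hK]
      congr 1
      rcases lt_or_gt_of_ne (Finset.ne_of_mem_erase hm) with h | h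
      · rw [GrTarget.gpw_eq_zero hK h hx, map_zero, mul_zero]
      · have hc := GrTarget.isCls_pw (G := G) m x
        rw [← hc.2]
        refine (ih m (by omega) _ hc.1).trans ?_
        rw [gr_smul_def, map_pow, map_natCast]
        rfl
    rw [Finset.sum_congr rfl hrest, add_left_inj, gpw_adams hK, map_mul, AlgHom.commutes,
      GrTarget.gpw_eq_factorial_mul hK hx] at h
    have hu : IsUnit (algebraMap ℚ (KGr.Gr P) (1 / (n.factorial : ℚ)) * (n.factorial : KGr.Gr P)) := by
      rw [← map_natCast (algebraMap ℚ (KGr.Gr P)), ← map_mul,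
        one_div_mul_cancel (Nat.cast_ne_zero.mpr n.factorial_ne_zero), map_one]
      exact isUnit_one
    refine hu.mul_left_cancel ?_
    rw [gr_smul_def, map_pow, map_natCast]
    rw [map_mul, map_natCast] at h
    exact cancel_aux (R := KGr.Gr P) h

include hK hd in
theorem frob_gpw (j m : ℕ) (x : K) :
    frob hK hd j ((grTarget P).gpw m x) = ((j : ℚ) ^ m) • (grTarget P).gpw m x := by
  rw [← (GrTarget.isCls_pw (G := grTarget P) m x).2]
  exact frob_grK hK hd j (GrTarget.isCls_pw (G := grTarget P) m x).1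

/-! ### rational classes -/

variable (P)

theorem grK_neg {e : ℤ} (he : e < 0) (z : K) : KGr.grK P e z = 0 := by
  rw [KGr.grK]
  split_ifs with h
  · obtain ⟨k, hk⟩ : ∃ k : ℕ, -e = (k : ℤ) + 1 := ⟨(-e - 1).toNat, by omega⟩
    have hz : ∀ y : K, LaurentPolynomial.C y * LaurentPolynomial.T 0 ∈ KGr.rees P := fun y => by
      simpa using mem_rees (P := P) (n := 0) (x := y) (by simp [gammaFiltration])
    have e1 : (⟨_, h.choose_spec.2⟩ : KGr.rees P) =
        KGr.tGen P ^ (k + 1) * ⟨_, hz ((h.choose : K) * z)⟩ := Subtype.ext (by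
      show _ = LaurentPolynomial.T 1 ^ (k + 1) * (_ * _)
      rw [LaurentPolynomial.T_pow, mul_left_comm, ← LaurentPolynomial.T_add]
      exact congrArg (fun r => LaurentPolynomial.C ((h.choose : K) * z) * LaurentPolynomial.T r) (by push_cast; omega))
    rw [e1, Ideal.Quotient.eq_zero_iff_mem.2 (Ideal.mul_mem_right _ _
      (Ideal.pow_le_self (Nat.succ_ne_zero k) (Ideal.pow_mem_pow (Ideal.mem_span_singleton_self _) _))),
      TensorProduct.tmul_zero]
  · rfl

theorem grK_rat {n N : ℕ} (hN : 1 ≤ N) {z : K} (hz : (N : K) * z ∈ gammaFiltration P n) :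
    KGr.grK P (n : ℤ) z = ((1 : ℚ) / N) • KGr.grK P (n : ℤ) ((N : K) * z) := by
  have hex : ∃ N : ℕ, 1 ≤ N ∧ LaurentPolynomial.C ((N : K) * z) * LaurentPolynomial.T (-(n : ℤ)) ∈ KGr.rees P :=
    ⟨N, hN, mem_rees hz⟩
  have hmem : (hex.choose : K) * z ∈ gammaFiltration P n := by
    have h := coeff_mem_of_mem_rees hex.choose_spec.2 (-(n : ℤ))
    rw [← LaurentPolynomial.single_eq_C_mul_T, AddMonoidAlgebra.coeff_single, Finsupp.single_eq_same] at h
    simpa using h
  have h1 : KGr.grK P (n : ℤ) z = ((1 : ℚ) / hex.choose) • KGr.grK P (n : ℤ) ((hex.choose : K) * z) := by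
    rw [grK_eq hmem, KGr.grK, dif_pos hex, reesToGr, RingHom.comp_apply]
    show _ = _ • ((1 : ℚ) ⊗ₜ[ℤ] _)
    rw [TensorProduct.smul_tmul', smul_eq_mul, mul_one]
  have h2 : ∀ (m : ℕ) {y : K}, y ∈ gammaFiltration P n →
      KGr.grK P (n : ℤ) ((m : K) * y) = (m : ℚ) • KGr.grK P (n : ℤ) y := fun m y hy => by
    rw [Nat.cast_smul_eq_nsmul]
    induction m with
    | zero => simp [grK_zero]
    | succ m ih =>
      rw [Nat.cast_succ, add_one_mul, succ_nsmul, grK_add (LambdaLib.mul_mem_left P _ hy) hy, ih]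
  have hNn : (N : ℚ) ≠ 0 := by exact_mod_cast (show N ≠ 0 by omega)
  have hCn : (hex.choose : ℚ) ≠ 0 := by
    exact_mod_cast (show hex.choose ≠ 0 by have := hex.choose_spec.1; omega)
  have h3 := h2 hex.choose hz
  have h4 := h2 N hmem
  rw [mul_left_comm] at h3
  rw [h3] at h4
  rw [h1]
  calc ((1 : ℚ) / hex.choose) • KGr.grK P (n : ℤ) ((hex.choose : K) * z)
      = ((1 : ℚ) / (hex.choose * N)) • ((N : ℚ) • KGr.grK P (n : ℤ) ((hex.choose : K) * z)) := by
        rw [smul_smul]; congr 1; field_simp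
    _ = ((1 : ℚ) / N) • KGr.grK P (n : ℤ) ((N : K) * z) := by
        rw [← h4, smul_smul]; congr 1; field_simp

theorem grK_eq_zero_rat {e : ℤ} {k N : ℕ} (hN : 1 ≤ N) {z : K} (hz : (N : K) * z ∈ gammaFiltration P k)
    (h : e < k) : KGr.grK P e z = 0 := by
  rcases lt_or_ge e 0 with he | he
  · exact grK_neg P he z
  obtain ⟨n, rfl⟩ := Int.eq_ofNat_of_zero_le he
  have hz' : (N : K) * z ∈ gammaFiltration P (n + 1) := gammaFiltration_antitone P (by omega) hz
  rw [grK_rat P hN (gammaFiltration_antitone P (Nat.le_succ n) hz'), grK_eq_zero hz', smul_zero]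

/-! ### the degree filtration -/

/-- Elements of degree at least `k`. -/
def degGE (k : ℤ) : Submodule ℚ (KGr.Gr P) :=
  Submodule.span ℚ {w | ∃ (m : ℕ) (z : K), k ≤ m ∧ z ∈ gammaFiltration P m ∧ KGr.grK P (m : ℤ) z = w}

variable {P}

theorem grK_mem_degGE {k : ℤ} {m : ℕ} (h : k ≤ m) {z : K} (hz : z ∈ gammaFiltration P m) :
    KGr.grK P (m : ℤ) z ∈ degGE P k := Submodule.subset_span ⟨m, z, h, hz, rfl⟩

theorem degGE_anti {k l : ℤ} (h : k ≤ l) : degGE P l ≤ degGE P k :=
  Submodule.span_mono fun _ ⟨m, z, hm, hz, e⟩ => ⟨m, z, h.trans hm, hz, e⟩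

theorem mul_mem_degGE {a b : ℤ} {x y : KGr.Gr P} (hx : x ∈ degGE P a) (hy : y ∈ degGE P b) :
    x * y ∈ degGE P (a + b) := by
  induction hx using Submodule.span_induction with
  | mem x hx =>
    induction hy using Submodule.span_induction with
    | mem y hy =>
      obtain ⟨m, z, hm, hz, rfl⟩ := hx
      obtain ⟨l, w, hl, hw, rfl⟩ := hy
      rw [← grK_mul hz hw]
      exact grK_mem_degGE (by push_cast; omega) (mul_mem_add P hz hw)
    | zero => rw [mul_zero]; exact zero_mem _
    | add p q _ _ hp hq => rw [mul_add]; exact add_mem hp hq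
    | smul c p _ hp => rw [mul_smul_comm]; exact Submodule.smul_mem _ _ hp
  | zero => rw [zero_mul]; exact zero_mem _
  | add p q _ _ hp hq => rw [add_mul]; exact add_mem hp hq
  | smul c p _ hp => rw [smul_mul_assoc]; exact Submodule.smul_mem _ _ hp

theorem one_mem_degGE : (1 : KGr.Gr P) ∈ degGE P 0 := by
  rw [← grK_zero_one]
  exact grK_mem_degGE le_rfl (by simp [gammaFiltration])

theorem mem_degGE_zero (w : KGr.Gr P) : w ∈ degGE P 0 := by
  induction w using TensorProduct.induction_on with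
  | zero => exact zero_mem _
  | add a b ha hb => exact add_mem ha hb
  | tmul q z =>
    obtain ⟨p, rfl⟩ := Ideal.Quotient.mk_surjective z
    rw [show q ⊗ₜ[ℤ] Ideal.Quotient.mk (Ideal.span {KGr.tGen P}) p = q • reesToGr P p from
      (by rw [← mul_one q, ← smul_eq_mul, ← TensorProduct.smul_tmul', smul_eq_mul, mul_one]; rfl)]
    refine Submodule.smul_mem _ q (reesToGr_mem _ one_mem_degGE (fun n x hx => grK_mem_degGE (by omega) hx)
      (fun a ha b hb => ?_) p)
    simpa using mul_mem_degGE ha hb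

theorem degGE_le_zero {k : ℤ} (hk : k ≤ 0) (w : KGr.Gr P) : w ∈ degGE P k := degGE_anti hk (mem_degGE_zero w)

include hd in
theorem degGE_eq_bot {k : ℤ} (hk : (d : ℤ) < k) : degGE P k = ⊥ := by
  rw [eq_bot_iff, degGE, Submodule.span_le]
  rintro _ ⟨m, z, hm, hz, rfl⟩
  have h0 := gammaFiltration_antitone P (show d + 1 ≤ m by omega) hz
  rw [hd, AddSubgroup.mem_bot] at h0
  rw [h0, grK_zero]
  exact zero_mem _

theorem gpw_mem_degGE (m : ℕ) (x : K) : (grTarget P).gpw m x ∈ degGE P (m : ℤ) := by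
  rw [← (GrTarget.isCls_pw (G := grTarget P) m x).2]
  exact grK_mem_degGE le_rfl (GrTarget.isCls_pw (G := grTarget P) m x).1

theorem exp_sub_one_mem {w : KGr.Gr P} (hw : w ∈ degGE P 1) (hnil : IsNilpotent w) :
    IsNilpotent.exp w - 1 ∈ degGE P 1 := by
  obtain ⟨N, hN⟩ := hnil
  rw [IsNilpotent.exp_eq_sum (pow_eq_zero_of_le (Nat.le_succ N) hN), Finset.sum_range_succ']
  simp only [pow_zero, Nat.factorial_zero, Nat.cast_one, inv_one, one_smul, add_sub_cancel_right]
  refine Submodule.sum_mem _ fun i _ => Submodule.smul_mem _ _ ?_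
  rw [pow_succ]
  simpa using mul_mem_degGE (mem_degGE_zero (w ^ i)) hw

include hK in
theorem chK_sub_grK_mem {n : ℕ} {x : K} (hx : x ∈ gammaFiltration P n) :
    KGr.chK P d x - KGr.grK P (n : ℤ) x ∈ degGE P ((n : ℤ) + 1) ∨ d < n := by
  rcases lt_or_ge d n with h | h
  · exact .inr h
  refine .inl ?_
  rw [kgr_chK_eq, GrTarget.chK_eq, ← Finset.add_sum_erase _ _ (Finset.mem_range.mpr (show n < d + 1 by omega)),
    GrTarget.gpw_eq_factorial_mul hK hx, ← mul_assoc, ← map_natCast (algebraMap ℚ (KGr.Gr P)), ← map_mul,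
    one_div_mul_cancel (Nat.cast_ne_zero.mpr n.factorial_ne_zero), map_one, one_mul]
  show KGr.grK P (n : ℤ) x + _ - _ ∈ _
  rw [add_sub_cancel_left]
  refine Submodule.sum_mem _ fun m hm => ?_
  rw [← gr_smul_def]
  refine Submodule.smul_mem _ _ ?_
  rcases lt_or_gt_of_ne (Finset.ne_of_mem_erase hm) with h' | h'
  · rw [GrTarget.gpw_eq_zero hK h' hx]; exact zero_mem _
  · exact degGE_anti (by omega) (gpw_mem_degGE m x)

include hK hd in
theorem chK_leading {n : ℕ} {x : K} (hx : x ∈ gammaFiltration P n) :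
    KGr.chK P d x - KGr.grK P (n : ℤ) x ∈ degGE P ((n : ℤ) + 1) := by
  rcases chK_sub_grK_mem hK (d := d) hx with h | h
  · exact h
  have h0 := gammaFiltration_antitone P (show d + 1 ≤ n by omega) hx
  rw [hd, AddSubgroup.mem_bot] at h0
  rw [h0, grK_zero, sub_zero, show KGr.chK P d (0 : K) = 0 from map_zero (chRing hK hd)]
  exact zero_mem _

include hK hd in
/-- The leading term of the Chern character of an element of `ℚF^e`. -/
theorem chK_leading_rat {e : ℤ} {N : ℕ} (hN : 1 ≤ N) {z : K} (hz : (N : K) * z ∈ gammaFiltration P e.toNat) :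
    KGr.chK P d z - KGr.grK P e z ∈ degGE P (e + 1) := by
  rcases lt_or_ge e 0 with he | he
  · rw [grK_neg P he, sub_zero]; exact degGE_le_zero (by omega) _
  obtain ⟨n, rfl⟩ := Int.eq_ofNat_of_zero_le he
  rw [Int.toNat_natCast] at hz
  have hNn : (N : ℚ) ≠ 0 := by exact_mod_cast (show N ≠ 0 by omega)
  have h1 : KGr.chK P d z = ((1 : ℚ) / N) • KGr.chK P d ((N : K) * z) := by
    rw [show KGr.chK P d ((N : K) * z) = chRing hK hd ((N : K) * z) from rfl, map_mul, map_natCast,
      gr_smul_def, ← map_natCast (algebraMap ℚ (KGr.Gr P)) N, ← mul_assoc, ← map_mul,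
      one_div_mul_cancel hNn, map_one, one_mul]
    rfl
  rw [h1, grK_rat P hN hz, ← smul_sub]
  exact Submodule.smul_mem _ _ (chK_leading hK hd hz)

include hK hd in
theorem frob_sub_mem (j : ℕ) {k : ℕ} {w : KGr.Gr P} (hw : w ∈ degGE P (k : ℤ)) :
    frob hK hd j w - ((j : ℚ) ^ k) • w ∈ degGE P ((k + 1 : ℕ) : ℤ) := by
  induction hw using Submodule.span_induction with
  | mem w hw =>
    obtain ⟨m, z, hm, hz, rfl⟩ := hw
    rw [frob_grK hK hd j hz]
    rcases (show k ≤ m by omega).eq_or_lt with rfl | h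
    · rw [sub_self]; exact zero_mem _
    · exact sub_mem (Submodule.smul_mem _ _ (grK_mem_degGE (by omega) hz))
        (Submodule.smul_mem _ _ (grK_mem_degGE (by omega) hz))
  | zero => simp
  | add p q _ _ hp hq =>
    rw [map_add, smul_add, add_sub_add_comm]
    exact add_mem hp hq
  | smul c p _ hp =>
    rw [map_smul, smul_comm, ← smul_sub]
    exact Submodule.smul_mem _ _ hp

include hK hd in
/-- An eigenvector of weight `e` of degree `> e` is zero. -/
theorem eq_zero_of_frob {j : ℕ} (hj : 2 ≤ j) {e : ℤ} {w : KGr.Gr P} (hw : w ∈ degGE P (e + 1))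
    (h : frob hK hd j w = ((j : ℚ) ^ e) • w) : w = 0 := by
  have hall : ∀ i : ℕ, w ∈ degGE P (((e + 1).toNat + i : ℕ) : ℤ) := by
    intro i
    induction i with
    | zero =>
      rcases le_total (e + 1) 0 with h0 | h0
      · rw [Int.toNat_of_nonpos h0]; exact mem_degGE_zero w
      · rwa [show (((e + 1).toNat + 0 : ℕ) : ℤ) = e + 1 by omega]
    | succ i ih =>
      have h' := frob_sub_mem hK hd j ih
      rw [h, ← sub_smul] at h'
      have hne : (j : ℚ) ^ e - (j : ℚ) ^ ((e + 1).toNat + i) ≠ 0 := by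
        rw [sub_ne_zero, ← zpow_natCast]
        intro h0
        have := zpow_right_injective₀ (show (0 : ℚ) < j by exact_mod_cast (show 0 < j by omega))
          (show (j : ℚ) ≠ 1 by exact_mod_cast (show j ≠ 1 by omega)) h0
        omega
      exact (Submodule.smul_mem_iff _ hne).1 h'
  have := hall (d + 1)
  rwa [degGE_eq_bot hd (by omega), Submodule.mem_bot] at this

end Groth.Agent.KRR28
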