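import Groth.Agent.KRR28.GrTodd

/-!
# The graded push-forward, and Riemann–Roch from the Adams relation
-/

set_option autoImplicit false
set_option linter.style.haveILetI false
set_option backward.isDefEq.respectTransparency false
set_option synthInstance.maxHeartbeats 100000
set_option maxHeartbeats 800000

universe u

open Finset LambdaRing Groth.Agent.LambdaLib
open scoped TensorProduct

noncomputable section

namespace Groth.Agent.KRR28

variable {KX KY : Type u} [CommRing KX] [LambdaOps KX] [CommRing KY] [LambdaOps KY]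
  {PX : PosStructure KX} {PY : PosStructure KY}

/-- `f(ℚF^n) ⊆ ℚF^{n+δ}`. -/
def Raises (PX : PosStructure KX) (PY : PosStructure KY) (f : KX →+ KY) (δ : ℤ) : Prop :=
  ∀ (n : ℕ) (x : KX), x ∈ gammaFiltration PX n →
    ∃ N : ℕ, 1 ≤ N ∧ (N : KY) * f x ∈ gammaFiltration PY ((n : ℤ) + δ).toNat

theorem grK_add_rat {P : PosStructure KY} {e : ℤ} {N M : ℕ} (hN : 1 ≤ N) (hM : 1 ≤ M) {x y : KY}
    (hx : (N : KY) * x ∈ gammaFiltration P e.toNat) (hy : (M : KY) * y ∈ gammaFiltration P e.toNat) :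
    KGr.grK P e (x + y) = KGr.grK P e x + KGr.grK P e y := by
  rcases lt_or_ge e 0 with he | he
  · rw [grK_neg P he, grK_neg P he, grK_neg P he, add_zero]
  obtain ⟨n, rfl⟩ := Int.eq_ofNat_of_zero_le he
  rw [Int.toNat_natCast] at hx hy
  have hx' : ((N * M : ℕ) : KY) * x ∈ gammaFiltration P n := by
    rw [Nat.cast_mul, mul_comm (N : KY), mul_assoc]; exact LambdaLib.mul_mem_left P _ hx
  have hy' : ((N * M : ℕ) : KY) * y ∈ gammaFiltration P n := by
    rw [Nat.cast_mul, mul_assoc]; exact LambdaLib.mul_mem_left P _ hy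
  have hNM : 1 ≤ N * M := Nat.mul_pos hN hM
  rw [grK_rat P hNM (show ((N * M : ℕ) : KY) * (x + y) ∈ _ by rw [mul_add]; exact add_mem hx' hy'),
    grK_rat P hNM hx', grK_rat P hNM hy', mul_add, grK_add hx' hy', smul_add]

theorem coeff_mem (p : KGr.rees PX) (n : ℕ) :
    (p : LaurentPolynomial KX).coeff (-(n : ℤ)) ∈ gammaFiltration PX n := by
  simpa using coeff_mem_of_mem_rees p.2 (-(n : ℤ))

theorem coeff_mk_single {x : KX} (n m : ℕ) :
    (LaurentPolynomial.C x * LaurentPolynomial.T (-(n : ℤ))).coeff (-(m : ℤ)) = if m = n then x else 0 := by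
  classical
  rw [← LaurentPolynomial.single_eq_C_mul_T, AddMonoidAlgebra.coeff_single, Finsupp.single_apply]
  exact if_congr (by omega) rfl rfl

variable {f : KX →+ KY} {δ : ℤ} (hf : Raises PX PY f δ) (dX : ℕ)

/-- The push-forward on the Rees ring, read in `ℚGr`. -/
def reesPush : KGr.rees PX →+ KGr.Gr PY :=
  AddMonoidHom.mk' (fun p => ∑ n ∈ range (dX + 1),
    KGr.grK PY ((n : ℤ) + δ) (f ((p : LaurentPolynomial KX).coeff (-(n : ℤ))))) fun p q => by
    rw [← Finset.sum_add_distrib]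
    refine Finset.sum_congr rfl fun n _ => ?_
    obtain ⟨N, hN, hx⟩ := hf n _ (coeff_mem p n)
    obtain ⟨M, hM, hy⟩ := hf n _ (coeff_mem q n)
    rw [Subring.coe_add, AddMonoidAlgebra.coeff_add, Finsupp.add_apply, map_add, grK_add_rat hN hM hx hy]

theorem reesPush_apply (p : KGr.rees PX) : reesPush hf dX p =
    ∑ n ∈ range (dX + 1), KGr.grK PY ((n : ℤ) + δ) (f ((p : LaurentPolynomial KX).coeff (-(n : ℤ)))) := rfl

theorem span_le_ker : (Ideal.span {KGr.tGen PX}).toAddSubgroup ≤ (reesPush hf dX).ker := by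
  classical
  intro p hp
  obtain ⟨q, rfl⟩ := Ideal.mem_span_singleton'.mp hp
  rw [AddMonoidHom.mem_ker]
  rw [reesPush_apply]
  refine Finset.sum_eq_zero fun n _ => ?_
  have h : ((q * KGr.tGen PX : KGr.rees PX) : LaurentPolynomial KX).coeff (-(n : ℤ)) =
      (q : LaurentPolynomial KX).coeff (-((n + 1 : ℕ) : ℤ)) := by
    change ((q : LaurentPolynomial KX) * LaurentPolynomial.T 1).coeff _ = _
    rw [LaurentPolynomial.T, AddMonoidAlgebra.coeff_mul_single_eq_coeff_mul (-((n + 1 : ℕ) : ℤ))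
      (fun m _ => ⟨fun e => by push_cast; omega, fun e => by subst e; push_cast; ring⟩), mul_one]
  rw [h]
  obtain ⟨N, hN, hx⟩ := hf (n + 1) _ (coeff_mem q (n + 1))
  rcases lt_or_ge ((n : ℤ) + δ) 0 with he | he
  · exact grK_neg PY he _
  · exact grK_eq_zero_rat PY hN hx (by push_cast; omega)

/-- The graded push-forward. -/
def fG : KGr.Gr PX →ₗ[ℚ] KGr.Gr PY :=
  LinearMap.liftBaseChange ℚ
    (QuotientAddGroup.lift (Ideal.span {KGr.tGen PX}).toAddSubgroup (reesPush hf dX) (span_le_ker hf dX)).toIntLinearMap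

variable {dX} (hdX : gammaFiltration PX (dX + 1) = ⊥)

include hdX in
theorem fG_grK {n : ℕ} {x : KX} (hx : x ∈ gammaFiltration PX n) :
    fG hf dX (KGr.grK PX (n : ℤ) x) = KGr.grK PY ((n : ℤ) + δ) (f x) := by
  classical
  rcases lt_or_ge dX n with h | h
  · have h0 := gammaFiltration_antitone PX (show dX + 1 ≤ n by omega) hx
    rw [hdX, AddSubgroup.mem_bot] at h0
    rw [h0, grK_zero, map_zero, map_zero]
    rcases lt_or_ge ((n : ℤ) + δ) 0 with he | he
    · rw [grK_neg PY he]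
    · obtain ⟨k, hk⟩ := Int.eq_ofNat_of_zero_le he
      rw [hk, grK_zero]
  rw [grK_eq hx]
  change fG hf dX ((1 : ℚ) ⊗ₜ[ℤ] Ideal.Quotient.mk _ (⟨_, mem_rees hx⟩ : KGr.rees PX)) = _
  rw [fG, LinearMap.liftBaseChange_tmul, one_smul, AddMonoidHom.coe_toIntLinearMap]
  change reesPush hf dX _ = _
  rw [reesPush_apply]
  simp only [coeff_mk_single]
  rw [Finset.sum_eq_single (M := KGr.Gr PY) n]
  · rw [if_pos rfl]
  · intro m _ hm
    rw [if_neg hm, map_zero]
    rcases lt_or_ge ((m : ℤ) + δ) 0 with he | he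
    · exact grK_neg PY he _
    · obtain ⟨k, hk⟩ := Int.eq_ofNat_of_zero_le he
      rw [hk, grK_zero]
  · intro h'; exact absurd (Finset.mem_range.2 (by omega)) h'

include hdX in
theorem fG_mem {k : ℤ} {w : KGr.Gr PX} (hw : w ∈ degGE PX k) : fG hf dX w ∈ degGE PY (k + δ) := by
  induction hw using Submodule.span_induction with
  | mem w hw =>
    obtain ⟨m, z, hm, hz, rfl⟩ := hw
    rw [fG_grK hf hdX hz]
    rcases lt_or_ge ((m : ℤ) + δ) 0 with he | he
    · rw [grK_neg PY he]; exact zero_mem _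
    obtain ⟨N, hN, hN'⟩ := hf m z hz
    obtain ⟨e, he'⟩ := Int.eq_ofNat_of_zero_le he
    rw [he', Int.toNat_natCast] at hN'
    rw [he', grK_rat PY hN hN']
    exact Submodule.smul_mem _ _ (grK_mem_degGE (by omega) hN')
  | zero => rw [map_zero]; exact zero_mem _
  | add p q _ _ hp hq => rw [map_add]; exact add_mem hp hq
  | smul c p _ hp => rw [map_smul]; exact Submodule.smul_mem _ _ hp

variable (hKX : HasSplitting KX PX) (hKY : HasSplitting KY PY) {dY : ℕ} (hdY : gammaFiltration PY (dY + 1) = ⊥)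

include hdX in
theorem fG_frob {j : ℕ} (hj : 2 ≤ j) (w : KGr.Gr PX) :
    frob hKY hdY j (fG hf dX w) = ((j : ℚ) ^ δ) • fG hf dX (frob hKX hdX j w) := by
  have hw := mem_degGE_zero (P := PX) w
  induction hw using Submodule.span_induction with
  | mem w hw =>
    obtain ⟨m, z, -, hz, rfl⟩ := hw
    rw [frob_grK hKX hdX j hz, map_smul, fG_grK hf hdX hz, smul_smul, ← zpow_natCast,
      ← zpow_add₀ (show (j : ℚ) ≠ 0 by exact_mod_cast (show j ≠ 0 by omega)), add_comm δ]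
    rcases lt_or_ge ((m : ℤ) + δ) 0 with he | he
    · rw [grK_neg PY he, map_zero, smul_zero]
    obtain ⟨N, hN, hN'⟩ := hf m z hz
    obtain ⟨e, he'⟩ := Int.eq_ofNat_of_zero_le he
    rw [he', Int.toNat_natCast] at hN'
    rw [he', grK_rat PY hN hN', map_smul, frob_grK hKY hdY j hN', smul_comm, zpow_natCast]
  | zero => simp
  | add p q _ _ hp hq => rw [map_add, map_add, hp, hq, map_add, map_add, smul_add]
  | smul c p _ hp => rw [map_smul, map_smul, hp, map_smul, map_smul, smul_comm]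

theorem mul_smul_gr {P : PosStructure KX} (q : ℚ) (a b : KGr.Gr P) : a * (q • b) = q • (a * b) := mul_smul_comm q a b

theorem smul_mul_gr {P : PosStructure KX} (q : ℚ) (a b : KGr.Gr P) : (q • a) * b = q • (a * b) := smul_mul_assoc q a b

theorem rat_aux {A : Type*} [CommRing A] [Algebra ℚ A] {w q t : A} {r : ℚ} (hr : r ≠ 0) (h : w * q = 1)
    (hq : q = algebraMap ℚ A r + t) : w = r⁻¹ • (1 : A) - r⁻¹ • (w * t) := by
  have e : w * algebraMap ℚ A r = 1 - w * t := by rw [← h, hq]; ring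
  rw [Algebra.smul_def, Algebra.smul_def, ← mul_sub, ← e, mul_left_comm, ← map_mul, inv_mul_cancel₀ hr, map_one, mul_one]

theorem combine_aux {A : Type*} [CommRing A] [Algebra ℚ A] {U φU q C W p : A} {r s : ℚ} (hW : W * q = 1)
    (hU : r • (φU * q) = U * C) : s • (C * p * W) * U = (s * r) • (p * φU) := by
  have h1 : U * C * W = r • φU := by
    rw [← hU, smul_mul_assoc, mul_assoc, mul_comm q, hW, mul_one]
  rw [smul_mul_assoc, show C * p * W * U = p * (U * C * W) by ring, h1, mul_smul_comm, smul_smul]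

theorem v_aux {A : Type*} [CommRing A] [Algebra ℚ A] {j r : ℚ} {c w t : A} (h : w = r • (1 : A) - r • (w * t)) :
    j • (c * w) = (j * r) • c - (j * r) • ((c * t) * w) := by
  conv_lhs => rw [h]
  rw [mul_sub, mul_smul_comm, mul_smul_comm, mul_one, smul_sub, smul_smul, smul_smul, ← mul_assoc]
  rw [show c * w * t = c * t * w by ring]

include hdX hKX hKY hdY hf in
/-- Riemann–Roch, from the Adams relation `ψ f = f(j θ_C ψ θ_q⁻¹)`. -/
theorem chK_push_eq {j : ℕ} (hj : 2 ≤ j) {c n : ℕ} (hδ : δ = (c : ℤ) - n) {θC θq : KX}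
    (hC : θC - ((j ^ c : ℕ) : KX) ∈ gammaFiltration PX 1)
    (hq : θq - ((j ^ (n + 1) : ℕ) : KX) ∈ gammaFiltration PX 1)
    {wq : ℚ ⊗[ℤ] KX} (hwq : wq * ((1 : ℚ) ⊗ₜ[ℤ] θq) = 1)
    (hARR : ∀ x : KX, (1 : ℚ) ⊗ₜ[ℤ] adams PY j (f x) =
      f.toIntLinearMap.baseChange ℚ ((j : ℚ) • (((1 : ℚ) ⊗ₜ[ℤ] (θC * adams PX j x)) * wq)))
    {U : KGr.Gr PX} (hU1 : U - 1 ∈ degGE PX 1)
    (hU : ((j : ℚ) ^ c / (j : ℚ) ^ (n + 1)) • (frob hKX hdX j U * KGr.chK PX dX θq) = U * KGr.chK PX dX θC)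
    (x : KX) : KGr.chK PY dY (f x) = fG hf dX (KGr.chK PX dX x * U) := by
  have hj0 : (j : ℚ) ≠ 0 := by exact_mod_cast (show j ≠ 0 by omega)
  let T : ℚ ⊗[ℤ] KX →ₗ[ℚ] KGr.Gr PY :=
    ((chAlg hKY hdY).toLinearMap.comp (f.toIntLinearMap.baseChange ℚ)) -
      (fG hf dX).comp ((LinearMap.mulRight ℚ U).comp (chAlg hKX hdX).toLinearMap)
  have hT : ∀ x : KX, T ((1 : ℚ) ⊗ₜ[ℤ] x) = KGr.chK PY dY (f x) - fG hf dX (KGr.chK PX dX x * U) := fun x => by
    show chAlg hKY hdY (f.toIntLinearMap.baseChange ℚ ((1 : ℚ) ⊗ₜ[ℤ] x)) -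
      fG hf dX (chAlg hKX hdX ((1 : ℚ) ⊗ₜ[ℤ] x) * U) = _
    rw [LinearMap.baseChange_tmul, AddMonoidHom.coe_toIntLinearMap, chAlg_tmul, chAlg_tmul, map_one, map_one, one_mul, one_mul]
  suffices H : ∀ k m : ℕ, dX < m + k → ∀ x ∈ gammaFiltration PX m, T ((1 : ℚ) ⊗ₜ[ℤ] x) = 0 by
    have := H (dX + 1) 0 (by omega) x (by simp [gammaFiltration])
    rwa [hT, sub_eq_zero] at this
  intro k
  induction k with
  | zero =>
    intro m hm x hx
    have h0 := gammaFiltration_antitone PX (show dX + 1 ≤ m by omega) hx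
    rw [hdX, AddSubgroup.mem_bot] at h0
    rw [h0, TensorProduct.tmul_zero, map_zero]
  | succ k ih =>
    intro m hm x hx
    -- the relation
    have hW : chAlg hKX hdX wq * KGr.chK PX dX θq = 1 := by
      have := congrArg (chAlg hKX hdX) hwq
      rwa [map_mul, map_one, chAlg_tmul, map_one, one_mul] at this
    have hCψ : chAlg hKX hdX ((1 : ℚ) ⊗ₜ[ℤ] (θC * adams PX j x)) =
        KGr.chK PX dX θC * KGr.chK PX dX (adams PX j x) := by
      rw [chAlg_tmul, map_one, one_mul]; exact map_mul (chRing hKX hdX) _ _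
    set v := (j : ℚ) • (((1 : ℚ) ⊗ₜ[ℤ] (θC * adams PX j x)) * wq) with hv
    have hrel : frob hKY hdY j (T ((1 : ℚ) ⊗ₜ[ℤ] x)) = T v := by
      rw [hT, map_sub, frob_chK, fG_frob hf hdX hKX hKY hdY hj, map_mul, frob_chK]
      show _ = chAlg hKY hdY (f.toIntLinearMap.baseChange ℚ v) - fG hf dX (chAlg hKX hdX v * U)
      have e1 : chAlg hKY hdY (f.toIntLinearMap.baseChange ℚ v) = KGr.chK PY dY (adams PY j (f x)) := by
        rw [hv, ← hARR, chAlg_tmul, map_one, one_mul]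
      have e2 : chAlg hKX hdX v * U = ((j : ℚ) ^ δ) • (KGr.chK PX dX (adams PX j x) * frob hKX hdX j U) := by
        rw [hv, map_smul, map_mul, hCψ]
        refine (combine_aux (A := KGr.Gr PX) hW hU).trans (congrArg (· • _) ?_)
        rw [hδ, zpow_sub₀ hj0, zpow_natCast, zpow_natCast, pow_succ]
        field_simp
      rw [e1, e2, map_smul]
    -- kill the higher terms
    have hkill : ∀ z ∈ gammaFiltration PX (m + 1), ∀ r : ℚ ⊗[ℤ] KX, T (((1 : ℚ) ⊗ₜ[ℤ] z) * r) = 0 := by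
      intro z hz r
      induction r using TensorProduct.induction_on with
      | zero => rw [mul_zero, map_zero]
      | tmul q y =>
        rw [Algebra.TensorProduct.tmul_mul_tmul, one_mul, show q ⊗ₜ[ℤ] (z * y) = q • ((1 : ℚ) ⊗ₜ[ℤ] (z * y)) by
          rw [TensorProduct.smul_tmul', smul_eq_mul, mul_one], map_smul,
          ih (m + 1) (by omega) _ (by rw [mul_comm]; exact LambdaLib.mul_mem_left PX y hz), smul_zero]
      | add a b ha hb => rw [mul_add, map_add, ha, hb, add_zero]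
    have hψ : adams PX j x ∈ gammaFiltration PX m := adams_mem_gammaFiltration hKX j m hx
    have hz1 : θC * adams PX j x * (θq - ((j ^ (n + 1) : ℕ) : KX)) ∈ gammaFiltration PX (m + 1) := by
      rw [mul_assoc]
      exact LambdaLib.mul_mem_left PX _ (mul_mem_add PX hψ hq)
    have hz2 : θC * adams PX j x - ((j ^ (c + m) : ℕ) : KX) * x ∈ gammaFiltration PX (m + 1) := by
      rw [show θC * adams PX j x - ((j ^ (c + m) : ℕ) : KX) * x = (θC - ((j ^ c : ℕ) : KX)) * adams PX j x +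
        ((j ^ c : ℕ) : KX) * (adams PX j x - (j : KX) ^ m * x) by rw [pow_add]; push_cast; ring]
      exact add_mem (by rw [add_comm m 1]; exact mul_mem_add PX hC hψ)
        (LambdaLib.mul_mem_left PX _ (adams_sub_pow_mem hKX j m hx))
    have hwq' := rat_aux (A := ℚ ⊗[ℤ] KX) (r := (j : ℚ) ^ (n + 1))
      (t := (1 : ℚ) ⊗ₜ[ℤ] (θq - ((j ^ (n + 1) : ℕ) : KX))) (pow_ne_zero _ hj0) hwq (by
      rw [TensorProduct.tmul_sub, show algebraMap ℚ (ℚ ⊗[ℤ] KX) ((j : ℚ) ^ (n + 1)) =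
          (1 : ℚ) ⊗ₜ[ℤ] ((j ^ (n + 1) : ℕ) : KX) by
        rw [← Nat.cast_pow, map_natCast]
        exact (map_natCast (Algebra.TensorProduct.includeRight (R := ℤ) (A := ℚ) (B := KX)) _).symm,
        add_sub_cancel])
    have hval : T v = ((j : ℚ) * ((j : ℚ) ^ (n + 1))⁻¹ * (j : ℚ) ^ (c + m)) • T ((1 : ℚ) ⊗ₜ[ℤ] x) := by
      rw [hv, v_aux hwq', map_sub, map_smul, map_smul, Algebra.TensorProduct.tmul_mul_tmul, one_mul,
        hkill _ hz1, smul_zero, sub_zero]
      have h0 := hkill _ hz2 1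
      rw [mul_one, TensorProduct.tmul_sub, map_sub, sub_eq_zero] at h0
      rw [h0, ← nsmul_eq_mul (j ^ (c + m)) x, TensorProduct.tmul_smul, map_nsmul, ← Nat.cast_smul_eq_nsmul ℚ, smul_smul, Nat.cast_pow]
    -- the leading term
    have hlead : T ((1 : ℚ) ⊗ₜ[ℤ] x) ∈ degGE PY ((m : ℤ) + δ + 1) := by
      obtain ⟨N, hN, hN'⟩ := hf m x hx
      rw [hT, show KGr.chK PY dY (f x) - fG hf dX (KGr.chK PX dX x * U) =
        (KGr.chK PY dY (f x) - KGr.grK PY ((m : ℤ) + δ) (f x)) -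
          fG hf dX ((KGr.chK PX dX x - KGr.grK PX (m : ℤ) x) + KGr.chK PX dX x * (U - 1)) by
        rw [← fG_grK hf hdX hx, map_add, map_sub, mul_sub, map_sub, mul_one]; abel]
      refine sub_mem (chK_leading_rat hKY hdY hN hN') ?_
      have := fG_mem hf hdX (k := (m : ℤ) + 1) (w := (KGr.chK PX dX x - KGr.grK PX (m : ℤ) x) + KGr.chK PX dX x * (U - 1))
        (add_mem (chK_leading hKX hdX hx) (mul_mem_degGE ?_ hU1))
      · rwa [show (m : ℤ) + δ + 1 = (m : ℤ) + 1 + δ by ring]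
      · have := add_mem (degGE_anti (show (m : ℤ) ≤ (m : ℤ) + 1 by omega) (chK_leading hKX hdX hx))
          (grK_mem_degGE le_rfl hx)
        rwa [sub_add_cancel] at this
    refine eq_zero_of_frob hKY hdY hj hlead ?_
    rw [hrel, hval]
    congr 1
    rw [hδ, zpow_add₀ hj0, zpow_sub₀ hj0, zpow_natCast, zpow_natCast, zpow_natCast, pow_add, pow_succ]
    field_simp
    try ring

end Groth.Agent.KRR28
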