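import Groth.Agent.LambdaLib.KGrTodd

/-!
# Evaluating truncated power series at nilpotent elements; logarithms; the Todd series
-/

set_option autoImplicit false

universe u v

open Finset

noncomputable section

namespace Groth.Agent.KRR28

variable {Q : Type u} [CommRing Q] [Algebra ℚ Q] {a : Q} {M : ℕ}

theorem aeval_eq_zero_of_coeff (ha : a ^ (M + 1) = 0) {p : Polynomial ℚ} (h : ∀ i ≤ M, p.coeff i = 0) :
    Polynomial.aeval a p = 0 := by
  obtain ⟨r, hr⟩ := (Polynomial.X_pow_dvd_iff (f := p) (n := M + 1)).2 fun i hi => h i (by omega)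
  rw [hr, map_mul, map_pow, Polynomial.aeval_X, ha, zero_mul]

theorem aeval_congr (ha : a ^ (M + 1) = 0) {p q : Polynomial ℚ} (h : ∀ i ≤ M, p.coeff i = q.coeff i) :
    Polynomial.aeval a p = Polynomial.aeval a q := by
  rw [← sub_eq_zero, ← map_sub]
  exact aeval_eq_zero_of_coeff ha fun i hi => by rw [Polynomial.coeff_sub, h i hi, sub_self]

theorem mul_pow_eq_zero (ha : a ^ (M + 1) = 0) (r : Q) : (a * r) ^ (M + 1) = 0 := by rw [mul_pow, ha, zero_mul]

theorem aeval_pow_eq_zero (ha : a ^ (M + 1) = 0) {p : Polynomial ℚ} (h0 : p.coeff 0 = 0) :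
    Polynomial.aeval a p ^ (M + 1) = 0 := by
  obtain ⟨r, hr⟩ := Polynomial.X_dvd_iff.2 h0
  rw [hr, map_mul, Polynomial.aeval_X]
  exact mul_pow_eq_zero ha _

/-- The value of a power series at a nilpotent element. -/
def ev (a : Q) (M : ℕ) (f : PowerSeries ℚ) : Q := Polynomial.aeval a (PowerSeries.trunc (M + 1) f)

theorem ev_mul (ha : a ^ (M + 1) = 0) (f g : PowerSeries ℚ) : ev a M (f * g) = ev a M f * ev a M g := by
  rw [ev, ev, ev, ← map_mul]
  refine aeval_congr ha fun i hi => ?_
  have h := congrArg (fun p : Polynomial ℚ => p.coeff i) (PowerSeries.trunc_trunc_mul_trunc (n := M + 1) f g)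
  simp only [PowerSeries.coeff_trunc, if_pos (Nat.lt_succ_of_le hi)] at h
  rw [PowerSeries.coeff_trunc, if_pos (Nat.lt_succ_of_le hi), ← h, ← Polynomial.coe_mul, Polynomial.coeff_coe]

theorem ev_add (f g : PowerSeries ℚ) : ev a M (f + g) = ev a M f + ev a M g := by
  simp [ev]

theorem ev_one : ev a M 1 = 1 := by rw [ev, PowerSeries.trunc_one, map_one]

theorem ev_C (c : ℚ) : ev a M (PowerSeries.C c) = algebraMap ℚ Q c := by
  rw [ev, PowerSeries.trunc_C, Polynomial.aeval_C]

theorem ev_pow (ha : a ^ (M + 1) = 0) (f : PowerSeries ℚ) (k : ℕ) : ev a M (f ^ k) = ev a M f ^ k := by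
  induction k with
  | zero => rw [pow_zero, pow_zero, ev_one]
  | succ k ih => rw [pow_succ, pow_succ, ev_mul ha, ih]

theorem ev_sum {ι : Type*} (s : Finset ι) (f : ι → PowerSeries ℚ) :
    ev a M (∑ i ∈ s, f i) = ∑ i ∈ s, ev a M (f i) := by
  classical
  induction s using Finset.induction with
  | empty => simp [ev]
  | insert b s hb ih => rw [Finset.sum_insert hb, Finset.sum_insert hb, ev_add, ih]

theorem ev_rescale (c : ℚ) (f : PowerSeries ℚ) :
    ev a M (PowerSeries.rescale c f) = ev (algebraMap ℚ Q c * a) M f := by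
  simp only [ev, Polynomial.aeval_eq_sum_range' (show _ < M + 1 from PowerSeries.natDegree_trunc_lt _ M)]
  refine Finset.sum_congr rfl fun i hi => ?_
  rw [Finset.mem_range] at hi
  rw [PowerSeries.coeff_trunc, PowerSeries.coeff_trunc, if_pos hi, if_pos hi, PowerSeries.coeff_rescale,
    mul_pow, Algebra.smul_def, Algebra.smul_def, map_mul, map_pow]
  ring

theorem ev_exp (ha : a ^ (M + 1) = 0) : ev a M (PowerSeries.exp ℚ) = IsNilpotent.exp a := by
  rw [IsNilpotent.exp_eq_sum ha, ev, Polynomial.aeval_eq_sum_range' (PowerSeries.natDegree_trunc_lt _ M)]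
  refine Finset.sum_congr rfl fun i hi => ?_
  rw [Finset.mem_range] at hi
  rw [PowerSeries.coeff_trunc, if_pos hi, PowerSeries.coeff_exp]
  simp

theorem ev_bernoulli : ev a M (bernoulli'PowerSeries ℚ) = Polynomial.aeval a (KGr.toddTrunc M) := by
  rw [ev]
  congr 1
  ext i
  rw [PowerSeries.coeff_trunc, KGr.toddTrunc, Polynomial.finsetSum_coeff]
  simp only [Polynomial.coeff_C_mul_X_pow, Finset.sum_ite_eq, Finset.mem_range, bernoulli'PowerSeries,
    PowerSeries.coeff_mk]
  simp

theorem toddTrunc_congr {M' : ℕ} (ha : a ^ (M + 1) = 0) (h : M ≤ M') :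
    Polynomial.aeval a (KGr.toddTrunc M') = Polynomial.aeval a (KGr.toddTrunc M) := by
  refine aeval_congr ha fun i hi => ?_
  rw [KGr.toddTrunc, KGr.toddTrunc, Polynomial.finsetSum_coeff, Polynomial.finsetSum_coeff]
  simp only [Polynomial.coeff_C_mul_X_pow, Finset.sum_ite_eq, Finset.mem_range]
  rw [if_pos (by omega), if_pos (by omega)]

/-- A logarithm of a polynomial with constant term `1`, valid below degree `M + 1`. -/
theorem exists_logPoly (f : Polynomial ℚ) (hf : f.coeff 0 = 1) : ∀ M : ℕ, ∃ l : Polynomial ℚ, l.coeff 0 = 0 ∧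
    (Polynomial.X : Polynomial ℚ) ^ (M + 1) ∣
      ∑ i ∈ range (M + 1), Polynomial.C (1 / (i.factorial : ℚ)) * l ^ i - f := by
  intro M
  induction M with
  | zero =>
    refine ⟨0, by simp, ?_⟩
    rw [zero_add, pow_one, Polynomial.X_dvd_iff]
    simp [hf]
  | succ M ih =>
    obtain ⟨l, hl, hdvd⟩ := ih
    set E : Polynomial ℚ → Polynomial ℚ := fun l =>
      ∑ i ∈ range (M + 2), Polynomial.C (1 / (i.factorial : ℚ)) * l ^ i with hE
    set c := (f - E l).coeff (M + 1) with hc
    set t : Polynomial ℚ := Polynomial.C c * Polynomial.X ^ (M + 1) with ht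
    refine ⟨l + t, by simp [hl, ht], ?_⟩
    change Polynomial.X ^ (M + 2) ∣ E (l + t) - f
    have hXl : (Polynomial.X : Polynomial ℚ) ∣ l := Polynomial.X_dvd_iff.2 hl
    have ht1 : (Polynomial.X : Polynomial ℚ) ^ (M + 1) ∣ t := dvd_mul_left _ _
    -- the first-order change
    have hpow : ∀ i, 2 ≤ i → (Polynomial.X : Polynomial ℚ) ^ (M + 2) ∣ (l + t) ^ i - l ^ i := fun i hi => by
      obtain ⟨k, rfl⟩ : ∃ k, i = k + 2 := ⟨i - 2, by omega⟩
      obtain ⟨g, hg⟩ : Polynomial.X ∣ ∑ j ∈ range (k + 2), (l + t) ^ j * l ^ (k + 2 - 1 - j) := by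
        refine Finset.dvd_sum fun j hj => ?_
        rw [Finset.mem_range] at hj
        rcases Nat.eq_zero_or_pos j with rfl | hj'
        · exact dvd_mul_of_dvd_right (dvd_pow hXl (by omega)) _
        · exact dvd_mul_of_dvd_left (dvd_pow (dvd_add hXl ((dvd_pow_self _ (Nat.succ_ne_zero M)).trans ht1))
            (by omega)) _
      rw [← geom_sum₂_mul, hg, add_sub_cancel_left, pow_succ' _ (M + 1), mul_assoc]
      exact mul_dvd_mul_left _ (dvd_mul_of_dvd_right ht1 _)
    have hdiff : Polynomial.X ^ (M + 2) ∣ E (l + t) - E l - t := by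
      rw [show E (l + t) - E l - t = ∑ i ∈ range (M + 2),
          (Polynomial.C (1 / (i.factorial : ℚ)) * ((l + t) ^ i - l ^ i) - if i = 1 then t else 0) by
        rw [Finset.sum_sub_distrib, Finset.sum_ite_eq', if_pos (Finset.mem_range.2 (by omega))]
        simp only [hE, mul_sub, Finset.sum_sub_distrib]]
      refine Finset.dvd_sum fun i _ => ?_
      rcases i with _ | _ | i
      · simp
      · simp
      · rw [if_neg (by omega), sub_zero]
        exact dvd_mul_of_dvd_right (hpow _ (by omega)) _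
    have hprev : (Polynomial.X : Polynomial ℚ) ^ (M + 1) ∣ E l - f := by
      rw [hE]
      show _ ∣ ∑ i ∈ range (M + 1 + 1), _ - f
      rw [Finset.sum_range_succ, show ∀ A B : Polynomial ℚ, A + B - f = (A - f) + B from fun A B => by ring]
      exact dvd_add hdvd (dvd_mul_of_dvd_right (pow_dvd_pow_of_dvd hXl _) _)
    have hlast : Polynomial.X ^ (M + 2) ∣ E l - f + t := by
      rw [Polynomial.X_pow_dvd_iff]
      intro i hi
      rcases (Nat.lt_succ_iff.1 hi).lt_or_eq with h | rfl
      · rw [Polynomial.coeff_add, Polynomial.X_pow_dvd_iff.1 hprev i h, ht, Polynomial.coeff_C_mul_X_pow,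
          if_neg (by omega), add_zero]
      · rw [ht, Polynomial.coeff_add, Polynomial.coeff_C_mul_X_pow, if_pos rfl, hc, ← Polynomial.coeff_add]
        simp
    have := dvd_add hdiff hlast
    rwa [show E (l + t) - E l - t + (E l - f + t) = E (l + t) - f by ring] at this

/-- Evaluating a logarithm. -/
theorem exp_of_dvd {f l : Polynomial ℚ} (hl : l.coeff 0 = 0) (hdvd : (Polynomial.X : Polynomial ℚ) ^ (M + 1) ∣
    ∑ i ∈ range (M + 1), Polynomial.C (1 / (i.factorial : ℚ)) * l ^ i - f) (ha : a ^ (M + 1) = 0) :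
    IsNilpotent.exp (Polynomial.aeval a l) = Polynomial.aeval a f := by
  obtain ⟨r, hr⟩ := hdvd
  have h := congrArg (Polynomial.aeval a) hr
  rw [map_sub, map_mul, map_pow, Polynomial.aeval_X, ha, zero_mul, sub_eq_zero, map_sum] at h
  rw [← h, IsNilpotent.exp_eq_sum (aeval_pow_eq_zero ha hl)]
  refine Finset.sum_congr rfl fun i _ => ?_
  rw [map_mul, map_pow, Polynomial.aeval_C, Algebra.smul_def, one_div]

theorem todd_rescale (j : ℕ) :
    PowerSeries.rescale (-(j : ℚ)) (bernoulli'PowerSeries ℚ) * ∑ k ∈ range j, PowerSeries.exp ℚ ^ k =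
      PowerSeries.C (j : ℚ) * PowerSeries.rescale (-1 : ℚ) (bernoulli'PowerSeries ℚ) := by
  have h : ∀ c : ℚ, PowerSeries.rescale (-c) (bernoulli'PowerSeries ℚ) *
      (1 - PowerSeries.rescale c (PowerSeries.exp ℚ)) = PowerSeries.C (-c) * PowerSeries.X := fun c => by
    have h0 := congrArg (PowerSeries.rescale (-c)) Groth.Agent.LambdaLib.todd_series_identity
    rwa [map_mul, map_sub, map_one, PowerSeries.evalNegHom, PowerSeries.rescale_rescale, neg_mul_neg, one_mul,
      PowerSeries.rescale_X] at h0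
  have h1 := h 1
  have hj := h (j : ℚ)
  rw [PowerSeries.rescale_one, RingHom.id_apply] at h1
  rw [← PowerSeries.exp_pow_eq_rescale_exp, ← mul_neg_geom_sum] at hj
  have hne : (1 : PowerSeries ℚ) - PowerSeries.exp ℚ ≠ 0 := by
    intro h0
    simpa [PowerSeries.coeff_exp, PowerSeries.coeff_one] using congrArg (PowerSeries.coeff 1) h0
  refine mul_left_cancel₀ hne ?_
  rw [map_neg, map_one] at h1
  rw [map_neg] at hj
  linear_combination hj - PowerSeries.C (j : ℚ) * h1

/-- `β(-j a) (1 + e^a + ⋯ + e^{(j-1)a}) = j β(-a)`. -/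
theorem todd_mul_geom (ha : a ^ (M + 1) = 0) (j : ℕ) :
    Polynomial.aeval (-((j : Q) * a)) (KGr.toddTrunc M) * ∑ k ∈ range j, IsNilpotent.exp a ^ k =
      (j : Q) * Polynomial.aeval (-a) (KGr.toddTrunc M) := by
  have h := congrArg (ev a M) (todd_rescale j)
  rw [ev_mul ha, ev_mul ha, ev_rescale, ev_rescale, ev_sum, ev_C, ev_bernoulli, ev_bernoulli] at h
  simp only [ev_pow ha, ev_exp ha] at h
  simpa [map_neg, neg_mul] using h

end Groth.Agent.KRR28
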