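import Groth.Agent.KRR28.GrFrob
import Groth.Agent.KRR28.PowEv
import Groth.Agent.KRR28.Ann

/-!
# The Todd class as an exponential, and its behaviour under `ψ^j`
-/

set_option autoImplicit false
set_option linter.style.haveILetI false
set_option backward.isDefEq.respectTransparency false
set_option synthInstance.maxHeartbeats 100000
set_option maxHeartbeats 800000

universe u

open Finset LambdaRing MvPolynomial Groth.Agent.LambdaLib
open scoped TensorProduct

noncomputable section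

namespace Groth.Agent.KRR28

theorem toddTrunc_coeff_zero (d : ℕ) : (KGr.toddTrunc d).coeff 0 = 1 := by
  rw [KGr.toddTrunc, Polynomial.finsetSum_coeff]
  simp only [Polynomial.coeff_C_mul_X_pow, Finset.sum_ite_eq, Finset.mem_range]
  simp

theorem exp_finsum {Q : Type*} [CommRing Q] [Algebra ℚ Q] {ι : Type*} (t : Finset ι) {x : ι → Q}
    (hx : ∀ i ∈ t, IsNilpotent (x i)) :
    IsNilpotent.exp (∑ i ∈ t, x i) = ∏ i ∈ t, IsNilpotent.exp (x i) ∧ IsNilpotent (∑ i ∈ t, x i) := by
  classical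
  induction t using Finset.induction with
  | empty => simp
  | insert a t ha ih =>
    obtain ⟨h1, h2⟩ := ih fun i hi => hx i (Finset.mem_insert_of_mem hi)
    have h3 := hx a (Finset.mem_insert_self a t)
    rw [Finset.sum_insert ha, Finset.prod_insert ha]
    exact ⟨by rw [IsNilpotent.exp_add_of_commute (Commute.all _ _) h3 h2, h1],
      Commute.isNilpotent_add (Commute.all _ _) h3 h2⟩

theorem exp_natCast_mul {Q : Type u} [CommRing Q] [Algebra ℚ Q] {a : Q} (ha : IsNilpotent a) (k : ℕ) :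
    IsNilpotent.exp ((k : Q) * a) = IsNilpotent.exp a ^ k := by
  induction k with
  | zero => simp
  | succ k ih =>
    rw [Nat.cast_succ, add_one_mul, IsNilpotent.exp_add_of_commute (Commute.all _ _)
      ((Commute.all _ _).isNilpotent_mul_left ha) ha, ih, pow_succ]

theorem neg_pow_zero {R : Type*} [CommRing R] {a : R} {N : ℕ} (h : a ^ N = 0) : (-a) ^ N = 0 := by
  rw [neg_pow, h, mul_zero]

theorem neg_mul_pow_zero {R : Type*} [CommRing R] {a c : R} {N : ℕ} (h : a ^ N = 0) : (-(c * a)) ^ N = 0 :=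
  neg_pow_zero (by rw [mul_pow, h, mul_zero])

theorem neg_mul_pow {R : Type*} [CommRing R] (A a c : R) (k : ℕ) :
    A * (c ^ k * ((-1) ^ k * a ^ k)) = A * (-(c * a)) ^ k := by
  rw [neg_pow (c * a), mul_pow]; ring

theorem exp_add' {Q : Type u} [CommRing Q] [Algebra ℚ Q] {a b : Q} (ha : IsNilpotent a) (hb : IsNilpotent b) :
    IsNilpotent.exp (a + b) = IsNilpotent.exp a * IsNilpotent.exp b :=
  IsNilpotent.exp_add_of_commute (Commute.all a b) ha hb

theorem smul_def' {Q : Type*} [CommRing Q] [Algebra ℚ Q] (q : ℚ) (v : Q) :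
    q • v = algebraMap ℚ Q q * v := Algebra.smul_def q v

theorem tens_smul_def {L : Type u} [CommRing L] (q : ℚ) (v : ℚ ⊗[ℤ] L) :
    q • v = algebraMap ℚ (ℚ ⊗[ℤ] L) q * v := Algebra.smul_def q v

theorem aeval_eq_sum_shift {Q : Type*} [CommRing Q] [Algebra ℚ Q] {M : ℕ} {a : Q} (ha : a ^ (M + 1) = 0)
    {p : Polynomial ℚ} (h0 : p.coeff 0 = 0) :
    Polynomial.aeval a p = ∑ m ∈ range M, algebraMap ℚ Q (p.coeff (m + 1)) * a ^ (m + 1) := by
  rw [aeval_congr ha (q := ∑ m ∈ range M, Polynomial.C (p.coeff (m + 1)) * Polynomial.X ^ (m + 1))]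
  · simp [map_sum]
  · intro i hi
    rw [Polynomial.finsetSum_coeff]
    simp only [Polynomial.coeff_C_mul_X_pow]
    rcases i with _ | i
    · simp [h0]
    · simp only [Nat.add_left_inj, Finset.sum_ite_eq, Finset.mem_range]
      rw [if_pos (by omega)]

/-- The coefficients of `log β`, valid up to degree `M`. -/
def logTodd (M : ℕ) : Polynomial ℚ := (exists_logPoly (KGr.toddTrunc M) (toddTrunc_coeff_zero M) M).choose

theorem logTodd_zero (M : ℕ) : (logTodd M).coeff 0 = 0 :=
  (exists_logPoly (KGr.toddTrunc M) (toddTrunc_coeff_zero M) M).choose_spec.1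

theorem exp_logTodd (M : ℕ) {Q : Type*} [CommRing Q] [Algebra ℚ Q] {a : Q} (ha : a ^ (M + 1) = 0) :
    IsNilpotent.exp (Polynomial.aeval a (logTodd M)) = Polynomial.aeval a (KGr.toddTrunc M) :=
  exp_of_dvd (logTodd_zero M) (exists_logPoly (KGr.toddTrunc M) (toddTrunc_coeff_zero M) M).choose_spec.2 ha

variable {K : Type u} [CommRing K] [LambdaOps K] {P : PosStructure K}

/-- The logarithm of the Todd class. -/
def tdLog (P : PosStructure K) (M : ℕ) (x : K) : KGr.Gr P :=
  ∑ m ∈ range M, algebraMap ℚ (KGr.Gr P) ((logTodd M).coeff (m + 1)) * (grTarget P).gpw (m + 1) x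

theorem tdLog_mem (M : ℕ) (x : K) : tdLog P M x ∈ degGE P 1 :=
  Submodule.sum_mem _ fun m _ => by
    rw [← gr_smul_def]
    exact Submodule.smul_mem _ _ (degGE_anti (by push_cast; omega) (gpw_mem_degGE (m + 1) x))

theorem tdLog_add (M : ℕ) (x y : K) : tdLog P M (x + y) = tdLog P M x + tdLog P M y := by
  simp only [tdLog, GrTarget.gpw_add, mul_add, Finset.sum_add_distrib]

theorem tdLog_one (M : ℕ) : tdLog P M (1 : K) = 0 :=
  Finset.sum_eq_zero fun m _ => by
    rw [← (GrTarget.isCls_pw (G := grTarget P) (m + 1) (1 : K)).2, pw_one, if_neg (Nat.succ_ne_zero m),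
      GrTarget.cl_zero, mul_zero]

variable {d : ℕ} (hd : gammaFiltration P (d + 1) = ⊥)

include hd in
theorem tdLog_pow (M : ℕ) (x : K) : tdLog P M x ^ (d + 1) = 0 := by
  have h : ∀ k : ℕ, tdLog P M x ^ k ∈ degGE P (k : ℤ) := fun k => by
    induction k with
    | zero => rw [pow_zero]; exact one_mem_degGE
    | succ k ih => rw [pow_succ, Nat.cast_succ]; exact mul_mem_degGE ih (tdLog_mem M x)
  have := h (d + 1)
  rwa [degGE_eq_bot hd (by push_cast; omega), Submodule.mem_bot] at this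

include hd in
theorem isNilpotent_tdLog (M : ℕ) (x : K) : IsNilpotent (tdLog P M x) := ⟨_, tdLog_pow hd M x⟩

include hd in
theorem tdK_eq_exp {M : ℕ} (hM : d ≤ M) (x : K) : KGr.tdK P d x = IsNilpotent.exp (tdLog P M x) := by
  classical
  set G := grTarget P with hG
  set x' : K := x + (((d : ℤ) - P.aug x : ℤ) : K) with hx'
  have haug : P.aug x' = (d : ℤ) := by rw [hx', map_add, map_intCast]; simp
  have hgam : ∀ i, gamma i (x' - (P.aug x' : K)) = gamma i (x - (P.aug x : K)) := fun i => by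
    congr 1; rw [haug, hx']; push_cast; ring
  have hchern : ∀ i, G.chern i x' = G.chern i x := fun i => by
    rw [GrTarget.chern, GrTarget.chern, hgam]
  set c : Fin d → KGr.Gr P := fun k => G.chern ((k : ℕ) + 1) x' with hc
  set S : MvPolynomial (Fin d) ℚ :=
    ∑ m ∈ range M, MvPolynomial.C ((logTodd M).coeff (m + 1)) * psiS (genS ℚ d id) (m + 1) with hS
  have hpsi : ∀ m, aeval c (psiS (genS ℚ d id) (m + 1)) = G.gpw (m + 1) x := by
    intro m
    rw [GrTarget.gpw, if_neg (Nat.succ_ne_zero m)]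
    refine (map_psiS (R := MvPolynomial (Fin d) ℚ) (S := KGr.Gr P) (aeval (R := ℚ) c).toRingHom (constantCoeff_genS d id) (m + 1)).trans ?_
    congr 1
    ext i
    rw [PowerSeries.coeff_map, genS, PowerSeries.coeff_mk, GrTarget.chernSer, PowerSeries.coeff_mk]
    rcases i with _ | i
    · rw [if_pos rfl, map_one, GrTarget.chern_zero]
    · rw [if_neg (Nat.succ_ne_zero i)]
      split_ifs with h
      · show aeval c (X _) = _
        rw [aeval_X]
        exact hchern _
      · rw [map_zero, GrTarget.chern]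
        have h1 : gamma (i + 1) (x - (P.aug x : K)) = 0 := by
          have := gamma_mem P (n := d + 1) (k := i + 1) (x := x - (P.aug x : K)) (by simp) (by omega)
          rwa [hd, AddSubgroup.mem_bot] at this
        rw [h1, GrTarget.cl_zero]
  have hSx : aeval c S = tdLog P M x := by
    rw [hS, map_sum, tdLog]
    exact Finset.sum_congr rfl fun m _ => by rw [map_mul, aeval_C, hpsi]
  set Φ : MvPolynomial (Fin d) ℚ :=
    KGr.toddPoly d - ∑ k ∈ range (d + 1), MvPolynomial.C (1 / (k.factorial : ℚ)) * S ^ k with hΦ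
  have hzero : aeval c Φ = 0 := by
    refine GrTarget.aeval_chern_eq_zero (G := G) hd haug ?_
    rw [← Ideal.Quotient.eq_zero_iff_mem, ← Ideal.Quotient.mkₐ_eq_mk ℚ]
    set q := Ideal.Quotient.mkₐ ℚ (idealOfVars (Fin d) ℚ ^ (d + 1)) with hq
    have hpow : ∀ p ∈ idealOfVars (Fin d) ℚ, q p ^ (d + 1) = 0 := fun p hp => by
      rw [← map_pow, hq, Ideal.Quotient.mkₐ_eq_mk, Ideal.Quotient.eq_zero_iff_mem]; exact Ideal.pow_mem_pow hp _
    set ι : Fin d → MvPolynomial (Fin d) ℚ ⧸ idealOfVars (Fin d) ℚ ^ (d + 1) := fun i => q (X i) with hι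
    have hι1 : ∀ i, ι i ^ (d + 1) = 0 := fun i => hpow _ (Ideal.subset_span ⟨i, rfl⟩)
    have hιM : ∀ i, ι i ^ (M + 1) = 0 := fun i => pow_eq_zero_of_le (by omega) (hι1 i)
    have hnil : ∀ i, IsNilpotent (Polynomial.aeval (ι i) (logTodd M)) := fun i =>
      ⟨M + 1, aeval_pow_eq_zero (hιM i) (logTodd_zero M)⟩
    set T : MvPolynomial (Fin d) ℚ →ₐ[ℚ] MvPolynomial (Fin d) ℚ :=
      aeval (fun k : Fin d => esymm (Fin d) ℚ ((k : ℕ) + 1)) with hT
    have hTp : ∀ m, T (psiS (genS ℚ d id) (m + 1)) = ∑ i : Fin d, (X i : MvPolynomial (Fin d) ℚ) ^ (m + 1) := by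
      intro m
      set s := (univ : Finset (Fin d)).val.map fun a => (X a : MvPolynomial (Fin d) ℚ) with hs
      refine (map_psiS T.toRingHom (constantCoeff_genS d id) (m + 1)).trans ?_
      rw [show PowerSeries.map T.toRingHom (genS ℚ d id) = rootSeries s from ?_,
        psiS_rootSeries _ (Nat.succ_le_succ (Nat.zero_le m)), hs, Multiset.map_map]
      · rfl
      refine PowerSeries.ext fun i => ?_
      rw [PowerSeries.coeff_map, genS, PowerSeries.coeff_mk, coeff_rootSeries, hs, ← esymm_eq_multiset_esymm]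
      rcases i with _ | i
      · simp
      · rw [if_neg (Nat.succ_ne_zero i)]
        split_ifs with h
        · show T (X _) = _
          rw [hT, aeval_X]
          rfl
        · rw [map_zero, MvPolynomial.esymm, Finset.powersetCard_eq_empty.mpr (by simp; omega), Finset.sum_empty]
    have hTS : q (T S) = ∑ i : Fin d, Polynomial.aeval (ι i) (logTodd M) := by
      rw [Finset.sum_congr rfl fun i _ => aeval_eq_sum_shift (hιM i) (logTodd_zero M), Finset.sum_comm, hS,
        map_sum, map_sum]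
      refine Finset.sum_congr rfl fun m _ => ?_
      rw [map_mul, hT, aeval_C, ← hT, hTp, map_mul, AlgHom.commutes, map_sum, Finset.mul_sum]
      simp only [map_pow, hι]
    have hTS0 : q (T S) ^ (d + 1) = 0 := by
      refine hpow _ ?_
      rw [hS, map_sum]
      refine Ideal.sum_mem _ fun m _ => ?_
      rw [map_mul, hTp]
      exact Ideal.mul_mem_left _ _ (Ideal.sum_mem _ fun i _ =>
        Ideal.pow_mem_of_mem _ (Ideal.subset_span (Set.mem_range_self i)) _ (Nat.succ_pos m))
    rw [hΦ, map_sub, map_sub, map_sum, map_sum, sub_eq_zero]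
    have h1 : q (T (KGr.toddPoly d)) = ∏ i, Polynomial.aeval (ι i) (KGr.toddTrunc d) := by
      rw [← AlgHom.comp_apply, hT, comp_aeval, ← toddPoly_roots]
      refine congrArg (fun g => aeval g (KGr.toddPoly d)) (funext fun k => ?_)
      rw [Finset.esymm_map_val, esymm, map_sum]
      simp [hι, map_prod]
    rw [h1, Finset.prod_congr rfl fun i _ =>
        ((toddTrunc_congr (hι1 i) hM).symm.trans (exp_logTodd M (hιM i)).symm),
      ]
    refine ((exp_finsum (Q := MvPolynomial (Fin d) ℚ ⧸ idealOfVars (Fin d) ℚ ^ (d + 1)) univ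
      fun i _ => hnil i).1.symm).trans ?_
    rw [← hTS, IsNilpotent.exp_eq_sum hTS0]
    refine Finset.sum_congr rfl fun k _ => ?_
    rw [map_mul, map_mul, hT, aeval_C, AlgHom.commutes, ← hT, map_pow, map_pow, one_div]
    exact smul_def' (Q := MvPolynomial (Fin d) ℚ ⧸ idealOfVars (Fin d) ℚ ^ (d + 1)) _ _
  rw [hΦ, map_sub, map_sum, sub_eq_zero] at hzero
  calc KGr.tdK P d x = aeval c (KGr.toddPoly d) := by
        rw [kgr_tdK_eq, GrTarget.tdK]; exact congrArg (fun g => aeval g (KGr.toddPoly d)) (funext fun i => (hchern _).symm)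
    _ = ∑ k ∈ range (d + 1), aeval c (MvPolynomial.C (1 / (k.factorial : ℚ)) * S ^ k) := hzero
    _ = IsNilpotent.exp (tdLog P M x) := by
        rw [IsNilpotent.exp_eq_sum (tdLog_pow hd M x)]
        refine Finset.sum_congr rfl fun k _ => ?_
        rw [map_mul, aeval_C, map_pow, hSx, gr_smul_def, one_div]

include hd in
theorem tdK_add (x y : K) : KGr.tdK P d (x + y) = KGr.tdK P d x * KGr.tdK P d y := by
  simp only [tdK_eq_exp hd le_rfl, tdLog_add]
  exact exp_add' (Q := KGr.Gr P) (isNilpotent_tdLog hd _ x) (isNilpotent_tdLog hd _ y)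

include hd in
theorem tdK_one : KGr.tdK P d (1 : K) = 1 := by
  rw [tdK_eq_exp hd le_rfl, tdLog_one, IsNilpotent.exp_zero]

include hd in
theorem isUnit_tdK (x : K) : IsUnit (KGr.tdK P d x) := by
  rw [tdK_eq_exp hd le_rfl]; exact IsNilpotent.isUnit_exp (isNilpotent_tdLog hd _ x)

include hd in
theorem tdK_sub_one_mem (x : K) : KGr.tdK P d x - 1 ∈ degGE P 1 := by
  rw [tdK_eq_exp hd le_rfl]; exact exp_sub_one_mem (tdLog_mem _ x) (isNilpotent_tdLog hd _ x)

variable (hK : HasSplitting K P)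

theorem frob_tdLog (j M : ℕ) (x : K) : frob hK hd j (tdLog P M x) = tdLog P M (adams P j x) := by
  rw [tdLog, map_sum, tdLog]
  refine Finset.sum_congr rfl fun m _ => ?_
  rw [map_mul, AlgHom.commutes, frob_gpw, gpw_adams hK, gr_smul_def, map_pow, map_natCast]

theorem frob_tdK (j : ℕ) (x : K) : frob hK hd j (KGr.tdK P d x) = KGr.tdK P d (adams P j x) := by
  rw [tdK_eq_exp hd le_rfl, tdK_eq_exp hd le_rfl, IsNilpotent.map_exp (isNilpotent_tdLog hd _ x), frob_tdLog]

/-! ### roots -/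

theorem mul_pow_eq_zero_left {Q : Type u} [CommRing Q] {a r : Q} {N : ℕ} (ha : a ^ N = 0) : (r * a) ^ N = 0 := by
  rw [mul_pow, ha, mul_zero]

theorem vandermonde_zero {V : Type u} [AddCommGroup V] [Module ℚ V] {N : ℕ} (w : Fin N → V)
    (h : ∀ i : Fin N, ∑ m : Fin N, ((i : ℚ) ^ (m : ℕ)) • w m = 0) : w = 0 := by
  classical
  set A : Matrix (Fin N) (Fin N) ℚ := Matrix.vandermonde fun i : Fin N => (i : ℚ) with hA
  have hinj : Function.Injective fun i : Fin N => (i : ℚ) := fun a b e => Fin.ext (by exact_mod_cast (show ((a : ℕ) : ℚ) = b from e))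
  have hu : IsUnit A.det := isUnit_iff_ne_zero.2 (Matrix.det_vandermonde_ne_zero_iff.2 hinj)
  funext k
  have e : ∑ i : Fin N, A⁻¹ k i • ∑ m : Fin N, A i m • w m = w k := by
    simp only [Finset.smul_sum, smul_smul]
    rw [Finset.sum_comm]
    simp only [← Finset.sum_smul, ← Matrix.mul_apply, Matrix.nonsing_inv_mul A hu, Matrix.one_apply, ite_smul,
      one_smul, zero_smul, Finset.sum_ite_eq, Finset.mem_univ, if_true]
  rw [← e]
  simp only [hA, Matrix.vandermonde_apply, h, smul_zero, Finset.sum_const_zero, Pi.zero_apply]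

variable {L : Type u} [CommRing L] [LambdaOps L] {PL : PosStructure L}

/-- `ℚ ⊗ f` after the inverse Chern character. -/
def toRoots (f : K →+* L) : KGr.Gr P →ₐ[ℚ] ℚ ⊗[ℤ] L :=
  (Algebra.TensorProduct.map (AlgHom.id ℚ ℚ) f.toIntAlgHom).comp (chInv hK hd)

theorem toRoots_injective {f : K →+* L} (hf : Function.Injective f) :
    Function.Injective (toRoots hd hK f) := by
  have h : Function.Injective (Algebra.TensorProduct.map (AlgHom.id ℚ ℚ) f.toIntAlgHom) := by
    have := Module.Flat.lTensor_preserves_injective_linearMap (M := ℚ) f.toIntAlgHom.toLinearMap hf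
    intro a b hab
    exact this hab
  exact h.comp (chInv_injective hK hd)

theorem toRoots_chK (f : K →+* L) (x : K) : toRoots hd hK f (KGr.chK P d x) = (1 : ℚ) ⊗ₜ[ℤ] f x := by
  show Algebra.TensorProduct.map (AlgHom.id ℚ ℚ) f.toIntAlgHom (chInv hK hd (KGr.chK P d x)) = _
  rw [chInv_chK]; rfl

theorem gpw_eq_zero_of_gt {m : ℕ} (hm : d < m) (x : K) (hd : gammaFiltration P (d + 1) = ⊥) :
    (grTarget P).gpw m x = 0 := by
  have h := GrTarget.isCls_pw (G := grTarget P) m x
  have h0 := gammaFiltration_antitone P (show d + 1 ≤ m by omega) h.1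
  rw [hd, AddSubgroup.mem_bot] at h0
  rw [← h.2, h0, GrTarget.cl_zero]

/-- The power sums are those of the logarithms of the roots. -/
theorem toRoots_gpw {f : K →+* L} (hf : IsExtension P PL f) {n M : ℕ} (hM : d ≤ M) {e : K} (y : Fin n → L)
    (hy : ∀ i, PL.IsLine (y i)) (hsum : ∑ i, y i = f e) (a : Fin n → ℚ ⊗[ℤ] L) (ha : ∀ i, a i ^ (M + 1) = 0)
    (hexp : ∀ i, IsNilpotent.exp (a i) = (1 : ℚ) ⊗ₜ[ℤ] y i) {m : ℕ} (hm : m ≤ M) :
    toRoots hd hK f ((grTarget P).gpw m e) = ∑ i, a i ^ m := by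
  have H := vandermonde_zero (N := M + 1)
    (fun m : Fin (M + 1) => ((1 : ℚ) / (m : ℕ).factorial) • (toRoots hd hK f ((grTarget P).gpw m e) - ∑ i, a i ^ (m : ℕ)))
    (fun k => ?_)
  · have := congrFun H ⟨m, Nat.lt_succ_of_le hm⟩
    rw [Pi.zero_apply, smul_eq_zero_iff_right (by positivity), sub_eq_zero] at this
    exact this
  have hL : toRoots hd hK f (KGr.chK P d (adams P (k : ℕ) e)) =
      ∑ m : Fin (M + 1), ((k : ℚ) ^ (m : ℕ)) • ((1 : ℚ) / (m : ℕ).factorial) • toRoots hd hK f ((grTarget P).gpw m e) := by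
    rw [kgr_chK_eq, GrTarget.chK_eq,
      Finset.sum_subset (Finset.range_mono (show d + 1 ≤ M + 1 by omega)) (fun m _ hm => by
        rw [gpw_eq_zero_of_gt (by simpa using hm) _ hd, mul_zero]),
      ← Fin.sum_univ_eq_sum_range (fun m => algebraMap ℚ (KGr.Gr P) (1 / (m.factorial : ℚ)) *
        (grTarget P).gpw m (adams P (k : ℕ) e)), map_sum]
    refine Finset.sum_congr rfl fun m _ => ?_
    rw [map_mul, AlgHom.commutes, gpw_adams hK, map_mul, map_pow, map_natCast, tens_smul_def, tens_smul_def,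
      map_pow, map_natCast]
    exact mul_left_comm _ _ _
  have hR : (1 : ℚ) ⊗ₜ[ℤ] f (adams P (k : ℕ) e) =
      ∑ m : Fin (M + 1), ((k : ℚ) ^ (m : ℕ)) • ((1 : ℚ) / (m : ℕ).factorial) • ∑ i, a i ^ (m : ℕ) := by
    rw [adams_map hf, ← hsum, ← adamsHom_apply, map_sum, TensorProduct.tmul_sum]
    simp only [Finset.smul_sum]
    rw [Finset.sum_comm]
    refine Finset.sum_congr rfl fun i _ => ?_
    rw [adamsHom_apply, adams_of_isLine PL (hy i), ← one_pow (k : ℕ), ← Algebra.TensorProduct.tmul_pow, ← hexp,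
      one_pow, ← exp_natCast_mul ⟨_, ha i⟩,
      IsNilpotent.exp_eq_sum (mul_pow_eq_zero_left (ha i)), ← Fin.sum_univ_eq_sum_range]
    refine Finset.sum_congr rfl fun m _ => ?_
    rw [mul_pow, tens_smul_def, tens_smul_def, tens_smul_def, map_pow, map_natCast, one_div]
    exact mul_left_comm _ _ _
  have := toRoots_chK hd hK f (adams P (k : ℕ) e)
  rw [hL, hR] at this
  simp only [smul_sub, Finset.sum_sub_distrib, sub_eq_zero]
  exact this

/-- Power sums of an element with inverse roots. -/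
theorem gpw_dual {f : K →+* L} (hf : IsExtension P PL f) {n : ℕ} {e e' : K} (y z : Fin n → L)
    (hy : ∀ i, PL.IsLine (y i)) (hz : ∀ i, PL.IsLine (z i)) (hzy : ∀ i, z i * y i = 1) (hsy : ∑ i, y i = f e)
    (hsz : ∑ i, z i = f e') {N : ℕ} (hnil : ∀ i, (y i - 1) ^ N = 0) (m : ℕ) :
    (grTarget P).gpw m e' = (-1) ^ m * (grTarget P).gpw m e := by
  classical
  set W : Polynomial ℤ := ∑ k ∈ range N, (-Polynomial.X) ^ k with hW
  set Q : Polynomial ℤ := (-1) ^ (m + 1) * (W * ∑ k ∈ range m, W ^ k) with hQ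
  set w : K := ∑ k ∈ range (Q.natDegree + 1), (Q.coeff k : K) * pw P (m + 1 + k) e with hw
  have hwF : w ∈ gammaFiltration P (m + 1) := sum_mem fun k _ =>
    LambdaLib.mul_mem_left P _ (gammaFiltration_antitone P (by omega) (GrTarget.isCls_pw (G := grTarget P) (m + 1 + k) e).1)
  have hfsum : ∀ (r : ℕ) {e : K} (y : Fin n → L), (∀ i, PL.IsLine (y i)) → ∑ i, y i = f e →
      f (pw P r e) = ∑ i, (y i - 1) ^ r := fun r e y hy hs => by
    rw [pw_map hf, ← hs, ← pwHom_apply, map_sum]
    exact Finset.sum_congr rfl fun i _ => by rw [pwHom_apply, pw_of_isLine (hy i)]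
  have key : pw P m e' = (-1) ^ m * pw P m e + w := by
    apply hf.injective
    rw [hfsum m z hz hsz, map_add, map_mul, map_pow, map_neg, map_one, hfsum m y hy hsy, hw, map_sum]
    simp only [map_mul, map_intCast, hfsum _ y hy hsy, Finset.mul_sum]
    rw [Finset.sum_comm, ← Finset.sum_add_distrib]
    refine Finset.sum_congr rfl fun i _ => ?_
    have hWz : Polynomial.aeval (y i - 1) W = z i := by
      have h1 : (1 + (y i - 1)) * Polynomial.aeval (y i - 1) W = 1 := by
        rw [hW, map_sum]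
        simp only [map_pow, map_neg, Polynomial.aeval_X]
        have := mul_neg_geom_sum (-(y i - 1)) N
        rw [sub_neg_eq_add] at this
        rw [this, neg_pow, hnil, mul_zero, sub_zero]
      calc Polynomial.aeval (y i - 1) W = z i * y i * Polynomial.aeval (y i - 1) W := by rw [hzy, one_mul]
        _ = z i := by rw [mul_assoc]; rw [show y i = 1 + (y i - 1) by ring] at *; rw [show (1 + (y i - 1) - 1) = y i - 1 by ring] at *; rw [h1, mul_one]
    have hQv : ∑ k ∈ range (Q.natDegree + 1), (Q.coeff k : L) * (y i - 1) ^ (m + 1 + k) =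
        (y i - 1) ^ (m + 1) * Polynomial.aeval (y i - 1) Q := by
      rw [Polynomial.aeval_eq_sum_range, Finset.mul_sum]
      refine Finset.sum_congr rfl fun k _ => ?_
      rw [zsmul_eq_mul, pow_add]; ring
    rw [hQv, hQ, map_mul, map_mul, map_pow, map_neg, map_one, hWz, map_sum]
    simp only [map_pow, hWz]
    have hz1 : z i - 1 = -((y i - 1) * z i) := by linear_combination hzy i
    have hg := geom_sum_mul (z i) m
    rw [hz1, neg_pow, mul_pow]
    linear_combination -((-1 : L) ^ m * (y i - 1) ^ m) * hg + ((-1 : L) ^ m * (y i - 1) ^ m * (∑ k ∈ range m, z i ^ k)) * hz1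
  have h0 := GrTarget.isCls_pw (G := grTarget P) m e
  have h1 := (GrTarget.IsCls.intCast (G := grTarget P) ((-1) ^ m)).mul h0
  rw [zero_add, Int.cast_pow, Int.cast_pow, Int.cast_neg, Int.cast_neg, Int.cast_one, Int.cast_one] at h1
  have h2 := h1.add (GrTarget.IsCls.of_succ (G := grTarget P) hwF (Nat.lt_succ_self m))
  rw [add_zero, ← key] at h2
  rw [← (GrTarget.isCls_pw (G := grTarget P) m e').2, h2.2]

/-- `φ(td e') · ch θ^j(e) = j^n td e'` when `e'` has the inverse roots of `e`. -/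
theorem frob_tdK_mul_bott {f : K →+* L} (hf : IsExtension P PL f) {n : ℕ} {e e' : K} (hn : (P.aug e).toNat = n)
    (y z : Fin n → L) (hy : ∀ i, PL.IsLine (y i)) (hz : ∀ i, PL.IsLine (z i)) (hzy : ∀ i, z i * y i = 1)
    (hsy : ∑ i, y i = f e) (hsz : ∑ i, z i = f e') (hnil : ∀ i, IsNilpotent (y i - 1)) (j : ℕ) :
    frob hK hd j (KGr.tdK P d e') * KGr.chK P d (KRR.bott P j e) = ((j : ℚ) ^ n) • KGr.tdK P d e' := by
  classical
  subst hn
  choose N hN using hnil
  obtain ⟨M, hdM, hNM⟩ : ∃ M, d ≤ M ∧ ∀ i, N i ≤ M := ⟨d + ∑ i, N i, Nat.le_add_right _ _, fun i =>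
    (Finset.single_le_sum (fun k _ => Nat.zero_le (N k)) (Finset.mem_univ i)).trans (Nat.le_add_left _ _)⟩
  have hv : ∀ i, (y i - 1) ^ (M + 1) = 0 := fun i => pow_eq_zero_of_le (by have := hNM i; omega) (hN i)
  obtain ⟨l, hl0, hl⟩ := exists_logPoly (1 + Polynomial.X) (by simp) M
  set a := fun i => Polynomial.aeval ((1 : ℚ) ⊗ₜ[ℤ] (y i - 1)) l with ha'
  have hvQ : ∀ i, ((1 : ℚ) ⊗ₜ[ℤ] (y i - 1)) ^ (M + 1) = 0 := fun i => by
    rw [Algebra.TensorProduct.tmul_pow, hv, TensorProduct.tmul_zero]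
  have ha : ∀ i, a i ^ (M + 1) = 0 := fun i => aeval_pow_eq_zero (hvQ i) hl0
  have hexp : ∀ i, IsNilpotent.exp (a i) = (1 : ℚ) ⊗ₜ[ℤ] y i := fun i => by
    rw [ha', exp_of_dvd hl0 hl (hvQ i), map_add, map_one, Polynomial.aeval_X, Algebra.TensorProduct.one_def,
      ← TensorProduct.tmul_add, add_sub_cancel]
  set J := toRoots hd hK f with hJ
  have hpw : ∀ m ≤ M, J ((grTarget P).gpw m e) = ∑ i, a i ^ m :=
    fun m hm => toRoots_gpw hd hK hf hdM y hy hsy a ha hexp hm
  have hdual : ∀ m, (grTarget P).gpw m e' = (-1) ^ m * (grTarget P).gpw m e :=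
    gpw_dual hf y z hy hz hzy hsy hsz hv
  have hlog : ∀ c : ℕ, J (∑ m ∈ range M, algebraMap ℚ (KGr.Gr P) ((logTodd M).coeff (m + 1)) *
      ((c : KGr.Gr P) ^ (m + 1) * (grTarget P).gpw (m + 1) e')) =
      ∑ i, Polynomial.aeval (-((c : ℚ ⊗[ℤ] L) * a i)) (logTodd M) := fun c => by
    rw [Finset.sum_congr rfl fun i _ => aeval_eq_sum_shift (M := M)
      (neg_mul_pow_zero (R := ℚ ⊗[ℤ] L) (ha i)) (logTodd_zero M), Finset.sum_comm, map_sum]
    refine Finset.sum_congr rfl fun m hm => ?_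
    rw [Finset.mem_range] at hm
    rw [map_mul, AlgHom.commutes, map_mul, map_pow, map_natCast, hdual, map_mul, map_pow, map_neg, map_one,
      hpw _ (by omega), Finset.mul_sum, Finset.mul_sum, Finset.mul_sum]
    exact Finset.sum_congr rfl fun i _ => neg_mul_pow (R := ℚ ⊗[ℤ] L) _ _ _ _
  have htd : J (KGr.tdK P d e') = ∏ i, Polynomial.aeval (-a i) (KGr.toddTrunc M) := by
    have h1 := hlog 1
    simp only [Nat.cast_one, one_pow, one_mul] at h1
    rw [tdK_eq_exp hd hdM, IsNilpotent.map_exp (isNilpotent_tdLog hd _ e'), tdLog, h1,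
      (exp_finsum univ fun i _ => (⟨M + 1, aeval_pow_eq_zero (neg_pow_zero (R := ℚ ⊗[ℤ] L) (ha i)) (logTodd_zero M)⟩ :
        IsNilpotent _)).1]
    exact Finset.prod_congr rfl fun i _ => exp_logTodd M (neg_pow_zero (R := ℚ ⊗[ℤ] L) (ha i))
  have hftd : J (frob hK hd j (KGr.tdK P d e')) =
      ∏ i, Polynomial.aeval (-((j : ℚ ⊗[ℤ] L) * a i)) (KGr.toddTrunc M) := by
    rw [tdK_eq_exp hd hdM, IsNilpotent.map_exp (isNilpotent_tdLog hd _ e'),
      IsNilpotent.map_exp ((isNilpotent_tdLog hd _ e').map _), frob_tdLog, tdLog]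
    simp only [gpw_adams hK]
    rw [hlog j, (exp_finsum univ fun i _ => (⟨M + 1, aeval_pow_eq_zero
      (neg_mul_pow_zero (R := ℚ ⊗[ℤ] L) (ha i)) (logTodd_zero M)⟩ : IsNilpotent _)).1]
    exact Finset.prod_congr rfl fun i _ => exp_logTodd M (neg_mul_pow_zero (R := ℚ ⊗[ℤ] L) (ha i))
  have hbott : J (KGr.chK P d (KRR.bott P j e)) = ∏ i, ∑ k ∈ range j, IsNilpotent.exp (a i) ^ k := by
    rw [hJ, toRoots_chK, map_bott_lines hf j y hy hsy]
    show (Algebra.TensorProduct.includeRight (R := ℤ) (A := ℚ) (B := L)) _ = _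
    simp only [map_prod, map_sum, map_pow]
    exact Finset.prod_congr rfl fun i _ => Finset.sum_congr rfl fun k _ => congrArg (· ^ k) (hexp i).symm
  apply toRoots_injective hd hK hf.injective
  rw [← hJ, map_mul, hftd, hbott, ← Finset.prod_mul_distrib, Finset.prod_congr rfl fun i _ => todd_mul_geom (ha i) j,
    Finset.prod_mul_distrib, Finset.prod_const, Finset.card_univ, Fintype.card_fin, ← htd, map_smul, tens_smul_def,
    map_pow, map_natCast]

end Groth.Agent.KRR28
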