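import Groth.Agent.S3763
import Groth.Agent.EulerLib.Additive
import Groth.Agent.EulerLib.SupportVanishing
import Groth.Agent.VarietyLib.PushEuler
import Groth.Agent.VarietyLib.DetDeg
import Groth.Agent.AbCohLib.OmegaCoh
import Groth.Agent.CurveRR24.Sky
import Groth.Agent.H8Lim.ProjLinePow
import Groth.Agent.KPush28.Ops

/-!
# Euler characteristic and `K`-theoretic push-forward to the spectrum of a field
-/

set_option autoImplicit false
set_option linter.style.haveILetI false
set_option backward.isDefEq.respectTransparency false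

universe v u

open CategoryTheory CategoryTheory.Limits AlgebraicGeometry TopologicalSpace
open Groth.Agent.Coherent Groth.Agent.EulerLib Groth.Agent.KPr28 Groth.Agent.KPush28

namespace Groth.Agent.KRR28

variable (k : Type u) [Field k]

omit [Field k] in
theorem exists_k0lift' {A : Type v} [Category.{u} A] [Abelian A] {G : Type} [AddCommGroup G]
    (P : ObjectProperty A) (f : A → G)
    (hf : ∀ S : ShortComplex A, S.ShortExact → P S.X₁ → P S.X₂ → P S.X₃ → f S.X₂ = f S.X₁ + f S.X₃) :
    ∃ F : KZero.K0sub P →+ G, ∀ E, P E → F (KZero.clSub P E) = f E := by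
  refine ⟨QuotientAddGroup.lift _ (FreeAbelianGroup.lift fun E => f E.1) ?_, fun E hE => ?_⟩
  · refine (AddSubgroup.closure_le _).2 ?_
    rintro _ ⟨S, h₁, h₂, h₃, hS, rfl⟩
    simp [hf S hS h₁ h₂ h₃]
  · rw [KZero.clSub, dif_pos hE]
    exact FreeAbelianGroup.lift_apply_of _ _

instance subsingleton_specField : Subsingleton ↥(Spec (CommRingCat.of k)) :=
  inferInstanceAs (Subsingleton (PrimeSpectrum k))

theorem over_self : ((Spec (CommRingCat.of k)) ↘ Spec (CommRingCat.of k)) = 𝟙 _ := by
  show Spec.map (CommRingCat.ofHom (algebraMap k k)) = 𝟙 _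
  rw [Algebra.algebraMap_self]
  exact Spec.map_id _

theorem finrank_sections_specField (k : Type u) [Field k] :
    Module.finrank k (GA (baseHom k (Spec (CommRingCat.of k)))
      (Coh.structureModule (Spec (CommRingCat.of k)))) = 1 := by
  let φ := baseHom k (Spec (CommRingCat.of k))
  have hφ : Function.Bijective φ := by
    have h : ∀ x, φ x = (Scheme.ΓSpecIso (CommRingCat.of k)).symm.commRingCatIsoToRingEquiv x := fun x => by
      show ((Spec (CommRingCat.of k)) ↘ Spec (CommRingCat.of k)).appTop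
        ((Scheme.ΓSpecIso (CommRingCat.of k)).inv x) = _
      rw [over_self]
      rfl
    rw [show (φ : k → _) = _ from funext h]
    exact (Scheme.ΓSpecIso (CommRingCat.of k)).symm.commRingCatIsoToRingEquiv.bijective
  let e : k →ₗ[k] GA φ (Coh.structureModule (Spec (CommRingCat.of k))) :=
    { toFun := fun c => φ c
      map_add' := fun a b => map_add φ a b
      map_smul' := fun a b => map_mul φ a b }
  rw [← (LinearEquiv.ofBijective e hφ).finrank_eq, Module.finrank_self]

theorem euler_structure_specField :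
    Curv2.euler k (Spec (CommRingCat.of k)) (Coh.structureModule _) = 1 := by
  haveI : Coh.IsQCoh (Coh.structureModule (Spec (CommRingCat.of k))) :=
    (isCoh_structureModule (Spec (CommRingCat.of k))).1
  rw [euler_eq_sum k _ _ 0 fun q hq => by
    obtain ⟨m, rfl⟩ : ∃ m, q = m + 1 := ⟨q - 1, by omega⟩
    exact subsingleton_HH_of_isAffine (Coh.structureModule (Spec (CommRingCat.of k))) (m + 1) (Nat.succ_pos m)]
  rw [Finset.sum_range_one, pow_zero, one_mul, (CurveRR24.hhZero k _).finrank_eq, finrank_sections_specField]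
  rfl

theorem euler_vb_specField {V : (Spec (CommRingCat.of k)).Modules} {r : ℕ}
    (hV : FlatMod.IsFinLocFreeOfRank r V) : Curv2.euler k _ V = r := by
  haveI : IsProper ((Spec (CommRingCat.of k)) ↘ Spec (CommRingCat.of k)) := by rw [over_self]; infer_instance
  obtain ⟨e⟩ := AbCohLib.nonempty_iso_freeMod_of_subsingleton hV
  rw [euler_congr k _ e, VarietyLib.euler_freeMod, euler_structure_specField, mul_one]

variable {n : ℕ} {KP : Type v} [CommRing KP] {φP : SGA6.Kvb (KRR.PY n (Spec (CommRingCat.of k))) →+ KP}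
  {KY : Type v} [CommRing KY] [LambdaRing.LambdaOps KY] {PY : LambdaRing.PosStructure KY}
  {φY : SGA6.Kvb (Spec (CommRingCat.of k)) →+ KY}

/-- A push-forward to a point followed by the rank is the Euler characteristic. -/
theorem aug_pushPr_eq_euler (hKY : KRR.IsModel (Spec (CommRingCat.of k)) KY PY φY) {b : KP →+ KY}
    (hb : KRR.IsPushPr n (Spec (CommRingCat.of k)) φP φY b)
    {L : (KRR.PY n (Spec (CommRingCat.of k))).Modules} (hL : FlatMod.IsFinLocFree L) :
    PY.aug (b (φP (KRR.cl _ L))) = Curv2.euler k _ L := by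
  classical
  haveI := RelVALib.isProper_toBase n (Spec (CommRingCat.of k))
  haveI : IsProper ((KRR.PY n (Spec (CommRingCat.of k))) ↘ Spec (CommRingCat.of k)) :=
    RelVALib.isProper_toBase n _
  obtain ⟨χ, hχ⟩ := exists_k0lift' (KRR.vbP (KRR.PY n (Spec (CommRingCat.of k))))
    (fun F => Curv2.euler k _ F) fun S hS h₁ h₂ h₃ => euler_additive k _ S hS
      (CohBC.isCoh_of_isFinLocFree h₁) (CohBC.isCoh_of_isFinLocFree h₂) (CohBC.isCoh_of_isFinLocFree h₃)
  have key : (PY.aug.toAddMonoidHom.comp b).comp φP = χ := by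
    refine hom_ext_reg fun F hF => ?_
    have hp := isFinLocFree_push_reg hF.1 hF.2
    obtain ⟨r, hr⟩ := KModel28.exists_rank hp
    show PY.aug (b (φP (KRR.cl _ F))) = _
    rw [hb F hF.1 hF.2, hKY.aug_cl r _ hr, show χ (KRR.cl _ F) = _ from hχ F hF.1]
    haveI := (CohBC.isCoh_of_isFinLocFree hF.1).1
    rw [VarietyLib.euler_push_of_acyclic (X := Spec (CommRingCat.of k)) (KRR.pr n _) k
      (by rw [over_self, Category.comp_id]; rfl) F
      (VarietyLib.acyclicOverBasis_of_isZero _ F fun p hp => van_of_reg hF.2 p hp)]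
    exact (euler_vb_specField k hr).symm
  rw [← hχ L hL, ← key]
  rfl

/-- Composite push-forward of a bundle through a projective space. -/
theorem aug_push_eq_euler {X : Scheme.{u}} [X.Over (Spec (CommRingCat.of k))] {dX : ℕ}
    (hdX : topologicalKrullDim ↥X ≤ (dX : WithBot ℕ∞))
    {i : X ⟶ KRR.PY n (Spec (CommRingCat.of k))} (hi : Mor2.IsRegularClosedImmersion i)
    (hfac : i ≫ KRR.pr n (Spec (CommRingCat.of k)) = X ↘ Spec (CommRingCat.of k))
    {KX : Type v} [CommRing KX] {φX : SGA6.Kvb X →+ KX}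
    (hKY : KRR.IsModel (Spec (CommRingCat.of k)) KY PY φY) {a : KX →+ KP}
    (ha : KRR.IsPushCl i φX φP a) {b : KP →+ KY}
    (hb : KRR.IsPushPr n (Spec (CommRingCat.of k)) φP φY b) {E : X.Modules} (hE : FlatMod.IsFinLocFree E) :
    PY.aug (b (a (φX (KRR.cl X E)))) =
      ∑ q ∈ Finset.range (dX + 1), (-1 : ℤ) ^ q * (Module.finrank k (Coh.HH X E q) : ℤ) := by
  classical
  haveI := hi.1
  haveI := KPushPr28.isNoetherian_PY n (Spec (CommRingCat.of k))
  haveI : IsProper ((KRR.PY n (Spec (CommRingCat.of k))) ↘ Spec (CommRingCat.of k)) :=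
    RelVALib.isProper_toBase n _
  haveI : IsProper (X ↘ Spec (CommRingCat.of k)) := by
    rw [← hfac]
    haveI := RelVALib.isProper_toBase n (Spec (CommRingCat.of k))
    infer_instance
  haveI := EulerLib.isNoetherian_of_proper k (X := X)
  obtain ⟨A, hA⟩ := exists_isAmple_PY (Y := Spec (CommRingCat.of k))
    ((AmpleLib.isAmple_structureModule_iff (X := Spec (CommRingCat.of k))).2 inferInstance) n
  have hP := enough_of_ample hA
  have hbdd := cohBdd_push i hP hi hE
  obtain ⟨N, L, π, hL⟩ := exists_lfRes hP hbdd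
  rw [ha E hE N L π hL, map_sum, map_sum]
  have hsum := map_eq_sum (G := ℤ) (fun M => Curv2.euler k _ M)
    (fun S hS h₁ h₂ h₃ => euler_additive k _ S hS h₁.1 h₂.1 h₃.1) hbdd N L π hL
  rw [Finset.sum_congr rfl fun j _ => show PY.aug (b ((-1 : ℤ) ^ j • φP (KRR.cl _ (L.X j)))) =
    (-1 : ℤ) ^ j • Curv2.euler k _ (L.X j) by
      rw [map_zsmul, map_zsmul, aug_pushPr_eq_euler k hKY hb (hL.finLocFree j)]]
  rw [← hsum]
  haveI := (CohBC.isCoh_of_isFinLocFree hE).1
  haveI : X.IsSeparated := ⟨by rw [← terminal.comp_from (X ↘ Spec (CommRingCat.of k))]; infer_instance⟩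
  rw [← euler_eq_sum k X E dX fun q hq => subsingleton_HH_of_dim E hdX hq]
  exact (VarietyLib.euler_push_of_acyclic i k hfac E (acyclicOverBasis_affine i E)).symm

end Groth.Agent.KRR28
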