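import Groth.Agent.KRR28.Gen
import Groth.Agent.KPushPr28.Twist
import Groth.Agent.KPush28.Disjoint
import Groth.Agent.KSplit28.AdamsPY
import Groth.Agent.KSplit28.Ample
import Groth.Agent.FlatMorPerfect.Smooth
import Groth.Agent.S7174

/-!
# Pullbacks along perfect projective birational morphisms are injective
-/

set_option autoImplicit false
set_option backward.isDefEq.respectTransparency false
set_option linter.style.haveILetI false

universe v w u

open CategoryTheory CategoryTheory.Limits AlgebraicGeometry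
open Groth.Agent.ResLF28 LambdaRing

noncomputable section

namespace Groth.Agent.KRR28

variable {M W : Scheme.{u}}

/-- Direct images of bundles along a perfect closed immersion have finite projective dimension at stalks. -/
theorem exists_LT_push_perfect [IsLocallyNoetherian W] (f : M ⟶ W) [IsClosedImmersion f]
    (hf : MoreMor.IsPerfectMor f) {F : M.Modules} (hF : FlatMod.IsFinLocFree F) (y : W) :
    ∃ d : ℕ, HasProjectiveDimensionLT (st y ((Scheme.Modules.pushforward f).obj F)) (d + 1) := by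
  haveI : IsLocallyNoetherian M := LocallyOfFiniteType.isLocallyNoetherian f
  by_cases hy : y ∈ Set.range f.base
  · obtain ⟨x, rfl⟩ := hy
    obtain ⟨e⟩ := FlatCx12.PushStalk.nonempty_stalkPushIso f x
    have hFq := CAlgH3.LocFreeFactor.isQCoh_of_finLocFree hF
    haveI : Module.Free (M.presheaf.stalk x) (F.presheaf.stalk x) := Props12.free_stalk_of_isFinLocFree F hF x
    haveI : Module.Finite (M.presheaf.stalk x) (F.presheaf.stalk x) :=
      AssSch12.finite_stalk (Coherent.CohBC.isCoh_of_isFinLocFree hF) x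
    let m := Module.finrank (M.presheaf.stalk x) (F.presheaf.stalk x)
    let b : (st x F : Type u) ≃ₗ[M.presheaf.stalk x] (Fin m → M.presheaf.stalk x) :=
      (Module.finBasis (M.presheaf.stalk x) (F.presheaf.stalk x)).equivFun
    let φ := (f.stalkMap x).hom
    have hpc : MoreMor.IsPseudoCoherentMor f := fun U V hU hV hUV => (hf U V hU hV hUV).1
    have htd := (S7174.result f hpc).1 hf x
    letI := φ.toAlgebra
    obtain ⟨n, hn⟩ := FlatMorPerfect.hasFiniteTorDim_iff.1 htd
    haveI : Module.Finite (W.presheaf.stalk (f x)) (M.presheaf.stalk x) :=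
      Module.Finite.of_surjective (Algebra.linearMap (W.presheaf.stalk (f x)) (M.presheaf.stalk x))
        (f.stalkMap_surjective x)
    have hpd : CAlgH3.PD (W.presheaf.stalk (f x)) (n + 1) (M.presheaf.stalk x) :=
      EGA41Lib.pd_of_dim_residue n _ (hn.flatDimLE.dim _)
    let c : ((ModuleCat.restrictScalars φ).obj (ModuleCat.of (M.presheaf.stalk x) (Fin m → M.presheaf.stalk x))) ≅
        ModuleCat.of (W.presheaf.stalk (f x)) (Fin m → M.presheaf.stalk x) :=
      LinearEquiv.toModuleIso (({
        toFun := fun v => v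
        invFun := fun v => v
        left_inv := fun v => rfl
        right_inv := fun v => rfl
        map_add' := fun v w => rfl
        map_smul' := fun r v => rfl } :
        ((ModuleCat.restrictScalars φ).obj (ModuleCat.of (M.presheaf.stalk x) (Fin m → M.presheaf.stalk x)) : Type u)
          ≃ₗ[W.presheaf.stalk (f x)] (Fin m → M.presheaf.stalk x)))
    haveI := KPush28.pd_pi _ hpd m
    exact ⟨n, hasProjectiveDimensionLT_of_iso
      (e.app F ≪≫ (ModuleCat.restrictScalars φ).mapIso b.toModuleIso ≪≫ c).symm (n + 1)⟩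
  · haveI := DCat.ClosedPush.subsingleton_stalk_push f F y hy
    haveI := (ModuleCat.isZero_of_subsingleton (st y ((Scheme.Modules.pushforward f).obj F))).hasProjectiveDimensionLT_zero
    exact ⟨0, hasProjectiveDimensionLT_of_ge _ 0 1 (Nat.zero_le _)⟩

theorem cohBdd_push_perfect [IsLocallyNoetherian W] [CompactSpace W] (hW : KRR.HasEnoughLocFree W) (f : M ⟶ W)
    [IsClosedImmersion f] (hf : MoreMor.IsPerfectMor f) {F : M.Modules} (hF : FlatMod.IsFinLocFree F) :
    cohBdd W ((Scheme.Modules.pushforward f).obj F) := by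
  classical
  haveI : IsLocallyNoetherian M := LocallyOfFiniteType.isLocallyNoetherian f
  have hA : Coh.IsCoh ((Scheme.Modules.pushforward f).obj F) :=
    Coherent.isCoh_push_finite f (Coherent.CohBC.isCoh_of_isFinLocFree hF)
  have h : ∀ y : W, ∃ (d : ℕ) (U : W.Opens), y ∈ U ∧
      ∀ z ∈ U, HasProjectiveDimensionLT (st z ((Scheme.Modules.pushforward f).obj F)) (d + 1) := fun y => by
    obtain ⟨d, hd⟩ := exists_LT_push_perfect f hf hF y
    exact ⟨d, exists_nhd_LT hW d _ hA y hd⟩
  choose d U hxU hU using h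
  obtain ⟨s, hs⟩ := isCompact_univ.elim_finite_subcover (fun x => (U x : Set W)) (fun x => (U x).isOpen)
    (fun x _ => Set.mem_iUnion.2 ⟨x, hxU x⟩)
  refine ⟨hA, s.sup d, fun y => ?_⟩
  obtain ⟨x, hx, hy⟩ := Set.mem_iUnion₂.1 (hs (Set.mem_univ y))
  exact LT_mono y _ (hU x y hy) (by have := Finset.le_sup (f := d) hx; omega)

/-- Pulling back a resolution into an open set where the resolved module is locally free. -/
theorem sum_pull_eq {Z X : Scheme.{u}} [IsLocallyNoetherian X] (h : Z ⟶ X) {V : X.Opens}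
    (hV : Set.range h.base ⊆ Set.range V.ι.base) (A : X.Modules)
    (hA : FlatMod.IsFinLocFree ((Scheme.Modules.pullback V.ι).obj A)) (n : ℕ) (L : ChainComplex X.Modules ℕ)
    (π : L ⟶ (ChainComplex.single₀ X.Modules).obj A) (hL : KRR.IsLFRes A n L π) :
    ∑ k ∈ Finset.range (n + 1), (-1 : ℤ) ^ k • KRR.cl Z ((Scheme.Modules.pullback h).obj (L.X k)) =
      KRR.cl Z ((Scheme.Modules.pullback h).obj A) := by
  let j := V.ι
  let h' : Z ⟶ V.toScheme := IsOpenImmersion.lift j h hV
  have fac : h' ≫ j = h := IsOpenImmersion.lift_fac _ _ _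
  haveI : IsLocallyNoetherian V.toScheme := isLocallyNoetherian_of_isOpenImmersion j
  haveI : PreservesFiniteLimits (Scheme.Modules.pullback j) := DCat.FlatPull.preservesFiniteLimits_pullback j
  haveI := hL.quasiIso
  obtain ⟨hex0, hepi⟩ := (ShortComplex.quasiIso_iff_of_zeros' _ (L.shape 0 0 (by simp)) (by rfl) (by rfl)).1
    ((ChainComplex.quasiIsoAt₀_iff π).1 inferInstance)
  let D : ℕ → V.toScheme.Modules := fun p => match p with
    | 0 => (Scheme.Modules.pullback j).obj A
    | q + 1 => (Scheme.Modules.pullback j).obj (L.X q)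
  let g : ∀ p, D (p + 1) ⟶ D p := fun p => match p with
    | 0 => (Scheme.Modules.pullback j).map (π.f 0)
    | q + 1 => (Scheme.Modules.pullback j).map (L.d (q + 1) q)
  have hw0 : L.d 1 0 ≫ π.f 0 = 0 := by
    rw [← π.comm 1 0, HomologicalComplex.single_obj_d, comp_zero]
  have w : ∀ p, g (p + 1) ≫ g p = 0 := fun p => match p with
    | 0 => ((Scheme.Modules.pullback j).map_comp _ _).symm.trans
        ((congrArg (Scheme.Modules.pullback j).map hw0).trans ((Scheme.Modules.pullback j).map_zero _ _))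
    | q + 1 => ((Scheme.Modules.pullback j).map_comp _ _).symm.trans
        ((congrArg (Scheme.Modules.pullback j).map (L.d_comp_d _ _ _)).trans
          ((Scheme.Modules.pullback j).map_zero _ _))
  have hex : ∀ p, (ShortComplex.mk (g (p + 1)) (g p) (w p)).Exact := fun p => match p with
    | 0 => hex0.map (Scheme.Modules.pullback j)
    | q + 1 => ((L.exactAt_iff' (q + 2) (q + 1) q (by simp) (by simp)).1
        ((quasiIsoAt_iff_exactAt' π (q + 1) (ChainComplex.exactAt_succ_single_obj _ _)).1 inferInstance)).map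
          (Scheme.Modules.pullback j)
  haveI := (Scheme.Modules.pullbackPushforwardAdjunction j).leftAdjoint_preservesColimits
  have hepi' : Epi (g 0) := by
    haveI : (Scheme.Modules.pullback j).PreservesEpimorphisms := preservesEpimorphisms_of_preservesColimitsOfShape _
    haveI : Epi (π.f 0) := hepi
    exact (Scheme.Modules.pullback j).map_epi (π.f 0)
  have hP : ∀ p, FlatMod.IsFinLocFree (D p) := fun p => match p with
    | 0 => hA
    | q + 1 => FlatMorAdm.isFinLocFree_pullback j (hL.finLocFree q)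
  have hz : ∀ p, n + 1 < p → IsZero (D p) := fun p hp => match p, hp with
    | q + 1, hp => (Scheme.Modules.pullback j).map_isZero (hL.isZero q (by omega))
  have key := KPush28.sum_alt_map_eq_zero (P := fun M : V.toScheme.Modules => FlatMod.IsFinLocFree M)
    (fun g => KPush28.finLocFree_kernel g) (fun M => KRR.cl Z ((Scheme.Modules.pullback h').obj M))
    (fun S hS h₁ h₂ h₃ => ExtFilt28.clv_ses (KPull28.shortExact_pullback h' hS h₃)
      (FlatMorAdm.isFinLocFree_pullback h' h₁) (FlatMorAdm.isFinLocFree_pullback h' h₂)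
      (FlatMorAdm.isFinLocFree_pullback h' h₃)) (n + 1) D g w hex hepi' hP hz
  rw [Finset.sum_range_succ', pow_zero, one_smul, ← neg_eq_iff_add_eq_zero] at key
  have hiso : ∀ B : X.Modules, KRR.cl Z ((Scheme.Modules.pullback h').obj ((Scheme.Modules.pullback j).obj B)) =
      KRR.cl Z ((Scheme.Modules.pullback h).obj B) := fun B =>
    ExtFilt28.clv_iso ((Scheme.Modules.pullbackComp h' j).app B ≪≫ (Scheme.Modules.pullbackCongr fac).app B)
  have e0 : KRR.cl Z ((Scheme.Modules.pullback h').obj (D 0)) = KRR.cl Z ((Scheme.Modules.pullback h).obj A) := hiso A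
  rw [e0] at key
  rw [← key, ← Finset.sum_neg_distrib]
  refine Finset.sum_congr rfl fun k _ => ?_
  rw [pow_succ, mul_neg_one, neg_smul, neg_neg]
  exact congrArg ((-1 : ℤ) ^ k • ·) (hiso (L.X k)).symm

/-- Pullback along a perfect projective morphism which is an isomorphism somewhere is injective on `K`. -/
theorem injective_pull {P : Scheme.{u}} [IsNoetherian P] [ConnectedSpace ↥P] {A : P.Modules} (hA : CohB1.IsAmple A)
    (b : M ⟶ P) (hb : MoreMor.IsPerfectMor b) [IsProper b] {N : ℕ} (i : M ⟶ KRR.PY N P) [IsClosedImmersion i]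
    (hib : i ≫ KRR.pr N P = b) (hsm : Smooth (KRR.pr N P)) {Y : Scheme.{u}} [ConnectedSpace ↥Y] (s : Y ⟶ P)
    (V : P.Opens) (hV : Set.range s.base ⊆ Set.range V.ι.base) [IsIso (b ∣_ V)]
    (hP : KRR.HasEnoughLocFree P) (hQ : KRR.HasEnoughLocFree (KRR.PY N P))
    {KP : Type (u + 1)} [CommRing KP] [LambdaOps KP] {PP : PosStructure KP} {φP : SGA6.Kvb P →+ KP}
    (hKP : KRR.IsModel P KP PP φP) {KM : Type (u + 1)} [CommRing KM] [LambdaOps KM] {φM : SGA6.Kvb M →+ KM}
    (hKM : KSplit28.IsKRing M KM φM) {g : KP →+ KM} (hg : KRR.IsPull b φP φM g) {w : KP} (hw : g w = 0) :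
    w = 0 := by
  haveI := hsm
  have hperf : MoreMor.IsPerfectMor i := FlatMorPerfect.perfectMor_of_comp_smooth i (KRR.pr N P) (by rw [hib]; exact hb)
  haveI := KPushPr28.isNoetherian_PY N P
  haveI := KSplit28.connectedSpace_PY N P
  haveI : IsLocallyNoetherian M := LocallyOfFiniteType.isLocallyNoetherian i
  have hc : ∀ F : M.Modules, FlatMod.IsFinLocFree F → cohBdd (KRR.PY N P) ((Scheme.Modules.pushforward i).obj F) :=
    fun F hF => cohBdd_push_perfect hQ i hperf hF
  obtain ⟨KQ, _, _, PQ, φQ, hKQ⟩ := KModel28.exists_model (KRR.PY N P)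
  obtain ⟨gq, l, e, hgq, -, -, -, -, -, -, hpow, -, hbasis⟩ := KSplit28.exists_PY_data N P hKQ hKP
  obtain ⟨gp, hgp, -⟩ := KPr28.existsUnique_isPushPr (n := N) (Y := P) φQ hKQ.bijective φP
  obtain ⟨-, hlin⟩ := KSplit28.pushPr_pull_mul N P hKQ hKP hgp hgq hpow hbasis
  obtain ⟨gi, hgi, -⟩ := KPull28.existsUnique_isPull i φM φQ hKQ.bijective
  -- the two pullbacks
  have hgig : ∀ z, gi (gq z) = g z := fun z => by
    refine (KSplit28.isKRing_of_isModel hKP).induction (motive := fun z => gi (gq z) = g z) (by simp) (fun E hE => ?_)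
      (fun a h => by simp [h]) (fun a b ha hb => by simp [ha, hb]) z
    rw [show gq (φP (KRR.cl P E)) = _ from hgq E hE, hgi _ (DCat.PullPerf.isFinLocFree_pullback _ hE), hg E hE]
    exact congrArg φM (ExtFilt28.clv_iso ((Scheme.Modules.pullbackComp i (KRR.pr N P)).app E ≪≫
      (Scheme.Modules.pullbackCongr hib).app E))
  obtain ⟨Ψ, hΨ, hmul⟩ := exists_push_mul i hQ hc (KSplit28.isKRing_of_isModel hKQ) hKM hgi
  set a := φQ (KPush28.vbCl (KRR.PY N P) hQ ((Scheme.Modules.pushforward i).obj (Coh.structureModule M))) with ha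
  have hza : gq w * a = 0 := by rw [hmul, hgig, hw, map_zero]
  obtain ⟨N₀, hN₀⟩ := KPushPr28.exists_hvan i i hib hib (F := Coh.structureModule M)
    (Coherent.CohBC.isCoh_of_isFinLocFree KvbLam28.isFinLocFree_structure)
  obtain ⟨m, hm⟩ : ∃ m : ℕ, N₀ ≤ (m : ℤ) := ⟨N₀.toNat, Int.self_le_toNat N₀⟩
  let H : M.Modules := (Scheme.Modules.pullback i).obj (Twist.twistOver N P (m : ℤ))
  have hH : FlatMod.IsFinLocFree H := DCat.PullPerf.isFinLocFree_pullback i (KPr28.isFinLocFree_twistOver _)
  haveI := CAlgH3.LocFreeFactor.isQCoh_of_finLocFree hH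
  have hreg : KRR.IsRegSheaf N P ((Scheme.Modules.pushforward i).obj H) := fun q hq =>
    KPushPr28.van_push i q _ (by
      rw [hib]
      exact (hN₀ (m : ℤ) hm q hq).of_iso ((Coh.RpushAb b q).mapIso ((Coherent.toAbFunctor _).mapIso
        (AmpleLib.tensorIso (Iso.refl _) (SecTwist.unitorR H).symm))))
  obtain ⟨hQb, hgpv⟩ := KPushPr28.pushPr_vbCl hKQ.bijective hgp hP hQ hreg (hc H hH)
  have hal : a * l ^ m = φQ (KPush28.vbCl (KRR.PY N P) hQ ((Scheme.Modules.pushforward i).obj H)) := by
    rw [mul_comm, hmul, ← hpow, hgi _ (KPr28.isFinLocFree_twistOver _), hΨ H hH]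
  set B := (Scheme.Modules.pushforward (KRR.pr N P)).obj ((Scheme.Modules.pushforward i).obj H)
  have hwv : w * φP (KPush28.vbCl P hP B) = 0 := by
    rw [← hgpv, ← hal, ← hlin, ← mul_assoc, hza, zero_mul, map_zero]
  -- the rank of the direct image
  obtain ⟨eB⟩ : Nonempty (B ≅ (Scheme.Modules.pushforward b).obj H) :=
    ⟨(Scheme.Modules.pushforwardComp i (KRR.pr N P)).app H ≪≫ (Scheme.Modules.pushforwardCongr hib).app H⟩
  have hV1 : FlatMod.IsFinLocFreeOfRank 1 ((Scheme.Modules.pullback V.ι).obj B) := by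
    have hH1 : FlatMod.IsFinLocFreeOfRank 1 H := PicLib.isFinLocFreeOfRank_one
      (PicLoc.isInvertible_pullback i (CM28.isInvertible_twistOver N P _))
    let e := b ∣_ V
    let H' := (Scheme.Modules.restrictFunctor (b ⁻¹ᵁ V).ι).obj H
    have hH' : FlatMod.IsFinLocFreeOfRank 1 ((Scheme.Modules.pushforward e).obj H') :=
      KModel28.rank_iso ((Scheme.Modules.pullback (inv e)).mapIso
          (((Scheme.Modules.restrictFunctorIsoPullback e).app _).symm ≪≫
            (Scheme.Modules.restrictFunctorAdjCounitIso e).app H').symm ≪≫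
        (Scheme.Modules.pullbackComp (inv e) e).app _ ≪≫
        (Scheme.Modules.pullbackCongr (IsIso.inv_hom_id e)).app _ ≪≫ (Scheme.Modules.pullbackId _).app _)
        (VarietyLib.isFinLocFreeOfRank_pullback (inv e) (KModel28.rank_iso
          ((Scheme.Modules.restrictFunctorIsoPullback (b ⁻¹ᵁ V).ι).app H).symm
          (VarietyLib.isFinLocFreeOfRank_pullback (b ⁻¹ᵁ V).ι hH1)))
    exact KModel28.rank_iso (((Coherent.pushRestrictIso b V).app H).symm ≪≫
      (Scheme.Modules.restrictFunctorIsoPullback V.ι).app _ ≪≫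
      (Scheme.Modules.pullback V.ι).mapIso eB.symm) hH'
  obtain ⟨n, L, π, hL⟩ := KPush28.exists_lfRes hP hQb
  have hsum := sum_pull_eq s hV B (VarietyLib.isFinLocFree_of_rank hV1) n L π hL
  obtain ⟨KY, _, _, PY, φY, hKY⟩ := KModel28.exists_model Y
  obtain ⟨gs, hgs, -, haug, -⟩ := KSplit28.exists_pullHom s hKY hKP
  have hs1 : FlatMod.IsFinLocFreeOfRank 1 ((Scheme.Modules.pullback s).obj B) := by
    let s' : Y ⟶ V.toScheme := IsOpenImmersion.lift V.ι s hV
    exact KModel28.rank_iso ((Scheme.Modules.pullbackComp s' V.ι).app B ≪≫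
      (Scheme.Modules.pullbackCongr (IsOpenImmersion.lift_fac V.ι s hV)).app B)
      (VarietyLib.isFinLocFreeOfRank_pullback s' hV1)
  have haug1 : PP.aug (φP (KPush28.vbCl P hP B)) = 1 := by
    rw [← haug, ← KPush28.vbCl_eq_sum hP hQb n L π hL, map_sum, map_sum]
    rw [Finset.sum_congr rfl fun k _ => show gs (φP ((-1 : ℤ) ^ k • KRR.cl P (L.X k))) =
      φY ((-1 : ℤ) ^ k • KRR.cl Y ((Scheme.Modules.pullback s).obj (L.X k))) by
        rw [map_zsmul, map_zsmul, map_zsmul, show gs (φP (KRR.cl P (L.X k))) = _ from hgs _ (hL.finLocFree k)],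
      ← map_sum φY, hsum, hKY.aug_cl 1 _ hs1]
    norm_num
  have hu : IsUnit (φP (KPush28.vbCl P hP B)) := by
    have h := KSplit28.isNilpotent_sub_aug hA hKP (φP (KPush28.vbCl P hP B))
    rw [haug1, Int.cast_one] at h
    simpa using h.isUnit_add_one
  exact hu.mul_left_eq_zero.1 hwv

end Groth.Agent.KRR28
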