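import Groth.Agent.KRR28.Bundle
import Groth.Agent.KRR28.Maps
import Groth.Agent.KRR28.Inj
import Groth.Agent.KRR28.Sect
import Groth.Agent.S3202
import Groth.Agent.FlatMorAdm.BlowUpProj
import Groth.Agent.RelVALib.PnImm
import Groth.Agent.FlatMor12.ProjectiveAmple
import Groth.Agent.AmpleLib.Local
import Groth.Agent.Dual22Lib.ProjSmooth

/-!
# Adams–Riemann–Roch for a regular closed immersion
-/

set_option autoImplicit false
set_option backward.isDefEq.respectTransparency false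
set_option linter.style.haveILetI false
set_option linter.unusedSectionVars false
set_option maxHeartbeats 800000

universe v u

open CategoryTheory CategoryTheory.Limits AlgebraicGeometry LambdaRing

noncomputable section

namespace Groth.Agent.KRR28

attribute [local instance] isLocallyNoetherian_PY1

theorem isPull_ofEq {X Y : Scheme.{u}} {a b : X ⟶ Y} (h : a = b) {KX KY : Type v} [CommRing KX] [CommRing KY]
    {φX : SGA6.Kvb X →+ KX} {φY : SGA6.Kvb Y →+ KY} {g : KY →+ KX} (hg : KRR.IsPull a φY φX g) :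
    KRR.IsPull b φY φX g := h ▸ hg

/-- Pullbacks of line classes and products of divisors. -/
theorem cl_mul_eff {M : Scheme.{u}} {K : Type v} [CommRing K] [LambdaOps K] {φ : SGA6.Kvb M →+ K}
    (hK : KSplit28.IsKRing M K φ) {A B : M.IdealSheafData} (hA : BlowUp.IsEffCartierIdeal A)
    (hB : BlowUp.IsEffCartierIdeal B) :
    φ (KRR.cl M (ClSub.idealMod A)) * φ (KRR.cl M (ClSub.idealMod B)) = φ (KRR.cl M (ClSub.idealMod (A * B))) := by
  have h : ∀ {I : M.IdealSheafData}, BlowUp.IsEffCartierIdeal I → FlatMod.IsFinLocFree (ClSub.idealMod I) :=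
    fun hI => VarietyLib.isFinLocFree_of_rank
      (PicLib.isFinLocFreeOfRank_one (FlatMor12.IdealModGen.isInvertible_idealMod _ hI))
  rw [hK.map_mul _ _ (h hA) (h hB)]
  obtain ⟨e⟩ := nonempty_idealMod_mul hA hB
  exact congrArg φ (ExtFilt28.clv_iso e)

/-- Adams–Riemann–Roch, for models in the working universe. -/
theorem adams_pushCl_regular {X Y : Scheme.{u}} [IsNoetherian Y] [ConnectedSpace ↥Y] {A : Y.Modules}
    (hA : CohB1.IsAmple A) (f : X ⟶ Y) (hf : Mor2.IsRegularClosedImmersion f) [ConnectedSpace ↥X] {d : ℕ}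
    (hC : FlatMod.IsFinLocFreeOfRank d (Omega.conormal f))
    {KX KY : Type (u + 1)} [CommRing KX] [LambdaOps KX] [CommRing KY] [LambdaOps KY] {PX : PosStructure KX}
    {PY : PosStructure KY} {φX : SGA6.Kvb X →+ KX} {φY : SGA6.Kvb Y →+ KY} (hKX : KRR.IsModel X KX PX φX)
    (hKY : KRR.IsModel Y KY PY φY) {h : KX →+ KY} (hh : KRR.IsPushCl f φX φY h) {j : ℕ} (hj : 1 ≤ j) (x : KX) :
    adams PY j (h x) = h (KRR.bott PX j (φX (KRR.cl X (Omega.conormal f))) * adams PX j x) := by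
  haveI := hf.1
  haveI : IsLocallyNoetherian X := LocallyOfFiniteType.isLocallyNoetherian f
  haveI : CompactSpace X := f.isClosedEmbedding.compactSpace
  haveI : IsNoetherian X := {}
  -- the projective line and the deformation
  haveI := KPushPr28.isNoetherian_PY 1 Y
  haveI := KPushPr28.isNoetherian_PY 1 X
  haveI := KSplit28.connectedSpace_PY 1 Y
  haveI := KSplit28.connectedSpace_PY 1 X
  obtain ⟨D⟩ := nonempty_deformation f
  haveI := D.isLocallyNoetherian_M
  haveI := D.isLocallyNoetherian_E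
  haveI : CompactSpace D.M := QuasiCompact.compactSpace_of_compactSpace D.b
  haveI : IsNoetherian D.M := {}
  haveI : CompactSpace D.J.subscheme := D.e.isClosedEmbedding.compactSpace
  haveI : IsNoetherian D.J.subscheme := {}
  haveI := D.connectedSpace_M hf hC
  haveI := D.connectedSpace_E hf hC
  -- ampleness and enough bundles
  obtain ⟨AP, hAP⟩ := FlatMor12.ProjectiveAmple.exists_isAmple_of_immersion ⟨A, hA⟩ (𝟙 (KRR.PY 1 Y))
  have hIft : BlowUp.IsFiniteTypeIdeal (centre f).ker := fun V => by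
    haveI := IsLocallyNoetherian.component_noetherian (X := KRR.PY 1 Y) V
    exact Ideal.fg_of_isNoetherianRing _
  obtain ⟨N, i, hi, hib⟩ := (RelVALib.isProjective_iff_isHProjective hAP D.b).1
    (FlatMorAdm.isProjective_blowUp hIft D.hb)
  haveI := hi
  haveI := KPushPr28.isNoetherian_PY N (KRR.PY 1 Y)
  obtain ⟨AQ, hAQ⟩ := FlatMor12.ProjectiveAmple.exists_isAmple_of_immersion ⟨AP, hAP⟩ (𝟙 (KRR.PY N (KRR.PY 1 Y)))
  have hYe := enough_of_ample hA
  have hPe := enough_of_ample hAP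
  have hQe := enough_of_ample hAQ
  have hMe : KRR.HasEnoughLocFree D.M := KBC28.hasEnough_closed i hQe
  have hEe : KRR.HasEnoughLocFree D.J.subscheme := KBC28.hasEnough_closed D.e hMe
  -- models
  obtain ⟨KP, _, _, PP, φP, hKP⟩ := KModel28.exists_model (KRR.PY 1 Y)
  obtain ⟨KPX, _, _, PPX, φPX, hKPX⟩ := KModel28.exists_model (KRR.PY 1 X)
  obtain ⟨KM, _, _, PM, φM, hKM⟩ := KModel28.exists_model D.M
  obtain ⟨KE, _, _, PE, φE, hKE⟩ := KModel28.exists_model D.J.subscheme
  have kY := KSplit28.isKRing_of_isModel hKY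
  have kX := KSplit28.isKRing_of_isModel hKX
  have kP := KSplit28.isKRing_of_isModel hKP
  have kPX := KSplit28.isKRing_of_isModel hKPX
  have kM := KSplit28.isKRing_of_isModel hKM
  have kE := KSplit28.isKRing_of_isModel hKE
  obtain ⟨gq, l, el, hgq, -, -, -, -, -, -, hpow, -, hbasis⟩ := KSplit28.exists_PY_data 1 Y hKP hKY
  obtain ⟨gX, hgX, hlX, haX, -⟩ := KSplit28.exists_pullHom (KRR.pr 1 X) hKPX hKX
  obtain ⟨gb, hgb, -, -, -⟩ := KSplit28.exists_pullHom D.b hKM hKP
  obtain ⟨g₀, hg₀, hl₀, ha₀, -⟩ := KSplit28.exists_pullHom D.i₀ hKY hKM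
  obtain ⟨s₀, hs₀, -, -, -⟩ := KSplit28.exists_pullHom (P1.sect X 0) hKX hKPX
  obtain ⟨s₁, hs₁, -, -, -⟩ := KSplit28.exists_pullHom (P1.sect X 1) hKX hKPX
  obtain ⟨ge, hge, hle, hae, -⟩ := KSplit28.exists_pullHom D.e hKE hKM
  obtain ⟨gi, hgi, -, -, -⟩ := KSplit28.exists_pullHom D.fInf hKX hKE
  obtain ⟨hF, hFc⟩ := D.regular_F hf hC
  obtain ⟨hI, hIc⟩ := D.regular_fInf hf hC
  obtain ⟨pF, hpF, -⟩ := KPush28.existsUnique_isPushCl D.F hMe hF φPX hKPX.bijective φM
  obtain ⟨pI, hpI, -⟩ := KPush28.existsUnique_isPushCl D.fInf hEe hI φX hKX.bijective φE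
  -- the two classes
  set c := φX (KRR.cl X (Omega.conormal f)) with hcdef
  set Δ := adams PY j (h x) - h (KRR.bott PX j c * adams PX j x) with hΔdef
  suffices hΔ : Δ = 0 by rwa [hΔdef, sub_eq_zero] at hΔ
  set w := KRR.bott PPX j (gX c) * adams PPX j (gX x) with hwdef
  set δ := adams PM j (pF (gX x)) - pF w with hδdef
  have hw' : w = gX (KRR.bott PX j c * adams PX j x) := by
    rw [map_mul, KSplit28.map_bott gX hlX haX, KSplit28.map_adams' gX hlX haX]
  have hsX₀ : ∀ z, s₀ (gX z) = z :=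
    pull_comp (P1Lib24.sect_toBase X 0) kX hs₀ hgX (pull_id kX)
  have hsX₁ : ∀ z, s₁ (gX z) = z :=
    pull_comp (P1Lib24.sect_toBase X 1) kX hs₁ hgX (pull_id kX)
  -- restriction at zero
  have h0δ : g₀ δ = Δ := by
    have hb0 : ∀ y, g₀ (pF y) = h (s₀ y) := fun y =>
      pull_push D.isPullback_i₀ hMe hF hf hFc hC kPX hg₀ hs₀ hpF hh y
    rw [hδdef, map_sub, KSplit28.map_adams' g₀ hl₀ ha₀, hb0, hb0, hsX₀, hw', hsX₀]
  have h0Δ : g₀ (gb (gq Δ)) = Δ := by
    obtain ⟨gs, hgs, -, -, -⟩ := KSplit28.exists_pullHom (P1.sect Y 0) hKY hKP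
    rw [show g₀ (gb (gq Δ)) = gs (gq Δ) from pull_comp D.hi₀ kP hg₀ hgb hgs (gq Δ)]
    exact pull_comp (P1Lib24.sect_toBase Y 0) kY hgs hgq (pull_id kY) Δ
  let T : Fin (1 + 1) → (D.M.IdealSheafData) := fun k => (sectIdeal Y k).comap D.b
  have hT : ∀ k, BlowUp.IsEffCartierIdeal (T k) :=
    fun k => SDiv28.isEffCartier_comap D.hb (isEffCartier_sectIdeal Y k)
  let m : Fin (1 + 1) → KM := fun k => φM (KRR.cl D.M (ClSub.idealMod (T k)))
  have hzero : (δ - gb (gq Δ)) * (1 - m 0) = 0 := by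
    obtain ⟨KT, _, _, φT, hKT⟩ := exists_kring.{u} (T 0).subscheme
    obtain ⟨gT, hgT, -⟩ := KSplit28.exists_ringHom (T 0).subschemeι hKT kM
    refine mul_one_sub_eq_zero hMe (hT 0) kM hKT (g := gT.toAddMonoidHom) hgT ?_
    let k : (T 0).subscheme ⟶ Y := IsClosedImmersion.lift D.i₀ (T 0).subschemeι (by
      rw [Scheme.IdealSheafData.ker_subschemeι, D.ker_i₀])
    obtain ⟨gk, hgk, -⟩ := KSplit28.exists_ringHom k hKT kY
    show gT (δ - gb (gq Δ)) = 0
    have e : ∀ z, gk (g₀ z) = gT z := pull_comp (IsClosedImmersion.lift_fac _ _ _) kM hgk hg₀ hgT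
    rw [← e, map_sub, h0δ, h0Δ, sub_self, map_zero]
  -- restriction at infinity
  obtain ⟨B, hBeff, hBJ, hBF⟩ := D.exists_residual
  have hkillB : δ * (1 - φM (KRR.cl D.M (ClSub.idealMod B))) = 0 := by
    obtain ⟨KB, _, _, φB, hKB⟩ := exists_kring.{u} B.subscheme
    obtain ⟨gB, hgB, hlB⟩ := KSplit28.exists_ringHom B.subschemeι hKB kM
    refine mul_one_sub_eq_zero hMe hBeff kM hKB (g := gB.toAddMonoidHom) hgB ?_
    have hdis : Disjoint (Set.range B.subschemeι) (Set.range D.F) := by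
      rw [Set.disjoint_left]
      rintro _ hm ⟨p, rfl⟩
      rw [Scheme.IdealSheafData.range_subschemeι] at hm
      have hp : p ∈ (B.comap D.F).support := by
        rw [Scheme.IdealSheafData.support_comap]; exact hm
      rw [hBF, Scheme.IdealSheafData.support_top] at hp
      exact hp
    have hz : ∀ y, gB (pF y) = 0 := pull_push_eq_zero hMe hF B.subschemeι hdis kPX hgB hpF
    show gB δ = 0
    rw [hδdef, map_sub, hz, map_adams_eq_zero PM gB hlB hj (hz _), sub_zero]
  have hkillJ : δ * (1 - φM (KRR.cl D.M (ClSub.idealMod D.J))) = 0 := by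
    refine mul_one_sub_eq_zero hMe D.isEffCartier_J kM kE (g := ge.toAddMonoidHom) hge ?_
    show ge δ = 0
    have hbc : ∀ y, ge (pF y) = pI (s₁ y) :=
      pull_push D.isPullback_fInf hMe hF hI hFc hIc kPX hge hs₁ hpF hpI
    rw [hδdef, map_sub, KSplit28.map_adams' ge hle hae, hbc, hbc, hsX₁, hw', hsX₁]
    obtain ⟨L, hL, hLi, Q, hQ, hQeq, t, ht⟩ := D.exists_bundle hf hC
    rw [adams_push_section hEe D.fInf D.ρ D.fInf_ρ hI hIc hQ t ht hKX hKE gi hgi hpI hj x]
    refine sub_eq_zero.2 (congrArg (fun z => pI (KRR.bott PX j z * adams PX j x)) ?_)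
    -- the restriction of the bundle is the conormal bundle
    obtain ⟨gρ, hgρ, -, -, -⟩ := KSplit28.exists_pullHom D.ρ hKE hKX
    have hLf : FlatMod.IsFinLocFree L := VarietyLib.isFinLocFree_of_rank (PicLib.isFinLocFreeOfRank_one hLi)
    have hJf : FlatMod.IsFinLocFree (ClSub.idealMod D.J) := VarietyLib.isFinLocFree_of_rank
      (PicLib.isFinLocFreeOfRank_one (FlatMor12.IdealModGen.isInvertible_idealMod D.J D.isEffCartier_J))
    have hCf := VarietyLib.isFinLocFree_of_rank hC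
    have hQc : φE (KRR.cl _ Q) = gρ c * ge (φM (KRR.cl D.M L)) := by
      rw [show gρ c = _ from hgρ _ hCf, show ge (φM (KRR.cl D.M L)) = _ from hge _ hLf, hQeq,
        hKE.map_mul _ _ (FlatMorAdm.isFinLocFree_pullback D.ρ hCf) (FlatMorAdm.isFinLocFree_pullback D.e hLf)]
      rfl
    have hJ1 : gi (ge (φM (KRR.cl D.M (ClSub.idealMod D.J)))) = 1 := by
      obtain ⟨gFs, hgFs, -, -, -⟩ := KSplit28.exists_pullHom (P1.sect X 1 ≫ D.F) hKX hKM
      obtain ⟨gF, hgF, -, -, -⟩ := KSplit28.exists_pullHom D.F hKPX hKM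
      have e : ∀ z, gi (ge z) = s₁ (gF z) := fun z =>
        (pull_comp D.fInf_e kM hgi hge hgFs z).trans (pull_comp rfl kM hs₁ hgF hgFs z).symm
      rw [e, show gF _ = _ from hgF _ hJf]
      obtain ⟨e1⟩ := Inters29.nonempty_pullback_idealMod_iso D.F D.J D.isEffCartier_J
        (by rw [D.comap_J_F]; exact isEffCartier_sectIdeal X 1)
      obtain ⟨e2⟩ := nonempty_sectIdeal_iso X
      obtain ⟨e3⟩ := nonempty_pullback_idealMod (P1.sect X 1) (isEffCartier_sectIdeal X 0) (fun q hq => by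
        have := Set.disjoint_right.1 (disjoint_range_sect X (i := 0) (j := 1) (by decide)) ⟨q, rfl⟩
        exact this ((support_sectIdeal X 0).le hq))
      rw [show s₁ _ = _ from hs₁ _ (FlatMorAdm.isFinLocFree_pullback D.F hJf), ← hKX.map_one]
      refine congrArg φX (ExtFilt28.clv_iso ((Scheme.Modules.pullback (P1.sect X 1)).mapIso (e1 ≪≫ eqToIso
        (congrArg ClSub.idealMod D.comap_J_F) ≪≫ e2.symm) ≪≫ e3))
    have hL1 : gi (ge (φM (KRR.cl D.M L))) = 1 := by
      obtain ⟨eJL⟩ := hL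
      have hmul : φM (KRR.cl D.M (ClSub.idealMod D.J)) * φM (KRR.cl D.M L) = 1 := by
        rw [hKM.map_mul _ _ hJf hLf, ← hKM.map_one]
        exact congrArg φM (ExtFilt28.clv_iso eJL)
      have := congrArg (fun z => gi (ge z)) hmul
      simpa only [map_mul, map_one, hJ1, one_mul] using this
    rw [hQc, map_mul, hL1, mul_one]
    exact pull_comp D.fInf_ρ kX hgi hgρ (pull_id kX) c
  have hkill : δ * (1 - m 1) = 0 := by
    have hm : m 1 = φM (KRR.cl D.M (ClSub.idealMod B)) * φM (KRR.cl D.M (ClSub.idealMod D.J)) := by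
      rw [cl_mul_eff kM hBeff D.isEffCartier_J, hBJ]
    rw [hm]
    linear_combination hkillB + φM (KRR.cl D.M (ClSub.idealMod B)) * hkillJ
  -- on the projective line
  let t : Fin (1 + 1) → KP := fun k => φP (KRR.cl _ (ClSub.idealMod (sectIdeal Y k)))
  have hbt : ∀ k, gb (t k) = m k := fun k => by
    have hf' : FlatMod.IsFinLocFree (ClSub.idealMod (sectIdeal Y k)) := VarietyLib.isFinLocFree_of_rank
      (PicLib.isFinLocFreeOfRank_one (FlatMor12.IdealModGen.isInvertible_idealMod _ (isEffCartier_sectIdeal Y k)))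
    obtain ⟨e⟩ := Inters29.nonempty_pullback_idealMod_iso D.b _ (isEffCartier_sectIdeal Y k) (hT k)
    exact (hgb _ hf').trans (congrArg φM (ExtFilt28.clv_iso e))
  have ht01 : t 0 = t 1 := by
    obtain ⟨e⟩ := nonempty_sectIdeal_iso Y
    exact congrArg φP (ExtFilt28.clv_iso e)
  have hm01 : m 0 = m 1 := by rw [← hbt, ← hbt, ht01]
  have hker : gb (gq Δ * (1 - t 0)) = 0 := by
    rw [map_mul gb, map_sub gb (1 : KP), map_one, hbt]
    linear_combination (norm := ring_nf) hkill - hzero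
    rw [hm01]; ring
  haveI := D.isIso_b_off
  have hw0 : gq Δ * (1 - t 0) = 0 :=
    injective_pull hAP D.b (S3202.result (centre f) (isRegularClosedImmersion_centre f hf hC) D.b D.hb) i hib
      (Dual22Lib.ProjSmooth.smooth_toBase N (KRR.PY 1 Y)) (P1.sect Y 0) (centre f).ker.support.compl (Deformation.range_i₀ (f := f)) hPe hQe hKP kM hgb hker
  obtain ⟨gp, hgp, -⟩ := KPr28.existsUnique_isPushPr (n := 1) (Y := Y) φP hKP.bijective φY
  obtain ⟨-, hlin⟩ := KSplit28.pushPr_pull_mul 1 Y hKP hKY hgp hgq hpow hbasis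
  have hfin := congrArg gp hw0
  rwa [hlin, map_zero, pushPr_one_sub_sect hYe hPe 0 hKP.bijective hKP.map_one hKY.map_one hgp, mul_one] at hfin

end Groth.Agent.KRR28
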