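import Groth.Agent.KRR28.Deform
import Groth.Agent.BlowUpCoh.Regular

/-!
# The inverse image of the subscheme in the deformation
-/

set_option autoImplicit false
set_option backward.isDefEq.respectTransparency false
set_option linter.style.haveILetI false
set_option linter.unusedSectionVars false

universe u

open CategoryTheory CategoryTheory.Limits AlgebraicGeometry TopologicalSpace RingTheory.Sequence

noncomputable section

namespace Groth.Agent.KRR28

attribute [local instance] isLocallyNoetherian_PY1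

namespace Deformation

variable {X Y : Scheme.{u}} {f : X ⟶ Y} [IsClosedImmersion f] [IsLocallyNoetherian X] [IsLocallyNoetherian Y]
  (D : Deformation f) {d : ℕ}

/-- The projection to `Y`. -/
def π : D.M ⟶ Y := D.b ≫ KRR.pr 1 Y

theorem comap_π_le_J : f.ker.comap D.π ≤ D.J := by
  rw [π, Scheme.IdealSheafData.comap_comp, ← ker_projSpaceMap, J, ← Scheme.IdealSheafData.le_map_iff_comap_le]
  refine le_trans ?_ (Scheme.IdealSheafData.le_map_iff_comap_le.2 le_rfl)
  rw [show centre f = P1.sect X 1 ≫ KRR.projSpaceMap 1 f from (sect_projSpaceMap f 1).symm]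
  exact Scheme.Hom.le_ker_comp _ _

/-- The inverse image of `X` is the strict transform plus the exceptional divisor. -/
theorem ker_F_mul_J (hf : Mor2.IsRegularClosedImmersion f)
    (hC : FlatMod.IsFinLocFreeOfRank d (Omega.conormal f)) : D.F.ker * D.J = f.ker.comap D.π := by
  haveI := D.isLocallyNoetherian_M
  obtain ⟨K, hK⟩ := ModPairLib.exists_mul_eq D.isEffCartier_J D.comap_π_le_J
  obtain ⟨B, -, hB, -⟩ := D.exists_residual
  suffices h : D.F.ker = K by rw [h, hK]
  refine ModPairLib.eq_of_local fun m => ?_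
  let g := KRR.projSpaceMap 1 f
  by_cases hm : m ∈ (K.support : Set D.M) ∪ Set.range D.F
  swap
  · obtain ⟨V, hV, hmV, hle⟩ := exists_isAffineOpen_mem_and_subset (x := m)
      (U := K.support.compl ⊓ ⟨(Set.range D.F)ᶜ, D.F.isClosedEmbedding.isClosed_range.isOpen_compl⟩)
      ⟨fun h => hm (Or.inl h), fun h => hm (Or.inr h)⟩
    refine ⟨⟨V, hV⟩, hmV, ?_⟩
    rw [BlowUpCoh.ideal_eq_top_of_disjoint (I := K) ⟨V, hV⟩ fun x hx => (hle hx).1,
      BlowUpCoh.ideal_eq_top_of_disjoint (I := D.F.ker) ⟨V, hV⟩ fun x hx h => ?_]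
    have h' : x ∈ (D.F.ker.support : Set D.M) := h
    rw [Scheme.Hom.support_ker] at h'
    exact (hle hx).2 (D.F.isClosedEmbedding.isClosed_range.closure_eq.le h')
  have hIJ : f.ker.comap D.π = g.ker.comap D.b := by
    rw [π, Scheme.IdealSheafData.comap_comp, ← ker_projSpaceMap]
  obtain ⟨z, hz⟩ : ∃ z, g z = D.b m := by
    rcases hm with hm | ⟨z, rfl⟩
    · have h1 : m ∈ ((g.ker.comap D.b).support : Set D.M) := by
        rw [← hIJ]
        exact Scheme.IdealSheafData.support_antitone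
          (show f.ker.comap D.π ≤ K from fun W => by rw [← hK, SDiv28.mul_ideal]; exact @Ideal.mul_le_left _ _ _ (D.J.ideal W) _) hm
      rw [Scheme.IdealSheafData.support_comap] at h1
      have h2 : D.b m ∈ (g.ker.support : Set _) := h1
      rw [Scheme.Hom.support_ker] at h2
      exact g.isClosedEmbedding.isClosed_range.closure_eq.le h2
    · exact ⟨z, by rw [← Scheme.Hom.comp_apply, D.hF]⟩
  obtain ⟨U, c, hzU, hT1, hI, hKc, hker, -⟩ := exists_coords f hf hC z
  have hmU : D.b m ∈ U.1 := hz ▸ hzU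
  obtain ⟨V, hVU, T, hpre, hkerT, hw, hJV, hVeq, hrel⟩ := exists_strict_chart D.hb g D.hF
    (by rw [comap_centre]; exact isEffCartier_sectIdeal X 1) U c hI hKc hker
  have hmV : m ∈ V.1 := by
    rcases hm with hm | ⟨z', rfl⟩
    swap
    · show z' ∈ D.F ⁻¹ᵁ V.1
      rw [hpre]
      show g z' ∈ U.1
      rwa [show g z' = D.b (D.F z') by rw [← Scheme.Hom.comp_apply, D.hF]]
    rw [hVeq, BlowUpLib.mem_locus]
    obtain ⟨W, hmW, hWU, j, hj, hjW⟩ := ModPairLib.exists_local D.isEffCartier_J m (D.b ⁻¹ᵁ U.1) hmU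
    let β := (D.b.appLE U.1 W.1 hWU).hom
    have hBJ : B.ideal W * Ideal.span {j} = Ideal.span {β (c 0)} := by
      rw [← hjW, ← SDiv28.mul_ideal, hB, ProjLib.comap_ideal_eq _ D.b U W hWU, hT1, Ideal.map_span,
        Set.image_singleton]
    have hKJ : K.ideal W * Ideal.span {j} = (g.ker.ideal U).map β := by
      rw [← hjW, ← SDiv28.mul_ideal, hK, hIJ, ProjLib.comap_ideal_eq _ D.b U W hWU]
    have hsum : (B.ideal W ⊔ K.ideal W) * Ideal.span {j} = Ideal.span {j} := by
      rw [Ideal.sup_mul, hBJ, hKJ, ← hjW, J, ProjLib.comap_ideal_eq _ D.b U W hWU, hI, hker]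
      rw [← Set.image_singleton, ← Ideal.map_span, ← Ideal.map_sup, ← Ideal.span_union, Set.singleton_union]
      exact congrArg (fun s => Ideal.map β (Ideal.span s)) (Fin.range_cons (c 0) fun j => c j.succ).symm |>.trans
        (by rw [show Fin.cons (c 0) (fun j : Fin d => c j.succ) = c from Fin.cons_self_tail c])
    have htop : B.ideal W ⊔ K.ideal W = ⊤ := by
      rw [Ideal.eq_top_iff_one]
      obtain ⟨w, hw, hwj⟩ := Ideal.mem_mul_span_singleton.1 (hsum.ge (Ideal.mem_span_singleton_self j))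
      rwa [show w = 1 from (mul_cancel_right_mem_nonZeroDivisors hj).1 (hwj.trans (one_mul j).symm)] at hw
    have hmB : m ∉ (B.support : Set D.M) := by
      intro hmB
      have h1 := ((B.mem_support_iff_of_mem hmW).1 hmB)
      have h2 := ((K.mem_support_iff_of_mem hmW).1 hm)
      rw [Scheme.mem_zeroLocus_iff] at h1 h2
      let p := (IsLocalRing.maximalIdeal (D.M.presheaf.stalk m)).comap (D.M.presheaf.germ W.1 m hmW).hom
      have hle : ∀ (A : Ideal Γ(D.M, W.1)), (∀ a ∈ A, m ∉ D.M.basicOpen a) → A ≤ p := fun A hA a ha hu =>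
        hA a ha ((Scheme.mem_basicOpen _ _ _ hmW).2 hu)
      have h3 : B.ideal W ⊔ K.ideal W ≤ p := sup_le (hle _ h1) (hle _ h2)
      rw [htop, top_le_iff] at h3
      exact Ideal.comap_ne_top _ (IsLocalRing.maximalIdeal.isMaximal _).ne_top h3
    obtain ⟨W', hW', hmW', hle⟩ := exists_isAffineOpen_mem_and_subset (x := m) (U := W.1 ⊓ B.support.compl) ⟨hmW, hmB⟩
    have hW'U : W' ≤ D.b ⁻¹ᵁ U.1 := fun x hx => hWU (hle hx).1
    refine ⟨⟨W', hW'⟩, hmW', hW'U, ?_⟩
    have h := congrArg (fun A : D.M.IdealSheafData => A.ideal ⟨W', hW'⟩) hB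
    simp only [SDiv28.mul_ideal, BlowUpCoh.ideal_eq_top_of_disjoint (I := B) ⟨W', hW'⟩ fun x hx => (hle hx).2,
      Ideal.top_mul, ProjLib.comap_ideal_eq _ D.b U ⟨W', hW'⟩ hW'U, hT1, Ideal.map_span, Set.image_singleton] at h
    exact h
  refine ⟨V, hmV, ?_⟩
  let t := (D.b.appLE U.1 V.1 hVU).hom (c 0)
  have ht : t ∈ nonZeroDivisors Γ(D.M, V.1) := BlowUpLib.mem_nonZeroDivisors_of_eff D.isEffCartier_J hJV
  have e : K.ideal V * Ideal.span {t} = Ideal.span (Set.range T) * Ideal.span {t} := by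
    rw [← show D.J.ideal V = Ideal.span {t} from hJV, ← SDiv28.mul_ideal, hK, hIJ,
      show D.J.ideal V = Ideal.span {t} from hJV, ProjLib.comap_ideal_eq _ D.b U V hVU, hker, Ideal.map_span,
      Ideal.span_mul_span', ← Set.range_comp, Set.mul_singleton, ← Set.range_comp]
    exact congrArg Ideal.span (congrArg Set.range (funext fun j => (hrel j).trans (mul_comm _ _)))
  rw [hkerT]
  refine le_antisymm (fun x hx => ?_) (fun x hx => ?_)
  · obtain ⟨w, hw, hwx⟩ := Ideal.mem_mul_span_singleton.1 (e.ge (Ideal.mem_mul_span_singleton.2 ⟨x, hx, rfl⟩))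
    exact (mul_cancel_right_mem_nonZeroDivisors ht).1 hwx ▸ hw
  · obtain ⟨w, hw, hwx⟩ := Ideal.mem_mul_span_singleton.1 (e.le (Ideal.mem_mul_span_singleton.2 ⟨x, hx, rfl⟩))
    exact (mul_cancel_right_mem_nonZeroDivisors ht).1 hwx ▸ hw

end Deformation

end Groth.Agent.KRR28
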